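import Cfsg.Agent.Omega.IId.SymWr.Fours

/-!
# II.d, `SwBig`: the duads (THEOREM L, bb OMEGA #17498)

* `pr M p q` : the element of `V` with support `{p, q}` (`p`, `q` in the same summand); `conj_pr`;
* `comm_iff` : `g ∈ P` commutes with `v ∈ V` iff the support of `v` is invariant;
* `exists_cyc` : 3-cycles.
-/

set_option autoImplicit false

namespace Cfsg.Agent.Omega.IId.SymWr

open Subgroup Pointwise Cfsg Cfsg.Agent.ZN Cfsg.Agent.Omega.MinPar Cfsg.Agent.Omega.FFThm
open Cfsg.Agent.Omega.Half (Amb amb_of_loc)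
open Cfsg.Agent.Omega.Half.SymA (Pt E Mv pm)

universe u

variable {G : Type u} [Group G] {P V : Subgroup G} {k m : ℕ}

open scoped Classical in
/-- the duad `{p, q}` -/
noncomputable def pr {S : Subgroup G} (M : SymK S P V ⊥ k m) (p q : Pt k m) : G :=
  if h : p.1 = q.1 then (Half.SymA.exists_pair M h).choose else 1

section pr

variable {S : Subgroup G} (M : SymK S P V ⊥ k m)

theorem pr_mem (p q : Pt k m) : pr M p q ∈ V := by
  unfold pr
  split_ifs with h
  · exact (Half.SymA.exists_pair M h).choose_spec.1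
  · exact one_mem V

open scoped Classical in
theorem E_pr {p q : Pt k m} (h : p.1 = q.1) (r : Pt k m) :
    E M (pr M p q) r = (if r = p then 1 else 0) + (if r = q then 1 else 0) := by
  unfold pr
  rw [dif_pos h]
  exact (Half.SymA.exists_pair M h).choose_spec.2 r

theorem E_pr_left {p q : Pt k m} (h : p.1 = q.1) (hne : p ≠ q) : E M (pr M p q) p = 1 := by
  rw [E_pr M h, if_pos rfl, if_neg hne, add_zero]

theorem E_pr_right {p q : Pt k m} (h : p.1 = q.1) (hne : p ≠ q) : E M (pr M p q) q = 1 := by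
  rw [E_pr M h, if_pos rfl, if_neg hne.symm, zero_add]

theorem E_pr_of_ne {p q r : Pt k m} (h : p.1 = q.1) (h1 : r ≠ p) (h2 : r ≠ q) : E M (pr M p q) r = 0 := by
  rw [E_pr M h, if_neg h1, if_neg h2, add_zero]

theorem pr_comm {p q : Pt k m} (h : p.1 = q.1) : pr M p q = pr M q p :=
  Half.SymA.inj M (pr_mem M _ _) (pr_mem M _ _) fun r => by rw [E_pr M h, E_pr M h.symm, add_comm]

theorem pr_mul {p q r : Pt k m} (h : p.1 = q.1) (h' : q.1 = r.1) : pr M p q * pr M q r = pr M p r := by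
  refine Half.SymA.inj M (mul_mem (pr_mem M _ _) (pr_mem M _ _)) (pr_mem M _ _) fun s => ?_
  rw [Half.SymA.E_mul M (pr_mem M _ _) (pr_mem M _ _), E_pr M h, E_pr M h', E_pr M (h.trans h')]
  have : ∀ a b c : ZMod 2, a + b + (b + c) = a + c := by decide
  exact this _ _ _

end pr

namespace Sit

variable {S : Sylow 2 G} {M : SymK (S : Subgroup G) P V ⊥ k m} (h : Sit S P V M)

include h

theorem Vcomm {a b : G} (ha : a ∈ V) (hb : b ∈ V) : a * b = b * a := h.amb.comm a ha b hb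

theorem Vsq {a : G} (ha : a ∈ V) : a * a = 1 := by rw [← pow_two]; exact h.amb.sq a ha

theorem conj_pr {g : G} (hg : g ∈ P) {p q : Pt k m} (hpq : p.1 = q.1) :
    g * pr M p q * g⁻¹ = pr M (pp M g p) (pp M g q) := by
  refine Half.SymA.inj M (h.amb.conj_mem hg (pr_mem M _ _)) (pr_mem M _ _) fun r => ?_
  rw [E_conj' hg (pr_mem M _ _), E_pr M hpq, E_pr M (h.fst hg hpq)]
  simp only [Equiv.Perm.inv_eq_iff_eq]

/-- `g ∈ P` commutes with `v ∈ V` iff it preserves the support -/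
theorem comm_iff {g : G} (hg : g ∈ P) {v : G} (hv : v ∈ V) :
    g * v = v * g ↔ ∀ p, E M v (pp M g p) = E M v p := by
  constructor
  · intro h1 p
    have h2 := E_conj (M := M) hg hv p
    rwa [h1, mul_inv_cancel_right] at h2
  · intro h1
    have h2 : g * v * g⁻¹ = v := by
      refine Half.SymA.inj M (h.amb.conj_mem hg hv) hv fun r => ?_
      have h3 := h1 ((pp M g)⁻¹ r)
      rw [E_conj' hg hv, ← h3]
      congr 1
      exact (pp M g).apply_symm_apply r
    rwa [mul_inv_eq_iff_eq_mul] at h2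

/-- `g` commutes with a duad it preserves -/
theorem comm_pr {g : G} (hg : g ∈ P) {p q : Pt k m} (hpq : p.1 = q.1)
    (h1 : (pp M g p = p ∧ pp M g q = q) ∨ (pp M g p = q ∧ pp M g q = p)) :
    g * pr M p q = pr M p q * g := by
  have h2 := h.conj_pr hg hpq
  have h3 : g * pr M p q * g⁻¹ = pr M p q := by
    rcases h1 with h1 | h1
    · rw [h2, h1.1, h1.2]
    · rw [h2, h1.1, h1.2, pr_comm M hpq]
  rwa [mul_inv_eq_iff_eq_mul] at h3

/-- an element inducing the 3-cycle `(a b c)` of one summand -/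
theorem exists_cyc {a b c : Pt k m} (hab : a.1 = b.1) (hbc : b.1 = c.1) (h1 : a ≠ b) (h2 : b ≠ c) (h3 : a ≠ c) :
    ∃ g ∈ P, pp M g a = b ∧ pp M g b = c ∧ pp M g c = a ∧ ∀ r, r ≠ a → r ≠ b → r ≠ c → pp M g r = r := by
  classical
  obtain ⟨g, hg, h4⟩ := h.exists_pp (π := Equiv.swap a b * Equiv.swap b c) (by
    intro r
    rw [Equiv.Perm.mul_apply]
    have key : ∀ x y : Pt k m, x.1 = y.1 → ∀ r, (Equiv.swap x y r).1 = r.1 := by
      intro x y hxy r
      rcases eq_or_ne r x with rfl | hx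
      · rw [Equiv.swap_apply_left, hxy]
      · rcases eq_or_ne r y with rfl | hy
        · rw [Equiv.swap_apply_right, hxy]
        · rw [Equiv.swap_apply_of_ne_of_ne hx hy]
    rw [key a b hab, key b c hbc])
  refine ⟨g, hg, ?_, ?_, ?_, ?_⟩
  · rw [h4, Equiv.Perm.mul_apply, Equiv.swap_apply_of_ne_of_ne h1 h3, Equiv.swap_apply_left]
  · rw [h4, Equiv.Perm.mul_apply, Equiv.swap_apply_left, Equiv.swap_apply_of_ne_of_ne h3.symm h2.symm]
  · rw [h4, Equiv.Perm.mul_apply, Equiv.swap_apply_right, Equiv.swap_apply_right]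
  · intro r ha hb hc
    rw [h4, Equiv.Perm.mul_apply, Equiv.swap_apply_of_ne_of_ne hb hc, Equiv.swap_apply_of_ne_of_ne ha hb]

/-! ### `Ω₁(Z(O₂(P)))` -/

omit h in
theorem zz_comm {y y' : G} (hy : y ∈ zc (o2 P)) (hy' : y' ∈ zc (o2 P)) : y * y' = y' * y :=
  MinSimple.VModule.zc_comm (o2 P) y hy y' hy'

omit h in
theorem zz_sq {y : G} (hy : y ∈ zc (o2 P)) : y * y = 1 := by
  rw [← pow_two]; exact MinSimple.VModule.zc_sq _ y hy

omit h in
theorem zz_conj {g y : G} (hg : g ∈ P) (hy : y ∈ zc (o2 P)) : g * y * g⁻¹ ∈ zc (o2 P) :=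
  (mem_normalizer_iff.1 (((MinSimple.VModule.le_normalizer_o2 P).trans
    (MinSimple.VModule.normalizer_le_normalizer_zc _)) hg) y).1 hy

/-- the action on `Ω₁(Z(O₂(P)))` only depends on the permutation of the points -/
theorem zz_eq {g g' : G} (hg : g ∈ P) (hg' : g' ∈ P) (hgg : pp M g = pp M g') {y : G} (hy : y ∈ zc (o2 P)) :
    g * y * g⁻¹ = g' * y * g'⁻¹ := by
  have h1 : g'⁻¹ * g ∈ P ⊓ centralizer (V : Set G) :=
    mem_inf.2 ⟨P.mul_mem (P.inv_mem hg') hg, (pp_eq_iff h.amb h.hm1 hg' hg).1 hgg.symm⟩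
  have h2 := mem_centralizer_iff.1 (h.cZ h1) y hy
  calc g * y * g⁻¹ = g' * (g'⁻¹ * g * y) * g⁻¹ := by group
    _ = g' * (y * (g'⁻¹ * g)) * g⁻¹ := by rw [h2]
    _ = g' * y * g'⁻¹ := by group

end Sit

end Cfsg.Agent.Omega.IId.SymWr
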