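import Cfsg.Agent.Omega.IId.SymWr.EThm

/-!
# (E) of THEOREM L with an arbitrary summand `D` (bb OMEGA #17498, #18308, #18777)

As `EThm.lean`, but without the groups `C i`, and `S` may have a subgroup `D0` of fixed vectors which are fixed by all
`B i`: the fixed vectors of `S` are in `D0 ∪ (z + D0)`.

* `EDatE` : the hypotheses; `EDat.toE` : the old ones;
* `EDatE.main` : if `x` is fixed by the stabiliser of `i` in `S`, then `x = φ` or `x = φ + sg i`, `φ` fixed by `B i`.

Proof: `e l` := transfer from `S ⊓ B l` to `B l` (commuting idempotents on the fixed vectors of the kernel of `S` on the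
indices), `g l := 1 - e l`; `g i (g j y) = 0` for `i ≠ j`.
-/

set_option autoImplicit false

namespace Cfsg.Agent.Omega.IId.SymWr

open Subgroup

variable {Γ Y I : Type*} [Group Γ] [AddCommGroup Y] [DistribMulAction Γ Y]

/-- The hypotheses of (E) with a summand `D0`. -/
structure EDatE (S : Subgroup Γ) (B : I → Subgroup Γ) (a : Γ → Equiv.Perm I) (V : I → AddSubgroup Y) (sg : I → Y)
    (z : Y) (D0 : AddSubgroup Y) : Prop where
  two : IsPGroup 2 S
  add_self : ∀ y : Y, y + y = 0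
  a_mul : ∀ s ∈ S, ∀ t ∈ S, a (s * t) = a s * a t
  trans : ∀ i j, ∃ s ∈ S, a s i = j
  conjB : ∀ s ∈ S, ∀ i, ∀ b ∈ B i, s * b * s⁻¹ ∈ B (a s i)
  comm : ∀ i j, i ≠ j → ∀ b ∈ B i, ∀ c ∈ B j, b * c = c * b
  oddB : ∀ i, Odd (S.relIndex (B i))
  fixS : ∀ y : Y, (∀ s ∈ S, s • y = y) → y ∈ D0 ∨ y + z ∈ D0
  D_fix : ∀ i, ∀ b ∈ B i, ∀ d ∈ D0, b • d = d
  z_ne : z ≠ 0
  sg_mem : ∀ i, sg i ∈ V i
  V_inv : ∀ i, ∀ b ∈ B i, ∀ v ∈ V i, b • v ∈ V i
  V_fix : ∀ i, ∀ v ∈ V i, (∀ b ∈ B i, b • v = v) → v = 0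
  sg_S : ∀ s ∈ S, ∀ i, s • sg i = sg (a s i)
  sg_B : ∀ i j, i ≠ j → ∀ b ∈ B i, b • sg j = sg j
  sum : ∑ᶠ i, sg i = z

theorem EDat.toE {S : Subgroup Γ} {B C : I → Subgroup Γ} {a : Γ → Equiv.Perm I} {V : I → AddSubgroup Y} {sg : I → Y}
    {z : Y} (h : EDat S B C a V sg z) : EDatE S B a V sg z ⊥ where
  two := h.two
  add_self := h.add_self
  a_mul := h.a_mul
  trans := h.trans
  conjB := h.conjB
  comm := fun i j hij b hb c hc => h.comm i b hb c (h.B_le i j hij.symm hc)
  oddB := h.oddB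
  fixS := fun y hy => by
    rcases h.fixS y hy with h1 | h1
    · exact Or.inl (AddSubgroup.mem_bot.2 h1)
    · exact Or.inr (AddSubgroup.mem_bot.2 (by rw [h1, h.add_self]))
  D_fix := fun i b _ d hd => by rw [AddSubgroup.mem_bot.1 hd, smul_zero]
  z_ne := h.z_ne
  sg_mem := h.sg_mem
  V_inv := h.V_inv
  V_fix := h.V_fix
  sg_S := h.sg_S
  sg_B := fun i j hij b hb => h.sg_C j b (h.B_le j i hij hb)
  sum := h.sum

namespace EDatE

variable {S : Subgroup Γ} {B : I → Subgroup Γ} {a : Γ → Equiv.Perm I} {V : I → AddSubgroup Y} {sg : I → Y} {z : Y}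
  {D0 : AddSubgroup Y} (h : EDatE S B a V sg z D0)

include h

theorem a_one : a 1 = 1 := by
  have := h.a_mul 1 (one_mem S) 1 (one_mem S)
  rw [mul_one] at this
  exact (mul_eq_left (a := a 1)).1 this.symm

theorem a_inv {s : Γ} (hs : s ∈ S) : a s⁻¹ = (a s)⁻¹ := by
  have := h.a_mul s⁻¹ (inv_mem hs) s hs
  rw [inv_mul_cancel, h.a_one] at this
  exact eq_inv_of_mul_eq_one_left this.symm

theorem a_inv_apply {s : Γ} (hs : s ∈ S) (i : I) : a s⁻¹ (a s i) = i := by
  rw [h.a_inv hs]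
  exact (a s).symm_apply_apply i

theorem sg_ne (i : I) : sg i ≠ 0 := by
  intro h0
  refine h.z_ne ?_
  rw [← h.sum]
  refine finsum_eq_zero_of_forall_eq_zero fun j => ?_
  obtain ⟨s, hs, h1⟩ := h.trans i j
  rw [← h1, ← h.sg_S s hs, h0, smul_zero]

theorem add_add_cancel (x y : Y) : x + y + y = x := by rw [add_assoc, h.add_self, add_zero]

theorem eq_of_add {x y : Y} (h0 : x + y = 0) : x = y := by
  rw [← h.add_add_cancel x y, h0, zero_add]

/-- `sg i` is moved by `B i` -/
theorem exists_moved (i : I) : ∃ b ∈ B i, b • sg i ≠ sg i := by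
  by_contra hcon
  push Not at hcon
  exact h.sg_ne i (h.V_fix i _ (h.sg_mem i) hcon)

theorem conjB_iff {s : Γ} (hs : s ∈ S) (i : I) (x : Γ) : s * x * s⁻¹ ∈ B (a s i) ↔ x ∈ B i := by
  refine ⟨fun hx => ?_, h.conjB s hs i x⟩
  have h1 := h.conjB s⁻¹ (inv_mem hs) _ _ hx
  rw [h.a_inv_apply hs] at h1
  convert h1 using 1
  group

/-- `S ∩ B i` acts trivially on the indices -/
theorem a_of_B {i : I} {s : Γ} (hs : s ∈ S) (hB : s ∈ B i) : a s = 1 := by
  have key : ∀ j, j ≠ i → a s j = j := by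
    intro j hj
    by_contra hne
    obtain ⟨b, hb, h1⟩ := h.exists_moved j
    have h2 := h.conjB s hs j b hb
    rw [h.comm i j hj.symm s hB b hb, mul_inv_cancel_right] at h2
    exact h1 (h.sg_B _ j hne b h2)
  ext j
  by_cases hj : j = i
  · by_contra hne
    rw [Equiv.Perm.one_apply] at hne
    have h1 : a s (a s j) = a s j := key _ (by rwa [hj] at hne ⊢)
    exact hne ((a s).injective h1)
  · rw [key j hj, Equiv.Perm.one_apply]

theorem FE_B {y : Y} (hy : EDat.FE S a y) (i : I) : ∀ s ∈ S, s ∈ B i → s • y = y :=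
  fun s hs hB => hy s hs (h.a_of_B hs hB)

theorem FE_smul {y : Y} (hy : EDat.FE S a y) {s : Γ} (hs : s ∈ S) : EDat.FE S a (s • y) := by
  intro t ht h1
  have h2 : s⁻¹ * t * s ∈ S := mul_mem (mul_mem (inv_mem hs) ht) hs
  have h3 : a (s⁻¹ * t * s) = 1 := by
    rw [h.a_mul _ (mul_mem (inv_mem hs) ht) _ hs, h.a_mul _ (inv_mem hs) _ ht, h1, h.a_inv hs, mul_one,
      inv_mul_cancel]
  have h4 := hy _ h2 h3
  rw [mul_assoc, mul_smul, inv_smul_eq_iff, mul_smul] at h4
  exact h4

theorem FE_sg (i : I) : EDat.FE S a (sg i) := fun s hs h1 => by rw [h.sg_S s hs, h1, Equiv.Perm.one_apply]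

variable [Finite Γ]

theorem smul_eB {y : Y} (hy : EDat.FE S a y) {s : Γ} (hs : s ∈ S) (i : I) :
    s • tr S (B i) y = tr S (B (a s i)) (s • y) :=
  smul_tr (h.FE_B hy i) (EDat.conjS_iff hs) (h.conjB_iff hs i)

theorem FE_eB {y : Y} (hy : EDat.FE S a y) (i : I) : EDat.FE S a (tr S (B i) y) := fun s hs h1 => by
  rw [h.smul_eB hy hs, h1, Equiv.Perm.one_apply, hy s hs h1]

/-- `e` is the identity on the fixed vectors of `B i` -/
theorem eB_fix {i : I} {y : Y} (hy : ∀ b ∈ B i, b • y = y) : tr S (B i) y = y :=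
  tr_odd hy (h.oddB i) (h.add_self y)

theorem eB_eB {y : Y} (hy : EDat.FE S a y) (i : I) : tr S (B i) (tr S (B i) y) = tr S (B i) y :=
  h.eB_fix fun _ hb => smul_tr_mem (h.FE_B hy i) hb

theorem eB_comm (i j : I) (y : Y) : tr S (B i) (tr S (B j) y) = tr S (B j) (tr S (B i) y) := by
  by_cases hij : i = j
  · rw [hij]
  · exact tr_comm (h.comm i j hij) y

theorem eB_sg (i : I) : tr S (B i) (sg i) = 0 := by
  refine h.V_fix i _ ?_ fun b hb => smul_tr_mem (h.FE_B (h.FE_sg i) i) hb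
  classical
  have := Fintype.ofFinite (B i ⧸ S.subgroupOf (B i))
  rw [tr, finsum_eq_sum_of_fintype]
  exact sum_mem fun c _ => h.V_inv i _ (Quotient.out c : B i).2 _ (h.sg_mem i)

theorem eB_sg_ne {i j : I} (hij : i ≠ j) : tr S (B i) (sg j) = sg j := h.eB_fix (h.sg_B i j hij)

omit h [Finite Γ] in
/-- `g i := 1 - e i` -/
noncomputable def gB (S : Subgroup Γ) (B : I → Subgroup Γ) (i : I) (y : Y) : Y := y + tr S (B i) y

omit h [Finite Γ] in
theorem gB_add [Finite Γ] (i : I) (x y : Y) : gB S B i (x + y) = gB S B i x + gB S B i y := by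
  rw [gB, gB, gB, tr_add]
  abel

theorem gB_comm (i j : I) (y : Y) : gB S B i (gB S B j y) = gB S B j (gB S B i y) := by
  simp only [gB, tr_add]
  rw [h.eB_comm i j]
  abel

theorem FE_gB {y : Y} (hy : EDat.FE S a y) (i : I) : EDat.FE S a (gB S B i y) :=
  EDat.FE_add hy (h.FE_eB hy i)

theorem smul_gB {y : Y} (hy : EDat.FE S a y) {s : Γ} (hs : s ∈ S) (i : I) :
    s • gB S B i y = gB S B (a s i) (s • y) := by
  rw [gB, smul_add, h.smul_eB hy hs, gB]

theorem gB_eB {y : Y} (hy : EDat.FE S a y) (i : I) : gB S B i (tr S (B i) y) = 0 := by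
  rw [gB, h.eB_eB hy, h.add_self]

theorem eB_gB {y : Y} (hy : EDat.FE S a y) (i : I) : tr S (B i) (gB S B i y) = 0 := by
  rw [gB, tr_add, h.eB_eB hy, h.add_self]

theorem eB_gB_comm (i j : I) (y : Y) : tr S (B i) (gB S B j y) = gB S B j (tr S (B i) y) := by
  rw [gB, gB, tr_add, h.eB_comm]

variable [Finite Y]

/-- an `S`-invariant subgroup which contains no nonzero vector of `D0 ∪ (z + D0)` is trivial -/
theorem eq_zero_of {W : AddSubgroup Y} (hW : ∀ s ∈ S, ∀ w ∈ W, s • w ∈ W) (hD : ∀ d ∈ D0, d ∈ W → d = 0)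
    (hz : ∀ d ∈ D0, d + z ∉ W) {w : Y} (hw : w ∈ W) : w = 0 := by
  by_contra hw0
  obtain ⟨v, hv, hv0, h1⟩ := exists_fixed h.two W hW h.add_self hw hw0
  rcases h.fixS v h1 with h2 | h2
  · exact hv0 (hD v h2 hv)
  · refine hz _ h2 ?_
    rwa [h.add_add_cancel]

variable [Finite I]

omit [Finite Y] in
/-- the transfers kill `sg` one after the other -/
theorem exists_list (i : I) : ∃ E : Y → Y, (∀ x y, E (x + y) = E x + E y) ∧
    (∀ y, EDat.FE S a y → EDat.FE S a (E y)) ∧ (∀ d ∈ D0, E d = d) ∧ E z = sg i ∧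
    (∀ j, j ≠ i → ∀ y, EDat.FE S a y → E (gB S B j y) = 0) := by
  classical
  have := Fintype.ofFinite I
  -- `E` = the product of the `e j`, `j ∈ s`
  have key : ∀ s : Finset I, ∃ E : Y → Y, (∀ x y, E (x + y) = E x + E y) ∧
      (∀ y, EDat.FE S a y → EDat.FE S a (E y)) ∧ (∀ d ∈ D0, E d = d) ∧ (∀ j ∉ s, E (sg j) = sg j) ∧
      (∀ j ∈ s, E (sg j) = 0) ∧ (∀ j ∈ s, ∀ y, EDat.FE S a y → E (gB S B j y) = 0) ∧
      (∀ j y, EDat.FE S a y → E (gB S B j y) = gB S B j (E y)) := by
    intro s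
    induction s using Finset.induction_on with
    | empty =>
      exact ⟨id, fun _ _ => rfl, fun _ h => h, fun _ _ => rfl, fun _ _ => rfl, fun j hj => by simp at hj,
        fun j hj => by simp at hj, fun _ _ _ => rfl⟩
    | insert l s hl ih =>
      obtain ⟨E, hadd, hFE, hD, hout, hin, hk, hcm⟩ := ih
      refine ⟨fun y => tr S (B l) (E y), fun x y => by
        beta_reduce
        rw [hadd, tr_add], fun y hy => h.FE_eB (hFE y hy) l,
        fun d hd => ?_, fun j hj => ?_, fun j hj => ?_, fun j hj y hy => ?_, fun j y hy => ?_⟩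
      · beta_reduce
        rw [hD d hd]
        exact h.eB_fix fun b hb => h.D_fix l b hb d hd
      · beta_reduce
        rw [Finset.mem_insert, not_or] at hj
        rw [hout j hj.2]
        exact h.eB_sg_ne (Ne.symm hj.1)
      · beta_reduce
        rcases Finset.mem_insert.1 hj with rfl | h1
        · rw [hout j hl]
          exact h.eB_sg j
        · rw [hin j h1, tr_zero]
      · beta_reduce
        rcases Finset.mem_insert.1 hj with rfl | h1
        · rw [hcm j y hy]
          exact h.eB_gB (hFE y hy) j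
        · rw [hk j h1 y hy, tr_zero]
      · beta_reduce
        rw [hcm j y hy, h.eB_gB_comm]
  obtain ⟨E, hadd, hFE, hD, hout, hin, hk, -⟩ := key (Finset.univ.erase i)
  refine ⟨E, hadd, hFE, hD, ?_, fun j hj => hk j (Finset.mem_erase.2 ⟨hj, Finset.mem_univ j⟩)⟩
  have hE0 : E 0 = 0 := hD 0 (zero_mem D0)
  let E' : Y →+ Y := { toFun := E, map_zero' := hE0, map_add' := hadd }
  have h1 : E z = E' z := rfl
  rw [h1, ← h.sum, finsum_eq_sum_of_fintype, map_sum, ← Finset.add_sum_erase _ _ (Finset.mem_univ i),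
    Finset.sum_eq_zero, add_zero]
  · exact hout i (Finset.notMem_erase i _)
  · exact fun j hj => hin j hj

/-- **`g i g j = 0`** -/
theorem gB_gB {i j : I} (hij : i ≠ j) {y : Y} (hy : EDat.FE S a y) : gB S B i (gB S B j y) = 0 := by
  -- the subgroup generated by the `g k (g l x)`
  let W : AddSubgroup Y := AddSubgroup.closure
    {w | ∃ k l x, k ≠ l ∧ EDat.FE S a x ∧ w = gB S B k (gB S B l x)}
  obtain ⟨E, hadd, hFE, hD, hz, hk⟩ := h.exists_list i
  have hE0 : E 0 = 0 := hD 0 (zero_mem D0)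
  let E' : Y →+ Y := { toFun := E, map_zero' := hE0, map_add' := hadd }
  have hEW : ∀ w ∈ W, E w = 0 := by
    intro w hw
    have h1 : W ≤ E'.ker := by
      rw [AddSubgroup.closure_le]
      rintro _ ⟨k, l, x, hkl, hx, rfl⟩
      rw [SetLike.mem_coe, AddMonoidHom.mem_ker]
      change E (gB S B k (gB S B l x)) = 0
      by_cases hki : k = i
      · rw [h.gB_comm]
        exact hk l (fun h2 => hkl (hki.trans h2.symm)) _ (h.FE_gB hx k)
      · exact hk k hki _ (h.FE_gB hx l)
    exact AddMonoidHom.mem_ker.1 (h1 hw)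
  refine h.eq_zero_of (W := W) (fun s hs w hw => ?_) (fun d hd hdW => ?_) (fun d hd hdW => ?_)
    (AddSubgroup.subset_closure ⟨i, j, y, hij, hy, rfl⟩)
  · induction hw using AddSubgroup.closure_induction with
    | mem w hw =>
      obtain ⟨k, l, x, hkl, hx, rfl⟩ := hw
      rw [h.smul_gB (h.FE_gB hx l) hs, h.smul_gB hx hs]
      exact AddSubgroup.subset_closure ⟨_, _, _, fun h1 => hkl ((a s).injective h1), h.FE_smul hx hs, rfl⟩
    | zero => rw [smul_zero]; exact zero_mem _
    | add x y _ _ hx hy => rw [smul_add]; exact add_mem hx hy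
    | neg x _ hx => rw [smul_neg]; exact neg_mem hx
  · rw [← hD d hd]
    exact hEW d hdW
  · have h1 := hEW _ hdW
    rw [hadd, hD d hd, hz] at h1
    obtain ⟨b, hb, h2⟩ := h.exists_moved i
    refine h2 ?_
    rw [← h.eq_of_add h1]
    exact h.D_fix i b hb d hd

/-- **(E)** of THEOREM L, with a summand `D0`. -/
theorem main (i : I) {x : Y} (hx : ∀ s ∈ S, a s i = i → s • x = x) :
    ∃ φ : Y, (∀ b ∈ B i, b • φ = φ) ∧ (x = φ ∨ x = φ + sg i) := by
  classical
  have := Fintype.ofFinite I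
  have hE : EDat.FE S a x := EDat.FE_of hx
  set e := tr S (B i) x with he
  have heB : ∀ b ∈ B i, b • e = e := fun b hb => smul_tr_mem (h.FE_B hE i) hb
  have heT : ∀ s ∈ S, a s i = i → s • e = e := fun s hs h1 => by
    rw [he, h.smul_eB hE hs, h1, hx s hs h1]
  set y := gB S B i x with hy
  have hyx : y = x + e := rfl
  have hyE : EDat.FE S a y := h.FE_gB hE i
  have hyT : ∀ s ∈ S, a s i = i → s • y = y := fun s hs h1 => by rw [hyx, smul_add, hx s hs h1, heT s hs h1]
  choose! s hs has using fun j => h.trans i j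
  -- the sum over the conjugates of `y`
  set N : Y := ∑ j, s j • y with hN
  have hNfix : ∀ t ∈ S, t • N = N := by
    intro t ht
    rw [hN, Finset.smul_sum, ← Equiv.sum_comp (a t) fun j => s j • y]
    refine Finset.sum_congr rfl fun j _ => ?_
    have h1 : (s (a t j))⁻¹ * (t * s j) ∈ S := mul_mem (inv_mem (hs _)) (mul_mem ht (hs _))
    have h2 : a ((s (a t j))⁻¹ * (t * s j)) i = i := by
      rw [h.a_mul _ (inv_mem (hs _)) _ (mul_mem ht (hs _)), h.a_mul _ ht _ (hs _), Equiv.Perm.mul_apply,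
        Equiv.Perm.mul_apply, has j]
      have h4 := h.a_inv_apply (hs (a t j)) i
      rwa [has (a t j)] at h4
    have h3 := hyT _ h1 h2
    rw [mul_smul, inv_smul_eq_iff, mul_smul] at h3
    exact h3
  -- `g i N = y`
  have hgy : gB S B i y = y := by
    rw [gB, hy, h.eB_gB hE, add_zero]
  let g : Y →+ Y :=
    { toFun := gB S B i
      map_zero' := by rw [gB, tr_zero, add_zero]
      map_add' := gB_add i }
  have hgN : gB S B i N = y := by
    have h1 : gB S B i N = g N := rfl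
    rw [h1, hN, map_sum, ← Finset.add_sum_erase _ _ (Finset.mem_univ i), Finset.sum_eq_zero, add_zero,
      hyT _ (hs i) (has i)]
    · exact hgy
    · intro j hj
      have hji : j ≠ i := Finset.ne_of_mem_erase hj
      change gB S B i (s j • gB S B i x) = 0
      rw [h.smul_gB hE (hs j), has]
      exact h.gB_gB hji.symm (h.FE_smul hE (hs j))
  have hgD : ∀ d ∈ D0, gB S B i d = 0 := fun d hd => by
    rw [gB, h.eB_fix fun b hb => h.D_fix i b hb d hd, h.add_self]
  have hgz : gB S B i z = sg i := by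
    have h1 : gB S B i z = g z := rfl
    rw [h1, ← h.sum, finsum_eq_sum_of_fintype, map_sum, ← Finset.add_sum_erase _ _ (Finset.mem_univ i),
      Finset.sum_eq_zero, add_zero]
    · change sg i + tr S (B i) (sg i) = sg i
      rw [h.eB_sg, add_zero]
    · intro j hj
      change sg j + tr S (B i) (sg j) = 0
      rw [h.eB_sg_ne (Finset.ne_of_mem_erase hj).symm, h.add_self]
  refine ⟨e, heB, ?_⟩
  rcases h.fixS N hNfix with h1 | h1
  · left
    have h2 := hgD _ h1
    rw [hgN] at h2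
    exact h.eq_of_add (hyx ▸ h2)
  · right
    have h2 := hgD _ h1
    rw [gB_add, hgN, hgz] at h2
    have h3 : y = sg i := h.eq_of_add h2
    rw [← h3, hyx, add_comm x e, ← add_assoc, h.add_self, zero_add]

end EDatE

end Cfsg.Agent.Omega.IId.SymWr
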