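import Cfsg.Agent.Omega.NSix.Match

/-!
# The halving lemma (H), (HH) of helper142's TEXT 2 (bb OMEGA #17498): pure module theory

`Ω` has `2 ^ m + 1` points, `Y` is an `F₂ Sym(Ω)`-module, `ι : F₂^Ω → Y` equivariant.  If a Sylow 2-subgroup fixing the
point `o` has only the fixed points `φ`, `φ + ι {o}` (`φ` fixed by `Sym(Ω)`) on `Y`, then the elements fixed by the
transpositions of a perfect matching `μ` of `Ω - o` are `φ + ι(union of members of μ)`.
-/

set_option autoImplicit false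
set_option linter.unusedSectionVars false

namespace Cfsg.Agent.Omega.IId.SymWr.Halve

open Equiv Equiv.Perm MulAction Pointwise
open Cfsg.Agent.Omega.NSix.Match (ind Mod Blocks)

section transfer

variable {G : Type*} [Group G] {Y : Type*} [AddCommGroup Y] [DistribMulAction G Y]

theorem out_smul {A : Subgroup G} {c : Y} (hA : ∀ a ∈ A, a • c = c) (g : G) :
    (Quotient.out (QuotientGroup.mk g : G ⧸ A)) • c = g • c := by
  obtain ⟨h, hh⟩ := QuotientGroup.mk_out_eq_mul A g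
  rw [hh, mul_smul, hA _ h.2]

theorem out_smul' {A B : Subgroup G} {c : Y} (hA : ∀ a ∈ A, a • c = c) (x : B) :
    ((Quotient.out (QuotientGroup.mk x : B ⧸ A.subgroupOf B) : B) : G) • c = (x : G) • c := by
  obtain ⟨k, hk⟩ := QuotientGroup.mk_out_eq_mul (A.subgroupOf B) x
  have hk' : ((k : B) : G) • c = c := hA _ k.2
  rw [hk]
  show ((x : G) * ((k : B) : G)) • c = _
  rw [mul_smul, hk']

/-- transitivity of the transfer -/
theorem tr_trans [Finite G] {A B : Subgroup G} (h : A ≤ B) [Fintype (G ⧸ A)] [Fintype (G ⧸ B)]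
    [Fintype (B ⧸ A.subgroupOf B)] {c : Y} (hA : ∀ a ∈ A, a • c = c) :
    ∑ q : G ⧸ A, (Quotient.out q) • c =
      ∑ p : G ⧸ B, (Quotient.out p) • ∑ t : B ⧸ A.subgroupOf B, ((Quotient.out t : B) : G) • c := by
  have h1 : ∑ q : G ⧸ A, (Quotient.out q) • c =
      ∑ x : (G ⧸ B) × (B ⧸ A.subgroupOf B), (Quotient.out x.1) • (((Quotient.out x.2 : B) : G) • c) := by
    refine (Fintype.sum_equiv (Subgroup.quotientEquivProdOfLE h).symm _ _ ?_).symm
    rintro ⟨p, t⟩
    induction t using QuotientGroup.induction_on with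
    | H b =>
      have e1 := out_smul' (B := B) hA b
      have e2 : (Subgroup.quotientEquivProdOfLE h).symm (p, (QuotientGroup.mk b : B ⧸ A.subgroupOf B)) =
          (QuotientGroup.mk (Quotient.out p * (b : G)) : G ⧸ A) := rfl
      show (Quotient.out p) • (((Quotient.out (QuotientGroup.mk b : B ⧸ A.subgroupOf B) : B) : G) • c) = _
      rw [e1, e2, out_smul hA, mul_smul]
  rw [h1, Fintype.sum_prod_type]
  refine Finset.sum_congr rfl fun p _ => ?_
  rw [Finset.smul_sum]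

/-- the transfer is fixed by the big group -/
theorem tr_fixed {B : Subgroup G} {A : Subgroup G} [Fintype (B ⧸ A.subgroupOf B)] {c : Y}
    (hA : ∀ a ∈ A, a • c = c) {h : G} (hh : h ∈ B) :
    h • ∑ t : B ⧸ A.subgroupOf B, ((Quotient.out t : B) : G) • c =
      ∑ t : B ⧸ A.subgroupOf B, ((Quotient.out t : B) : G) • c := by
  rw [Finset.smul_sum]
  refine Fintype.sum_equiv (MulAction.toPerm (⟨h, hh⟩ : B)) _ _ ?_
  intro t
  induction t using QuotientGroup.induction_on with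
  | H b =>
    have e := out_smul' (B := B) hA
    rw [e]
    show _ = ((Quotient.out (QuotientGroup.mk ((⟨h, hh⟩ : B) * b) : B ⧸ A.subgroupOf B) : B) : G) • c
    rw [e, smul_smul]
    rfl

/-- transfer in index two -/
theorem tr_two {B : Subgroup G} {A : Subgroup G} [Fintype (B ⧸ A.subgroupOf B)] {c : Y}
    (hA : ∀ a ∈ A, a • c = c) {τ : G} (hτ : τ ∈ B) (hτA : τ ∉ A) (cov : ∀ s ∈ B, s ∈ A ∨ τ⁻¹ * s ∈ A) :
    ∑ t : B ⧸ A.subgroupOf B, ((Quotient.out t : B) : G) • c = c + τ • c := by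
  classical
  have e := out_smul' (B := B) hA
  have hu : (Finset.univ : Finset (B ⧸ A.subgroupOf B)) =
      {(QuotientGroup.mk (1 : B)), (QuotientGroup.mk (⟨τ, hτ⟩ : B))} := by
    symm
    rw [Finset.eq_univ_iff_forall]
    intro t
    induction t using QuotientGroup.induction_on with
    | H b =>
      rw [Finset.mem_insert, Finset.mem_singleton]
      rcases cov b b.2 with hb | hb
      · left
        rw [eq_comm, QuotientGroup.eq]
        rw [Subgroup.mem_subgroupOf]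
        simpa using hb
      · right
        rw [eq_comm, QuotientGroup.eq]
        rw [Subgroup.mem_subgroupOf]
        exact hb
  rw [hu, Finset.sum_pair, e, e]
  · show (1 : G) • c + τ • c = _
    rw [one_smul]
  · intro h0
    rw [QuotientGroup.eq, Subgroup.mem_subgroupOf] at h0
    apply hτA
    simpa using h0

end transfer

theorem z2 (c : ZMod 2) : c = 0 ∨ c = 1 := by revert c; decide

section basic

variable {Ω : Type*} [Fintype Ω] [DecidableEq Ω] {Y : Type*} [AddCommGroup Y] [DistribMulAction (Perm Ω) Y]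

/-- `Mod` without the kernel -/
structure Md (ι : (Ω → ZMod 2) → Y) : Prop where
  two : ∀ y : Y, y + y = 0
  add : ∀ f g, ι (f + g) = ι f + ι g
  act : ∀ (σ : Perm Ω) f, σ • ι f = ι (f ∘ σ.symm)

theorem Md.of {ι : (Ω → ZMod 2) → Y} (hM : Mod ι) : Md ι := ⟨hM.two, hM.add, hM.act⟩

/-- `y` is fixed by `Sym(Ω)` -/
def Fx (Ω : Type*) [Fintype Ω] [DecidableEq Ω] {Y : Type*} [AddCommGroup Y] [DistribMulAction (Perm Ω) Y] (y : Y) :
    Prop := ∀ g : Perm Ω, g • y = y

namespace Md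

variable {ι : (Ω → ZMod 2) → Y} (hM : Md ι)
include hM

theorem zero : ι 0 = 0 := by
  have h := hM.add 0 0
  rw [add_zero, hM.two] at h
  exact h

theorem eq_of_add {x y : Y} (h : x + y = 0) : x = y := by
  calc x = x + (y + y) := by rw [hM.two, add_zero]
    _ = x + y + y := (add_assoc _ _ _).symm
    _ = y := by rw [h, zero_add]

theorem act_ind (σ : Perm Ω) (s : Finset Ω) : σ • ι (ind s) = ι (ind (σ • s)) := by
  rw [hM.act]
  congr 1
  funext x
  have h1 : σ.symm x ∈ s ↔ x ∈ σ • s := by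
    rw [← Finset.inv_smul_mem_iff]
    rfl
  simp only [ind, Function.comp, h1]

theorem sum {κ : Type*} (s : Finset κ) (f : κ → Ω → ZMod 2) : ι (∑ i ∈ s, f i) = ∑ i ∈ s, ι (f i) := by
  classical
  induction s using Finset.induction_on with
  | empty => rw [Finset.sum_empty, Finset.sum_empty]; exact hM.zero
  | insert a s ha ih => rw [Finset.sum_insert ha, Finset.sum_insert ha, hM.add, ih]

/-- even multiples are zero, odd multiples the identity -/
theorem nsmul_even {n : ℕ} (hn : Even n) (y : Y) : n • y = 0 := by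
  obtain ⟨k, rfl⟩ := hn
  rw [add_nsmul, hM.two]

theorem sum_fx {A : Subgroup (Perm Ω)} [Fintype (Perm Ω ⧸ A)] {y : Y} (hy : Fx Ω y) :
    ∑ p : Perm Ω ⧸ A, (Quotient.out p) • y = Fintype.card (Perm Ω ⧸ A) • y := by
  rw [← Finset.card_univ, ← Finset.sum_const]
  exact Finset.sum_congr rfl fun p _ => hy _

theorem nsmul_odd {n : ℕ} (hn : Odd n) (y : Y) : n • y = y := by
  obtain ⟨k, rfl⟩ := hn
  rw [add_nsmul, one_nsmul, hM.nsmul_even ⟨k, by ring⟩, zero_add]

/-- (i) of (H): the fixed points of the stabiliser of a half -/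
theorem half {m : ℕ} {S : Subgroup (Perm Ω)} {o : Ω} {a b : Finset Ω} {M : Subgroup (Perm Ω)} {τ : Perm Ω}
    {μ : Finset (Finset Ω)} (B : Blocks m S o a b M τ μ) {D : AddSubgroup Y} (hD : ∀ σ : Perm Ω, ∀ y ∈ D, σ • y ∈ D)
    (hE : ∀ y ∈ D, (∀ s ∈ S, s • y = y) → ∃ φ ∈ D, Fx Ω φ ∧ (y = φ ∨ y = φ + (ι (ind a) + ι (ind b))))
    (ιD : ∀ f, ι f ∈ D) {k : Y} (hkD : k ∈ D) (hk : ∀ σ : Perm Ω, σ • a = a → σ • k = k) :
    ∃ φ ∈ D, Fx Ω φ ∧ (k = φ ∨ k = φ + ι (ind a)) := by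
  have aa : τ • ι (ind a) = ι (ind b) := by rw [hM.act_ind, B.ta]
  have t2 : τ • τ • k = k := by rw [smul_smul]; exact hk _ (B.Ma _ B.sq)
  have hs : ∀ s ∈ S, s • (k + τ • k) = k + τ • k := by
    have hMk : ∀ s ∈ M, s • (k + τ • k) = k + τ • k := by
      intro s hs
      rw [smul_add, hk s (B.Ma s hs)]
      congr 1
      have h1 : s * τ = τ * (τ⁻¹ * s * τ) := by group
      rw [smul_smul, h1, mul_smul, hk _ (B.Ma _ (B.norm s hs))]
    have hτk : τ • (k + τ • k) = k + τ • k := by rw [smul_add, t2, add_comm]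
    intro s hs
    rcases B.cov s hs with h | h
    · exact hMk s h
    · have h1 : s = τ * (τ⁻¹ * s) := by group
      rw [h1, mul_smul, hMk _ h, hτk]
  -- the core: `k' + τ k'` fixed by everything implies `k'` fixed by everything
  have core : ∀ k' : Y, (∀ σ : Perm Ω, σ • a = a → σ • k' = k') → Fx Ω (k' + τ • k') → Fx Ω k' := by
    intro k' hk' hF
    set φ := k' + τ • k' with hφ
    have e1 : k' = φ + τ • k' := by rw [hφ, add_assoc, hM.two, add_zero]
    have hb : ∀ σ : Perm Ω, σ • b = b → σ • k' = k' := by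
      intro σ hσ
      have h1 : σ • τ • k' = τ • k' := by
        have h2 : σ * τ = τ * (τ⁻¹ * σ * τ) := by group
        rw [smul_smul, h2, mul_smul, hk' (τ⁻¹ * σ * τ)]
        rw [mul_smul, mul_smul, B.ta, hσ, ← B.ta, inv_smul_smul]
      calc σ • k' = σ • (φ + τ • k') := by rw [← e1]
        _ = φ + τ • k' := by rw [smul_add, hF, h1]
        _ = k' := e1.symm
    have so : ∀ x, swap o x • k' = k' := by
      intro x
      rcases B.uni x with rfl | hx | hx
      · rw [swap_self]; exact one_smul _ k'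
      · exact hb _ (Cfsg.Agent.Omega.NSix.Match.swap_smul_eq_self B.ob (B.dis x hx))
      · exact hk' _ (Cfsg.Agent.Omega.NSix.Match.swap_smul_eq_self B.oa (fun h => B.dis x h hx))
    have sw : ∀ x y : Ω, swap x y • k' = k' := by
      intro x y
      by_cases hx : x = o
      · rw [hx]; exact so y
      by_cases hy : y = o
      · rw [hy, swap_comm]; exact so x
      by_cases hxy : x = y
      · rw [hxy, swap_self]; exact one_smul _ k'
      have h1 : swap x y = swap o x * swap o y * swap o x := by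
        rw [swap_comm o y]
        exact (swap_mul_swap_mul_swap hy (Ne.symm hxy)).symm
      rw [h1, mul_smul, mul_smul, so, so, so]
    intro g
    induction g using Equiv.Perm.swap_induction_on with
    | one => exact one_smul _ k'
    | swap_mul f x y _ ih => rw [mul_smul, ih, sw]
  obtain ⟨φ, hφD, hφ, h | h⟩ := hE _ (D.add_mem hkD (hD τ k hkD)) hs
  · refine ⟨k, hkD, core k hk ?_, Or.inl rfl⟩
    rw [h]; exact hφ
  · refine ⟨k + ι (ind a), D.add_mem hkD (ιD _), core _ ?_ ?_, Or.inr ?_⟩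
    · intro σ hσ
      rw [smul_add, hk σ hσ, hM.act_ind, hσ]
    · have h1 : k + ι (ind a) + τ • (k + ι (ind a)) = φ := by
        rw [smul_add, aa]
        calc k + ι (ind a) + (τ • k + ι (ind b)) = (k + τ • k) + (ι (ind a) + ι (ind b)) := by abel
          _ = φ := by rw [h, add_assoc, hM.two, add_zero]
      rw [h1]; exact hφ
    · rw [add_assoc, hM.two, add_zero]

/-- `Σ_{g ∈ G/H} ι(g a) = 0`, `H` the stabiliser of `a`, `|a|` even -/
theorem tr_ind {a : Finset Ω} (hodd : Odd (Fintype.card Ω)) (ha : Even a.card)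
    [Fintype (Perm Ω ⧸ stabilizer (Perm Ω) a)] :
    ∑ p : Perm Ω ⧸ stabilizer (Perm Ω) a, (Quotient.out p) • ι (ind a) = 0 := by
  classical
  have h1 : ∀ p : Perm Ω ⧸ stabilizer (Perm Ω) a, (Quotient.out p) • ι (ind a) = ι (ind (Quotient.out p • a)) :=
    fun p => hM.act_ind _ _
  rw [Finset.sum_congr rfl (fun p _ => h1 p), ← hM.sum]
  set F : Ω → ZMod 2 := ∑ p : Perm Ω ⧸ stabilizer (Perm Ω) a, ind (Quotient.out p • a) with hF
  have oe : ∀ g : Perm Ω, Quotient.out (QuotientGroup.mk g : Perm Ω ⧸ stabilizer (Perm Ω) a) • a = g • a := by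
    intro g
    obtain ⟨h, hh⟩ := QuotientGroup.mk_out_eq_mul (stabilizer (Perm Ω) a) g
    rw [hh, mul_smul]
    have : (h : Perm Ω) • a = a := h.2
    rw [this]
  -- invariance
  have inv : ∀ (g : Perm Ω) (x : Ω), F (g x) = F x := by
    intro g x
    rw [hF, Finset.sum_apply, Finset.sum_apply]
    refine (Fintype.sum_equiv (MulAction.toPerm g) _ _ ?_).symm
    intro p
    induction p using QuotientGroup.induction_on with
    | H b =>
      show ind (Quotient.out (QuotientGroup.mk b : Perm Ω ⧸ stabilizer (Perm Ω) a) • a) x =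
        ind (Quotient.out (QuotientGroup.mk (g * b) : Perm Ω ⧸ stabilizer (Perm Ω) a) • a) (g x)
      rw [oe, oe, mul_smul]
      have h2 : g x ∈ g • b • a ↔ x ∈ b • a := Finset.smul_mem_smul_finset_iff g
      simp only [ind, h2]
  have hconst : ∀ x y : Ω, F x = F y := by
    intro x y
    have := inv (swap x y) x
    rw [swap_apply_left] at this
    exact this.symm
  have hsum : ∑ x, F x = 0 := by
    rw [hF]
    simp only [Finset.sum_apply]
    rw [Finset.sum_comm]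
    refine Finset.sum_eq_zero fun p _ => ?_
    have h3 : ∑ x, ind (Quotient.out p • a) x = ((Quotient.out p • a).card : ZMod 2) := by
      simp [ind]
    rw [h3, Finset.card_smul_finset]
    exact (ZMod.natCast_eq_zero_iff_even).2 ha
  have hz : F = 0 := by
    funext x
    have h4 : ∑ y, F y = Fintype.card Ω • F x := by
      rw [Finset.sum_congr rfl (fun y _ => hconst y x), Finset.sum_const, Finset.card_univ]
    rw [hsum] at h4
    have h5 : Fintype.card Ω • F x = F x := by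
      rw [nsmul_eq_mul, (ZMod.natCast_eq_one_iff_odd).2 hodd, one_mul]
    rw [h5] at h4
    exact h4.symm
  rw [hz]; exact hM.zero

/-- **(H)** -/
theorem halving {m : ℕ} (hm : 2 ≤ m) (hc : Fintype.card Ω = 2 ^ m + 1) (S : Sylow 2 (Perm Ω)) {o : Ω}
    {a b : Finset Ω} {M : Subgroup (Perm Ω)} {τ : Perm Ω} {μ : Finset (Finset Ω)}
    (B : Blocks m (S : Subgroup (Perm Ω)) o a b M τ μ) {D : AddSubgroup Y}
    (hD : ∀ σ : Perm Ω, ∀ y ∈ D, σ • y ∈ D)
    (hE : ∀ y ∈ D, (∀ s ∈ S, s • y = y) → ∃ φ ∈ D, Fx Ω φ ∧ (y = φ ∨ y = φ + (ι (ind a) + ι (ind b))))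
    (ιD : ∀ f, ι f ∈ D) {c : Y} (hcD : c ∈ D) (hcM : ∀ σ ∈ M, σ • c = c) :
    ∃ φ ∈ D, Fx Ω φ ∧ ∃ u v : ZMod 2, c = φ + ι (fun x => u * ind a x + v * ind b x) := by
  classical
  have hodd : Odd (Fintype.card Ω) := by
    rw [hc]
    exact Even.add_one (Nat.even_pow.2 ⟨even_two, by omega⟩)
  have hca : Even a.card := by
    rw [B.ca]; exact Nat.even_pow.2 ⟨even_two, by omega⟩
  have : Finite (Perm Ω) := inferInstance
  let i1 : Fintype (Perm Ω ⧸ stabilizer (Perm Ω) a) := Fintype.ofFinite _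
  let i2 : Fintype (Perm Ω ⧸ (S : Subgroup (Perm Ω))) := Fintype.ofFinite _
  let i3 : Fintype (Perm Ω ⧸ M) := Fintype.ofFinite _
  let i4 : Fintype ((S : Subgroup (Perm Ω)) ⧸ M.subgroupOf (S : Subgroup (Perm Ω))) := Fintype.ofFinite _
  let i5 : Fintype (stabilizer (Perm Ω) a ⧸ M.subgroupOf (stabilizer (Perm Ω) a)) := Fintype.ofFinite _
  have hMH : M ≤ stabilizer (Perm Ω) a := fun s hs => B.Ma s hs
  have t2 : ∀ y : Y, (∀ σ ∈ M, σ • y = y) → τ • τ • y = y := fun y hy => by rw [smul_smul]; exact hy _ B.sq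
  have aa : τ • ι (ind a) = ι (ind b) := by rw [hM.act_ind, B.ta]
  have bb : τ • ι (ind b) = ι (ind a) := by rw [hM.act_ind, B.tb]
  -- `c + τ c` is `S`-fixed
  have fixS : ∀ y : Y, (∀ σ ∈ M, σ • y = y) → ∀ s ∈ (S : Subgroup (Perm Ω)), s • (y + τ • y) = y + τ • y := by
    intro y hy
    have hMk : ∀ s ∈ M, s • (y + τ • y) = y + τ • y := by
      intro s hs
      rw [smul_add, hy s hs]
      congr 1
      have h1 : s * τ = τ * (τ⁻¹ * s * τ) := by group
      rw [smul_smul, h1, mul_smul, hy _ (B.norm s hs)]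
    have hτk : τ • (y + τ • y) = y + τ • y := by rw [smul_add, t2 y hy, add_comm]
    intro s hs
    rcases B.cov s hs with h | h
    · exact hMk s h
    · have h1 : s = τ * (τ⁻¹ * s) := by group
      rw [h1, mul_smul, hMk _ h, hτk]
  -- `τ ∉ M`
  have hτM : τ ∉ M := by
    intro h
    have h1 := B.Ma τ h
    rw [B.ta] at h1
    have h2 : 0 < a.card := by
      rw [B.ca]; positivity
    obtain ⟨x, hx⟩ := Finset.card_pos.1 h2
    exact B.dis x hx (h1.symm ▸ hx)
  -- key claim: if `c' + τ c' = φ` is fixed by everything then `φ = 0`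
  have key : ∀ c' ∈ D, (∀ σ ∈ M, σ • c' = c') → Fx Ω (c' + τ • c') → c' + τ • c' = 0 := by
    intro c' hc'D hc' hF
    have e1 := tr_trans (G := Perm Ω) (A := M) (B := (S : Subgroup (Perm Ω))) B.le hc'
    have e2 := tr_trans (G := Perm Ω) (A := M) (B := stabilizer (Perm Ω) a) hMH hc'
    rw [tr_two (B := (S : Subgroup (Perm Ω))) hc' B.tau hτM B.cov] at e1
    rw [hM.sum_fx hF] at e1
    have o1 : Odd (Fintype.card (Perm Ω ⧸ (S : Subgroup (Perm Ω)))) := by
      rw [← Nat.card_eq_fintype_card]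
      have h1 : ¬ 2 ∣ (S : Subgroup (Perm Ω)).index := S.not_dvd_index
      rw [Nat.odd_iff]
      have h2 : ¬ 2 ∣ Nat.card (Perm Ω ⧸ (S : Subgroup (Perm Ω))) := h1
      omega
    rw [hM.nsmul_odd o1] at e1
    set k := ∑ t : stabilizer (Perm Ω) a ⧸ M.subgroupOf (stabilizer (Perm Ω) a),
      ((Quotient.out t : stabilizer (Perm Ω) a) : Perm Ω) • c' with hk
    have hkD : k ∈ D := D.sum_mem fun t _ => hD _ _ hc'D
    have hkH : ∀ σ : Perm Ω, σ • a = a → σ • k = k := fun σ hσ => tr_fixed hc' hσ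
    obtain ⟨φ', _, hφ', h⟩ := hM.half B hD hE ιD hkD hkH
    -- `|G : H|` is even
    have ev : Even (Fintype.card (Perm Ω ⧸ stabilizer (Perm Ω) a)) := by
      have h1 := S.isPGroup'.card_modEq_card_fixedPoints (Perm Ω ⧸ stabilizer (Perm Ω) a)
      have h2 : Nat.card (fixedPoints (S : Subgroup (Perm Ω)) (Perm Ω ⧸ stabilizer (Perm Ω) a)) = 0 := by
        rw [Nat.card_eq_zero]
        left
        constructor
        rintro ⟨q, hq⟩
        induction q using QuotientGroup.induction_on with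
        | H g =>
          obtain ⟨o', ho', htr⟩ := Cfsg.Agent.Omega.NSix.Match.transitive (by omega) hc S
          have hinv : ∀ s ∈ (S : Subgroup (Perm Ω)), s • g • a = g • a := by
            intro s hs
            have h3 : (⟨s, hs⟩ : (S : Subgroup (Perm Ω))) • (QuotientGroup.mk g : Perm Ω ⧸ stabilizer (Perm Ω) a) =
              QuotientGroup.mk g := hq ⟨s, hs⟩
            have h4 : (QuotientGroup.mk (s * g) : Perm Ω ⧸ stabilizer (Perm Ω) a) = QuotientGroup.mk g := h3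
            rw [eq_comm, QuotientGroup.eq, mem_stabilizer_iff] at h4
            have h5 : g⁻¹ * (s * g) = g⁻¹ * s * g := by group
            rw [h5, mul_smul, mul_smul, inv_smul_eq_iff] at h4
            exact h4
          have h2m : 2 ≤ 2 ^ (m - 1) := by
            calc 2 = 2 ^ 1 := by norm_num
              _ ≤ 2 ^ (m - 1) := Nat.pow_le_pow_right (by norm_num) (by omega)
          have hcard : (g • a).card = 2 ^ (m - 1) := by rw [Finset.card_smul_finset, B.ca]
          obtain ⟨x, hx, hxo⟩ : ∃ x ∈ g • a, x ≠ o' := by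
            by_contra hcon
            push Not at hcon
            have : (g • a) ⊆ {o'} := fun x hx => Finset.mem_singleton.2 (hcon x hx)
            have := Finset.card_le_card this
            rw [hcard, Finset.card_singleton] at this
            omega
          have hsub : Finset.univ.erase o' ⊆ g • a := by
            intro y hy
            have hyo : y ≠ o' := (Finset.mem_erase.1 hy).1
            obtain ⟨s, hs, hsy⟩ := htr x y hxo hyo
            rw [← hinv s hs, ← hsy]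
            exact Finset.smul_mem_smul_finset hx
          have := Finset.card_le_card hsub
          rw [Finset.card_erase_of_mem (Finset.mem_univ _), Finset.card_univ, hc, hcard] at this
          have h6 : 2 ^ m = 2 * 2 ^ (m - 1) := by
            rw [← pow_succ']; congr 1; omega
          omega
      rw [h2, Nat.card_eq_fintype_card] at h1
      exact Nat.even_iff.2 h1
    have e3 : ∑ p : Perm Ω ⧸ stabilizer (Perm Ω) a, (Quotient.out p) • k = 0 := by
      rcases h with h | h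
      · rw [h, hM.sum_fx hφ', hM.nsmul_even ev]
      · rw [h]
        simp only [smul_add]
        rw [Finset.sum_add_distrib, hM.sum_fx hφ', hM.nsmul_even ev, zero_add]
        exact hM.tr_ind hodd hca
    rw [e3] at e2
    rw [← e1, e2]
  -- `τ c' = c'` gives the conclusion
  have fin : ∀ c' ∈ D, (∀ σ ∈ M, σ • c' = c') → Fx Ω (c' + τ • c') →
      ∃ φ ∈ D, Fx Ω φ ∧ (c' = φ ∨ c' = φ + (ι (ind a) + ι (ind b))) := by
    intro c' hc'D hc' hF
    have h0 := key c' hc'D hc' hF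
    have hτc : τ • c' = c' := (hM.eq_of_add h0).symm
    refine hE c' hc'D fun s hs => ?_
    rcases B.cov s hs with h | h
    · exact hc' s h
    · have h1 : s = τ * (τ⁻¹ * s) := by group
      rw [h1, mul_smul, hc' _ h, hτc]
  have f00 : ∀ u v : ZMod 2, ι (fun x => u * ind a x + v * ind b x) =
      (if u = 1 then ι (ind a) else 0) + (if v = 1 then ι (ind b) else 0) := by
    intro u v
    have h1 : (fun x => u * ind a x + v * ind b x) = (fun x => u * ind a x) + (fun x => v * ind b x) := rfl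
    have h2 : ∀ (w : ZMod 2) (s : Finset Ω), ι (fun x => w * ind s x) = if w = 1 then ι (ind s) else 0 := by
      intro w s
      rcases z2 w with rfl | rfl
      · simp only [zero_mul, zero_ne_one, if_false]; exact hM.zero
      · simp only [one_mul, if_true]
    rw [h1, hM.add, h2, h2]
  obtain ⟨φ, hφD, hφ, h | h⟩ := hE _ (D.add_mem hcD (hD τ c hcD)) (fixS c hcM)
  · obtain ⟨ψ, hψD, hψ, h' | h'⟩ := fin c hcD hcM (by rw [h]; exact hφ)
    · refine ⟨ψ, hψD, hψ, 0, 0, ?_⟩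
      rw [f00, if_neg (by decide), if_neg (by decide), add_zero, add_zero]; exact h'
    · refine ⟨ψ, hψD, hψ, 1, 1, ?_⟩
      rw [f00, if_pos rfl, if_pos rfl]; exact h'
  · have hc1 : ∀ σ ∈ M, σ • (c + ι (ind a)) = c + ι (ind a) := by
      intro σ hσ
      rw [smul_add, hcM σ hσ, hM.act_ind, B.Ma σ hσ]
    have h1 : c + ι (ind a) + τ • (c + ι (ind a)) = φ := by
      rw [smul_add, aa]
      calc c + ι (ind a) + (τ • c + ι (ind b)) = (c + τ • c) + (ι (ind a) + ι (ind b)) := by abel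
        _ = φ := by rw [h, add_assoc, hM.two, add_zero]
    obtain ⟨ψ, hψD, hψ, h' | h'⟩ := fin (c + ι (ind a)) (D.add_mem hcD (ιD _)) hc1 (by rw [h1]; exact hφ)
    · refine ⟨ψ, hψD, hψ, 1, 0, ?_⟩
      rw [f00, if_pos rfl, if_neg (by decide), add_zero, ← h', add_assoc, hM.two, add_zero]
    · refine ⟨ψ, hψD, hψ, 0, 1, ?_⟩
      rw [f00, if_neg (by decide), if_pos rfl, zero_add]
      have h2 : c = c + ι (ind a) + ι (ind a) := by rw [add_assoc, hM.two, add_zero]
      rw [h2, h']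
      calc ψ + (ι (ind a) + ι (ind b)) + ι (ind a) = ψ + ι (ind b) + (ι (ind a) + ι (ind a)) := by abel
        _ = ψ + ι (ind b) := by rw [hM.two, add_zero]

end Md

/-- the statement of (HH) by induction -/
def Main.{u, v} (n : ℕ) : Prop :=
  ∀ (Ω : Type u) [Fintype Ω] [DecidableEq Ω] (Y : Type v) [AddCommGroup Y] [DistribMulAction (Perm Ω) Y]
    (ι : (Ω → ZMod 2) → Y), Md ι → ∀ (D : AddSubgroup Y), (∀ σ : Perm Ω, ∀ y ∈ D, σ • y ∈ D) → (∀ f, ι f ∈ D) →
    ∀ o : Ω, Fintype.card Ω = 2 ^ (n + 1) + 1 → ∀ Q : Subgroup (Perm Ω), IsPGroup 2 Q → (∀ q ∈ Q, q o = o) →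
    (∀ y ∈ D, (∀ q ∈ Q, q • y = y) → ∃ φ ∈ D, Fx Ω φ ∧ (y = φ ∨ y = φ + ι (fun x => if x = o then 0 else 1))) →
    ∀ μ : Perm Ω, μ o = o → (∀ x, x ≠ o → μ x ≠ x) → (∀ x, μ (μ x) = x) → ∀ y ∈ D, (∀ x, swap x (μ x) • y = y) →
    ∃ φ ∈ D, Fx Ω φ ∧ ∃ g : Ω → ZMod 2, g o = 0 ∧ (∀ x, g (μ x) = g x) ∧ y = φ + ι g

/-- fixed by the permutations with support in `b ∪ {o}` -/
def Fxb {Ω : Type*} {Y : Type*} [AddCommGroup Y] [DistribMulAction (Perm Ω) Y] (o : Ω) (b : Finset Ω) (y : Y) :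
    Prop := ∀ σ : Perm Ω, (∀ x, x ≠ o → x ∉ b → σ x = x) → σ • y = y

/-- the ambient form of `Main n` -/
theorem amb.{u, v} {n : ℕ} (ih : Main.{u, v} n) {Ω : Type u} [Fintype Ω] [DecidableEq Ω] {Y : Type v}
    [AddCommGroup Y] [DistribMulAction (Perm Ω) Y] {ι : (Ω → ZMod 2) → Y} (hM : Md ι) {D : AddSubgroup Y} {o : Ω}
    {b : Finset Ω} (ho : o ∉ b) (hb : b.card = 2 ^ (n + 1))
    (hD : ∀ σ : Perm Ω, (∀ x, x ≠ o → x ∉ b → σ x = x) → ∀ y ∈ D, σ • y ∈ D)
    (ιD : ∀ f : Ω → ZMod 2, (∀ x, x ≠ o → x ∉ b → f x = 0) → ι f ∈ D) (Q : Subgroup (Perm Ω)) (hQ : IsPGroup 2 Q)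
    (hQb : ∀ q ∈ Q, ∀ x, x ∉ b → q x = x)
    (hE : ∀ y ∈ D, (∀ q ∈ Q, q • y = y) → ∃ φ ∈ D, Fxb o b φ ∧ (y = φ ∨ y = φ + ι (ind b)))
    (μ : Perm Ω) (hμo : μ o = o) (hμb : ∀ x ∈ b, μ x ∈ b) (hμ : ∀ x ∈ b, μ x ≠ x) (hμ2 : ∀ x, μ (μ x) = x)
    {y : Y} (hyD : y ∈ D) (hy : ∀ x ∈ b, swap x (μ x) • y = y) :
    ∃ φ ∈ D, Fxb o b φ ∧ ∃ g : Ω → ZMod 2, (∀ x, x ∉ b → g x = 0) ∧ (∀ x, g (μ x) = g x) ∧ y = φ + ι g := by
  classical
  let p : Ω → Prop := fun x => x = o ∨ x ∈ b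
  let Ω₁ : Type u := {x // p x}
  let θ : Perm Ω₁ →* Perm Ω := Perm.ofSubtype
  let act : DistribMulAction (Perm Ω₁) Y := DistribMulAction.compHom Y θ
  have hθ : ∀ (σ : Perm Ω₁) (y : Y), act.toSMul.smul σ y = θ σ • y := fun _ _ => rfl
  have θin : ∀ (σ : Perm Ω₁) (x : Ω) (hx : p x), θ σ x = (σ ⟨x, hx⟩ : Ω) := fun σ x hx =>
    Perm.ofSubtype_apply_of_mem σ hx
  have θout : ∀ (σ : Perm Ω₁) (x : Ω), ¬ p x → θ σ x = x := fun σ x hx => Perm.ofSubtype_apply_of_not_mem σ hx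
  let ext : (Ω₁ → ZMod 2) → (Ω → ZMod 2) := fun f x => if h : p x then f ⟨x, h⟩ else 0
  have exin : ∀ (f : Ω₁ → ZMod 2) (x : Ω) (hx : p x), ext f x = f ⟨x, hx⟩ := fun f x hx => dif_pos hx
  have exout : ∀ (f : Ω₁ → ZMod 2) (x : Ω), ¬ p x → ext f x = 0 := fun f x hx => dif_neg hx
  let ι₁ : (Ω₁ → ZMod 2) → Y := fun f => ι (ext f)
  have hM₁ : Md ι₁ := by
    refine ⟨hM.two, fun f g => ?_, fun σ f => ?_⟩
    · show ι (ext (f + g)) = ι (ext f) + ι (ext g)
      rw [← hM.add]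
      congr 1
      funext x
      by_cases hx : p x
      · rw [exin _ x hx, Pi.add_apply, Pi.add_apply, exin _ x hx, exin _ x hx]
      · rw [exout _ x hx, Pi.add_apply, exout _ x hx, exout _ x hx, add_zero]
    · show θ σ • ι (ext f) = ι (ext (f ∘ σ.symm))
      rw [hM.act]
      congr 1
      funext x
      have e : (θ σ).symm = θ σ⁻¹ := by
        rw [map_inv]; rfl
      show ext f ((θ σ).symm x) = ext (f ∘ σ.symm) x
      rw [e]
      by_cases hx : p x
      · have h1 : p (θ σ⁻¹ x) := by rw [θin _ x hx]; exact (σ⁻¹ ⟨x, hx⟩).2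
        rw [exin _ _ h1, exin _ x hx]
        show f _ = f (σ.symm ⟨x, hx⟩)
        congr 1
        apply Subtype.ext
        exact θin _ x hx
      · rw [θout _ x hx, exout _ x hx, exout _ x hx]
  have sup : ∀ σ : Perm Ω₁, ∀ x, x ≠ o → x ∉ b → θ σ x = x := fun σ x h1 h2 => θout σ x (by
    rintro (h | h)
    · exact h1 h
    · exact h2 h)
  -- every permutation with support in `b ∪ o` comes from `Ω₁`
  have lift : ∀ σ : Perm Ω, (∀ x, x ≠ o → x ∉ b → σ x = x) → ∃ σ₁ : Perm Ω₁, θ σ₁ = σ := by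
    intro σ hσ
    have h1 : ∀ x, ¬ p x → σ x = x := fun x hx => hσ x (fun h => hx (Or.inl h)) (fun h => hx (Or.inr h))
    have h2 : ∀ x, p (σ x) ↔ p x := by
      intro x
      constructor
      · intro h
        by_contra hx
        rw [h1 x hx] at h
        exact hx h
      · intro h
        by_contra hx
        have h3 := h1 _ hx
        have h4 : σ x = x := σ.injective h3
        rw [h4] at hx
        exact hx h
    refine ⟨σ.subtypePerm h2, ?_⟩
    apply Equiv.ext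
    intro x
    by_cases hx : p x
    · rw [θin _ x hx]; rfl
    · rw [θout _ x hx, h1 x hx]
  have fx : ∀ φ : Y, Fxb o b φ ↔ @Fx Ω₁ _ _ Y _ act φ := by
    intro φ
    constructor
    · intro h σ; exact h (θ σ) (sup σ)
    · intro h σ hσ
      obtain ⟨σ₁, rfl⟩ := lift σ hσ
      exact h σ₁
  have hcard : Fintype.card Ω₁ = 2 ^ (n + 1) + 1 := by
    rw [Fintype.card_subtype]
    have : (Finset.univ.filter p) = insert o b := by
      ext x
      simp [p]
    rw [this, Finset.card_insert_of_notMem ho, hb]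
  let o₁ : Ω₁ := ⟨o, Or.inl rfl⟩
  let Q₁ : Subgroup (Perm Ω₁) := Q.comap θ
  have hQ₁ : IsPGroup 2 Q₁ := hQ.comap_of_injective θ Perm.ofSubtype_injective
  have hQo₁ : ∀ q ∈ Q₁, q o₁ = o₁ := by
    intro q hq
    have h1 := hQb (θ q) hq o ho
    rw [θin q o (Or.inl rfl)] at h1
    exact Subtype.ext h1
  have hindb : ∀ F : Ω₁ → ZMod 2, (∀ x : Ω₁, F x = if x = o₁ then 0 else 1) → ext F = ind b := by
    intro F hF
    funext x
    by_cases hx : p x
    · rw [exin F x hx, hF]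
      rcases hx with rfl | hx
      · rw [if_pos rfl]
        exact (if_neg ho).symm
      · rw [if_neg (fun h => ho (by
          have : x = o := congrArg Subtype.val h
          rw [← this]; exact hx))]
        exact (if_pos hx).symm
    · rw [exout F x hx]
      exact (if_neg (fun h => hx (Or.inr h))).symm
  have hE₁ : ∀ y ∈ D, (∀ q ∈ Q₁, act.toSMul.smul q y = y) →
      ∃ φ ∈ D, @Fx Ω₁ _ _ Y _ act φ ∧ (y = φ ∨ y = φ + ι₁ (fun x => if x = o₁ then 0 else 1)) := by
    intro y hyD hy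
    have h1 : ∀ q ∈ Q, q • y = y := by
      intro q hq
      obtain ⟨q₁, h2⟩ := lift q (fun x _ hx => hQb q hq x hx)
      rw [← h2]
      exact hy q₁ (show θ q₁ ∈ Q by rw [h2]; exact hq)
    obtain ⟨φ, hφD, hφ, h⟩ := hE y hyD h1
    refine ⟨φ, hφD, (fx φ).1 hφ, ?_⟩
    show y = φ ∨ y = φ + ι (ext (fun x : Ω₁ => if x = o₁ then 0 else 1))
    rw [hindb _ (fun x => rfl)]; exact h
  have hμp : ∀ x, p (μ x) ↔ p x := by
    intro x
    constructor
    · rintro (h | h)
      · left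
        have := hμ2 x
        rw [h, hμo] at this
        exact this.symm
      · right
        have := hμb _ h
        rw [hμ2] at this
        exact this
    · rintro (h | h)
      · left; rw [h, hμo]
      · right; exact hμb _ h
  let μ₁ : Perm Ω₁ := μ.subtypePerm hμp
  have hμ₁ : ∀ x : Ω₁, (μ₁ x : Ω) = μ x := fun x => rfl
  obtain ⟨φ, hφD, hφ, g, hg1, hg2, hg3⟩ := @ih Ω₁ _ _ Y _ act ι₁ hM₁ D
    (fun σ y hy => hD (θ σ) (sup σ) y hy)
    (fun f => ιD _ (fun x h1 h2 => exout f x (by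
      rintro (h | h)
      · exact h1 h
      · exact h2 h))) o₁ hcard Q₁ hQ₁ hQo₁ hE₁ μ₁ (Subtype.ext hμo)
    (fun x hx h => by
      rcases x.2 with h1 | h1
      · exact hx (Subtype.ext h1)
      · exact hμ _ h1 (congrArg Subtype.val h))
    (fun x => Subtype.ext (hμ2 x)) y hyD
    (fun x => by
      show θ (swap x (μ₁ x)) • y = y
      have h1 : θ (swap x (μ₁ x)) = swap (x : Ω) (μ x) := Perm.ofSubtype_swap_eq x (μ₁ x)
      rw [h1]
      rcases x.2 with h2 | h2
      · rw [h2, hμo, swap_self]; exact one_smul _ y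
      · exact hy _ h2)
  refine ⟨φ, hφD, (fx φ).2 hφ, ext g, ?_, ?_, hg3⟩
  · intro x hx
    by_cases hp : p x
    · rw [exin _ x hp]
      rcases hp with rfl | hp
      · exact hg1
      · exact absurd hp hx
    · exact exout _ x hp
  · intro x
    by_cases hp : p x
    · rw [exin _ x hp, exin _ _ ((hμp x).2 hp)]
      exact hg2 ⟨x, hp⟩
    · rw [exout _ x hp, exout _ _ (fun h => hp ((hμp x).1 h))]

/-- start of the induction: `|Ω| = 3` -/
theorem main_zero.{u, v} : Main.{u, v} 0 := by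
  intro Ω _ _ Y _ _ ι hM D hD ιD o hc Q hQ hQo hE μ hμo hμ hμ2 y hyD hy
  have hc3 : Fintype.card Ω = 3 := by rw [hc]; norm_num
  have : Nontrivial Ω := Fintype.one_lt_card_iff_nontrivial.mp (by omega)
  obtain ⟨x, hx⟩ := exists_ne o
  have hx1 : μ x ≠ x := hμ x hx
  have hx2 : μ x ≠ o := by
    intro h
    apply hx
    have := hμ2 x
    rw [h, hμo] at this
    exact this.symm
  have cov : ∀ z, z = o ∨ z = x ∨ z = μ x := by
    have h1 : ({o, x, μ x} : Finset Ω) = Finset.univ := by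
      rw [← Finset.card_eq_iff_eq_univ, hc3, Finset.card_insert_of_notMem, Finset.card_pair (Ne.symm hx1)]
      simp only [Finset.mem_insert, Finset.mem_singleton, not_or]
      exact ⟨Ne.symm hx, Ne.symm hx2⟩
    intro z
    have h2 : z ∈ ({o, x, μ x} : Finset Ω) := by rw [h1]; exact Finset.mem_univ _
    simpa using h2
  have hq : ∀ q ∈ Q, q • y = y := by
    intro q hq
    have h0 := hQo q hq
    have h1 : q x ≠ o := fun h => hx (q.injective (h.trans h0.symm))
    have h2 : q (μ x) ≠ o := fun h => hx2 (q.injective (h.trans h0.symm))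
    have h3 : q (μ x) ≠ q x := fun h => hx1 (q.injective h)
    rcases cov (q x) with h | h | h
    · exact absurd h h1
    · have h4 : q = 1 := by
        ext z
        rcases cov z with rfl | rfl | rfl
        · rw [h0]; rfl
        · rw [h]; rfl
        · rcases cov (q (μ x)) with h' | h' | h'
          · exact absurd h' h2
          · exact absurd (h'.trans h.symm) h3
          · rw [h']; rfl
      rw [h4, one_smul]
    · have h4 : q = swap x (μ x) := by
        ext z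
        rcases cov z with rfl | rfl | rfl
        · rw [h0, swap_apply_of_ne_of_ne (Ne.symm hx) (Ne.symm hx2)]
        · rw [h, swap_apply_left]
        · rcases cov (q (μ x)) with h' | h' | h'
          · exact absurd h' h2
          · rw [h', swap_apply_right]
          · exact absurd (h'.trans h.symm) h3
      rw [h4, hy]
  obtain ⟨φ, hφD, hφ, h | h⟩ := hE y hyD hq
  · exact ⟨φ, hφD, hφ, 0, rfl, fun _ => rfl, by rw [hM.zero, add_zero]; exact h⟩
  · refine ⟨φ, hφD, hφ, _, if_pos rfl, fun z => ?_, h⟩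
    have h1 : μ z = o ↔ z = o := by
      constructor
      · intro h
        have := hμ2 z
        rw [h, hμo] at this
        exact this.symm
      · rintro rfl; exact hμo
    by_cases hz : z = o
    · rw [if_pos hz, if_pos (h1.2 hz)]
    · rw [if_neg hz, if_neg (fun h => hz (h1.1 h))]

/-- `μ`-invariant subsets of every even size -/
theorem exists_inv {o : Ω} {μ : Perm Ω} (hμo : μ o = o) (hμ : ∀ x, x ≠ o → μ x ≠ x) (hμ2 : ∀ x, μ (μ x) = x)
    (k : ℕ) (hk : 2 * k + 1 ≤ Fintype.card Ω) :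
    ∃ b : Finset Ω, o ∉ b ∧ b.card = 2 * k ∧ ∀ x ∈ b, μ x ∈ b := by
  induction k with
  | zero => exact ⟨∅, Finset.notMem_empty _, rfl, fun x hx => absurd hx (Finset.notMem_empty _)⟩
  | succ k ih =>
    obtain ⟨b, ho, hb, hbi⟩ := ih (by omega)
    obtain ⟨x, hx⟩ : ∃ x, x ∉ insert o b := by
      by_contra hcon
      push Not at hcon
      have h1 : insert o b = Finset.univ := Finset.eq_univ_iff_forall.2 hcon
      have h2 := Finset.card_insert_of_notMem ho
      rw [h1, Finset.card_univ, hb] at h2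
      omega
    rw [Finset.mem_insert, not_or] at hx
    have hx1 : μ x ≠ x := hμ x hx.1
    have hx2 : μ x ≠ o := by
      intro h
      apply hx.1
      have := hμ2 x
      rw [h, hμo] at this
      exact this.symm
    have hx3 : μ x ∉ b := by
      intro h
      apply hx.2
      have := hbi _ h
      rw [hμ2] at this
      exact this
    refine ⟨insert x (insert (μ x) b), ?_, ?_, ?_⟩
    · simp only [Finset.mem_insert, not_or]
      exact ⟨Ne.symm hx.1, Ne.symm hx2, ho⟩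
    · rw [Finset.card_insert_of_notMem, Finset.card_insert_of_notMem hx3, hb]
      · ring
      · simp only [Finset.mem_insert, not_or]
        exact ⟨Ne.symm hx1, hx.2⟩
    · intro z hz
      simp only [Finset.mem_insert] at hz ⊢
      rcases hz with rfl | rfl | hz
      · exact Or.inr (Or.inl rfl)
      · exact Or.inl (hμ2 x)
      · exact Or.inr (Or.inr (hbi z hz))

/-- a 2-group fixing `o` lies in a Sylow 2-subgroup fixing `o` -/
theorem exists_sylow {m : ℕ} (hm : 1 ≤ m) (hc : Fintype.card Ω = 2 ^ m + 1) {o : Ω} {Q : Subgroup (Perm Ω)}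
    (hQ : IsPGroup 2 Q) (hQo : ∀ q ∈ Q, q o = o) :
    ∃ R : Sylow 2 (Perm Ω), Q ≤ R ∧ ∀ s ∈ (R : Subgroup (Perm Ω)), s o = o := by
  have hle : Q ≤ stabilizer (Perm Ω) o := fun q hq => hQo q hq
  have hQ' : IsPGroup 2 (Q.subgroupOf (stabilizer (Perm Ω) o)) := hQ.comap_subtype
  obtain ⟨P, hP⟩ := hQ'.exists_le_sylow
  have hP2 : IsPGroup 2 ((P : Subgroup (stabilizer (Perm Ω) o)).map (stabilizer (Perm Ω) o).subtype) :=
    P.isPGroup'.map _
  have hidx : ¬ 2 ∣ ((P : Subgroup (stabilizer (Perm Ω) o)).map (stabilizer (Perm Ω) o).subtype).index := by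
    rw [Subgroup.index_map_subtype, Nat.prime_two.dvd_mul]
    rintro (h | h)
    · exact P.not_dvd_index h
    · rw [MulAction.index_stabilizer_of_transitive, Nat.card_eq_fintype_card, hc] at h
      obtain ⟨k, rfl⟩ : ∃ k, m = k + 1 := ⟨m - 1, by omega⟩
      rw [pow_succ] at h
      omega
  refine ⟨hP2.toSylow hidx, ?_, ?_⟩
  · intro q hq
    exact ⟨⟨q, hle hq⟩, hP hq, rfl⟩
  · rintro s ⟨t, _, rfl⟩
    exact t.2

/-- a permutation taking `o` to `o` and `a` to `b` -/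
theorem exists_move {o : Ω} {a b : Finset Ω} (hoa : o ∉ a) (hob : o ∉ b) (h : a.card = b.card) :
    ∃ g : Perm Ω, g o = o ∧ g • a = b := by
  let e : {x // x ∈ a} ≃ {x // x ∈ b} := Finset.equivOfCardEq h
  let g₀ : Perm Ω := e.extendSubtype
  have h0 : ∀ x (hx : x ∈ a), g₀ x ∈ b := fun x hx => by
    rw [show g₀ x = e ⟨x, hx⟩ from e.extendSubtype_apply_of_mem x hx]
    exact (e ⟨x, hx⟩).2
  have h1 : g₀ • a = b := by
    refine Finset.eq_of_subset_of_card_le ?_ (by rw [Finset.card_smul_finset, h])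
    intro y hy
    obtain ⟨x, hx, rfl⟩ := Finset.mem_smul_finset.mp hy
    exact h0 x hx
  have h2 : g₀ o ∉ b := by
    intro h
    rw [← h1] at h
    obtain ⟨x, hx, hxo⟩ := Finset.mem_smul_finset.mp h
    exact hoa (g₀.injective hxo ▸ hx)
  refine ⟨swap o (g₀ o) * g₀, ?_, ?_⟩
  · rw [Perm.mul_apply, swap_apply_right]
  · rw [mul_smul, h1]
    exact Cfsg.Agent.Omega.NSix.Match.swap_smul_eq_self hob h2

/-- a 2-group `M` preserving the two halves `a`, `b` of `Ω - o`, with the conclusion of `(H)` -/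
structure Cut (ι : (Ω → ZMod 2) → Y) (D : AddSubgroup Y) (o : Ω) (a b : Finset Ω) (M : Subgroup (Perm Ω)) : Prop where
  oa : o ∉ a
  ob : o ∉ b
  dis : ∀ x ∈ a, x ∉ b
  uni : ∀ x, x = o ∨ x ∈ a ∨ x ∈ b
  card : a.card = b.card
  pg : IsPGroup 2 M
  fix : ∀ s ∈ M, s o = o
  Ma : ∀ s ∈ M, s • a = a
  Mb : ∀ s ∈ M, s • b = b
  hv : ∀ c ∈ D, (∀ s ∈ M, s • c = c) → ∃ φ ∈ D, Fx Ω φ ∧ ∃ u v : ZMod 2, c = φ + ι (fun x => u * ind a x + v * ind b x)

theorem Cut.symm {ι : (Ω → ZMod 2) → Y} {D : AddSubgroup Y} {o : Ω} {a b : Finset Ω} {M : Subgroup (Perm Ω)}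
    (C : Cut ι D o a b M) : Cut ι D o b a M where
  oa := C.ob
  ob := C.oa
  dis := fun x hx h => C.dis x h hx
  uni := fun x => by rcases C.uni x with h | h | h
                     · exact Or.inl h
                     · exact Or.inr (Or.inr h)
                     · exact Or.inr (Or.inl h)
  card := C.card.symm
  pg := C.pg
  fix := C.fix
  Ma := C.Mb
  Mb := C.Ma
  hv := fun c hc h => by
    obtain ⟨φ, h1, h2, u, v, h3⟩ := C.hv c hc h
    refine ⟨φ, h1, h2, v, u, ?_⟩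
    rw [h3]
    congr 2
    funext x
    exact add_comm _ _

theorem smul_mem_of {σ : Perm Ω} {a : Finset Ω} (h : σ • a = a) {x : Ω} : σ x ∈ a ↔ x ∈ a := by
  conv_lhs => rw [← h]
  exact Finset.smul_mem_smul_finset_iff σ

/-- restriction of a permutation to an invariant set -/
theorem restr {σ : Perm Ω} {a : Finset Ω} (h : σ • a = a) :
    ∃ ρ : Perm Ω, (∀ x ∈ a, ρ x = σ x) ∧ ∀ x, x ∉ a → ρ x = x := by
  have h1 : ∀ x, σ x ∈ a ↔ x ∈ a := fun x => smul_mem_of h
  refine ⟨Perm.ofSubtype (σ.subtypePerm h1), fun x hx => ?_, fun x hx => ?_⟩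
  · exact Perm.ofSubtype_apply_of_mem _ hx
  · exact Perm.ofSubtype_apply_of_not_mem _ hx

/-- the restrictions of the elements of `M` to `a` -/
def Rs (M : Subgroup (Perm Ω)) (a : Finset Ω) (hM : ∀ s ∈ M, s • a = a) : Subgroup (Perm Ω) where
  carrier := {ρ | (∀ x, x ∉ a → ρ x = x) ∧ ∃ σ ∈ M, ∀ x ∈ a, ρ x = σ x}
  mul_mem' := by
    rintro ρ ρ' ⟨h1, σ, hσ, h2⟩ ⟨h1', σ', hσ', h2'⟩
    refine ⟨fun x hx => by rw [Perm.mul_apply, h1' x hx, h1 x hx], σ * σ', M.mul_mem hσ hσ', fun x hx => ?_⟩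
    rw [Perm.mul_apply, Perm.mul_apply, h2' x hx]
    exact h2 _ ((smul_mem_of (hM σ' hσ')).2 hx)
  one_mem' := ⟨fun _ _ => rfl, 1, M.one_mem, fun _ _ => rfl⟩
  inv_mem' := by
    rintro ρ ⟨h1, σ, hσ, h2⟩
    refine ⟨fun x hx => by rw [Perm.inv_eq_iff_eq]; exact (h1 x hx).symm, σ⁻¹, M.inv_mem hσ, fun x hx => ?_⟩
    rw [Perm.inv_eq_iff_eq]
    have h3 : σ⁻¹ x ∈ a := (smul_mem_of (hM _ (M.inv_mem hσ))).2 hx
    rw [h2 _ h3]
    exact (σ.apply_symm_apply x).symm

theorem rs_pg {M : Subgroup (Perm Ω)} {a : Finset Ω} {hM : ∀ s ∈ M, s • a = a} (hp : IsPGroup 2 M) :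
    IsPGroup 2 (Rs M a hM) := by
  rintro ⟨ρ, h1, σ, hσ, h2⟩
  obtain ⟨k, hk⟩ := hp ⟨σ, hσ⟩
  have hk' : σ ^ 2 ^ k = 1 := congrArg Subtype.val hk
  refine ⟨k, Subtype.ext ?_⟩
  show ρ ^ 2 ^ k = 1
  have h3 : ∀ n : ℕ, ∀ x ∈ a, (ρ ^ n) x = (σ ^ n) x := by
    intro n
    induction n with
    | zero => intro x _; rfl
    | succ n ih =>
      intro x hx
      rw [pow_succ, pow_succ, Perm.mul_apply, Perm.mul_apply, h2 x hx]
      exact ih _ ((smul_mem_of (hM σ hσ)).2 hx)
  have h4 : ∀ n : ℕ, ∀ x, x ∉ a → (ρ ^ n) x = x := by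
    intro n
    induction n with
    | zero => intro x _; rfl
    | succ n ih =>
      intro x hx
      rw [pow_succ, Perm.mul_apply, h1 x hx]
      exact ih x hx
  apply Equiv.ext
  intro x
  by_cases hx : x ∈ a
  · rw [h3 _ x hx, hk']
  · rw [h4 _ x hx]; rfl

theorem Md.mono {ι : (Ω → ZMod 2) → Y} (hM : Md ι) {σ : Perm Ω} {f : Ω → ZMod 2} (h : ∀ x, f (σ x) = f x) :
    σ • ι f = ι f := by
  rw [hM.act]
  congr 1
  funext x
  have := h (σ.symm x)
  rw [σ.apply_symm_apply] at this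
  exact this.symm

/-- `(I)` -/
theorem stepI.{u, v} {n : ℕ} (ih : Main.{u, v} n) {Ω : Type u} [Fintype Ω] [DecidableEq Ω] {Y : Type v}
    [AddCommGroup Y] [DistribMulAction (Perm Ω) Y] {ι : (Ω → ZMod 2) → Y} (hM : Md ι) {D : AddSubgroup Y}
    (hD : ∀ σ : Perm Ω, ∀ y ∈ D, σ • y ∈ D) (ιD : ∀ f, ι f ∈ D) {o : Ω} {a b : Finset Ω} {M : Subgroup (Perm Ω)}
    (C : Cut ι D o a b M) (ha : a.card = 2 ^ (n + 1)) (μ : Perm Ω) (hμo : μ o = o) (hμa : ∀ x ∈ a, μ x ∈ a)
    (hμb : ∀ x ∈ b, μ x ∈ b) (hμ : ∀ x ∈ a, μ x ≠ x) (hμ2 : ∀ x, μ (μ x) = x) {y : Y} (hyD : y ∈ D)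
    (hy : ∀ x ∈ a, swap x (μ x) • y = y) (hyR : ∀ ρ ∈ Rs M b C.Mb, ρ • y = y) :
    ∃ φ ∈ D, Fx Ω φ ∧ ∃ g : Ω → ZMod 2, g o = 0 ∧ (∀ x, g (μ x) = g x) ∧ (∃ v, ∀ x ∈ b, g x = v) ∧ y = φ + ι g := by
  classical
  -- everything fixed by `R₁` and `R₂` is fixed by `M`
  have hMR : ∀ c : Y, (∀ ρ ∈ Rs M a C.Ma, ρ • c = c) → (∀ ρ ∈ Rs M b C.Mb, ρ • c = c) → ∀ s ∈ M, s • c = c := by
    intro c h1 h2 s hs
    obtain ⟨ρ₁, h3, h4⟩ := restr (C.Ma s hs)
    obtain ⟨ρ₂, h5, h6⟩ := restr (C.Mb s hs)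
    have h7 : s = ρ₁ * ρ₂ := by
      apply Equiv.ext
      intro x
      rw [Perm.mul_apply]
      rcases C.uni x with rfl | hx | hx
      · rw [h6 x C.ob, h4 x C.oa, C.fix s hs]
      · rw [h6 x (C.dis x hx), h3 x hx]
      · rw [h5 x hx, h4]
        exact fun h => C.dis _ h ((smul_mem_of (C.Mb s hs)).2 hx)
    rw [h7, mul_smul, h2 ρ₂ ⟨h6, s, hs, h5⟩, h1 ρ₁ ⟨h4, s, hs, h3⟩]
  let D₁ : AddSubgroup Y :=
    { carrier := {y | y ∈ D ∧ ∀ ρ ∈ Rs M b C.Mb, ρ • y = y}
      add_mem' := fun {x y} hx hy => ⟨D.add_mem hx.1 hy.1, fun ρ hρ => by rw [smul_add, hx.2 ρ hρ, hy.2 ρ hρ]⟩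
      zero_mem' := ⟨D.zero_mem, fun ρ _ => smul_zero ρ⟩
      neg_mem' := fun {x} hx => ⟨D.neg_mem hx.1, fun ρ hρ => by rw [smul_neg, hx.2 ρ hρ]⟩ }
  have notab : ∀ x ∈ b, x ≠ o ∧ x ∉ a := fun x hx => ⟨fun h => C.ob (h ▸ hx), fun h => C.dis x h hx⟩
  have hD₁ : ∀ σ : Perm Ω, (∀ x, x ≠ o → x ∉ a → σ x = x) → ∀ y ∈ D₁, σ • y ∈ D₁ := by
    rintro σ hσ y ⟨h1, h2⟩
    refine ⟨hD σ y h1, fun ρ hρ => ?_⟩
    have h3 : Perm.Disjoint σ ρ := by
      intro x
      by_cases hx : x ∈ b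
      · left; exact hσ x (notab x hx).1 (notab x hx).2
      · right; exact hρ.1 x hx
    rw [smul_smul, ← h3.commute.eq, mul_smul, h2 ρ hρ]
  have ιD₁ : ∀ f : Ω → ZMod 2, (∀ x, x ≠ o → x ∉ a → f x = 0) → ι f ∈ D₁ := by
    intro f hf
    refine ⟨ιD f, fun ρ hρ => hM.mono fun x => ?_⟩
    by_cases hx : x ∈ b
    · obtain ⟨σ, hσ, h1⟩ := hρ.2
      have h2 : ρ x ∈ b := by rw [h1 x hx]; exact (smul_mem_of (C.Mb σ hσ)).2 hx
      rw [hf _ (notab _ h2).1 (notab _ h2).2, hf _ (notab x hx).1 (notab x hx).2]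
    · rw [hρ.1 x hx]
  -- the combination of the indicators
  have uv : ∀ u v : ZMod 2, ι (fun x => u * ind a x + v * ind b x) =
      ι (fun x => v * ind b x) + ι (fun x => u * ind a x) := by
    intro u v
    rw [← hM.add]
    congr 1
    funext x
    exact add_comm _ _
  have one : ∀ u : ZMod 2, ι (fun x => u * ind a x) = 0 ∨ ι (fun x => u * ind a x) = ι (ind a) := by
    intro u
    rcases z2 u with rfl | rfl
    · left
      simp only [zero_mul]; exact hM.zero
    · right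
      simp only [one_mul]
  obtain ⟨φ₁, ⟨hφ₁D, hφ₁R⟩, hφ₁, g, hg1, hg2, hg3⟩ := amb ih hM C.oa ha hD₁ ιD₁ (Rs M a C.Ma) (rs_pg C.pg)
    (fun q hq x hx => hq.1 x hx) (fun c hc hcR => by
      obtain ⟨φ, hφD, hφ, u, v, h⟩ := C.hv c hc.1 (hMR c hcR hc.2)
      have hvb : ∀ ρ ∈ Rs M b C.Mb, ρ • ι (fun x => v * ind b x) = ι (fun x => v * ind b x) := by
        intro ρ hρ
        refine hM.mono fun x => ?_
        have : ρ x ∈ b ↔ x ∈ b := by
          by_cases hx : x ∈ b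
          · obtain ⟨σ, hσ, h1⟩ := hρ.2
            rw [h1 x hx]
            exact smul_mem_of (C.Mb σ hσ)
          · rw [hρ.1 x hx]
        simp only [ind, this]
      refine ⟨φ + ι (fun x => v * ind b x), ⟨D.add_mem hφD (ιD _), fun ρ hρ => ?_⟩, fun σ hσ => ?_, ?_⟩
      · rw [smul_add, hφ, hvb ρ hρ]
      · rw [smul_add, hφ]
        congr 1
        refine hM.mono fun x => ?_
        have : σ x ∈ b ↔ x ∈ b := by
          by_cases hx : x ∈ b
          · rw [hσ x (notab x hx).1 (notab x hx).2]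
          · constructor
            · intro h
              have h1 := hσ _ (notab _ h).1 (notab _ h).2
              rw [← σ.injective h1]; exact h
            · intro h; exact absurd h hx
        simp only [ind, this]
      · rw [h, uv]
        rcases one u with h1 | h1
        · left; rw [h1, add_zero]
        · right; rw [h1, add_assoc]) μ hμo hμa hμ hμ2 (y := y) ⟨hyD, hyR⟩ hy
  obtain ⟨φ, hφD, hφ, u, v, h⟩ := C.hv φ₁ hφ₁D (hMR φ₁ (fun ρ hρ => hφ₁ ρ fun x _ hx => hρ.1 x hx) hφ₁R)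
  have hma : ∀ x, μ x ∈ a ↔ x ∈ a := fun x => ⟨fun h => by have := hμa _ h; rw [hμ2] at this; exact this, hμa x⟩
  have hmb : ∀ x, μ x ∈ b ↔ x ∈ b := fun x => ⟨fun h => by have := hμb _ h; rw [hμ2] at this; exact this, hμb x⟩
  refine ⟨φ, hφD, hφ, (fun x => u * ind a x + v * ind b x) + g, ?_, fun x => ?_, ⟨v, fun x hx => ?_⟩, ?_⟩
  · rw [Pi.add_apply, hg1 o C.oa]
    simp only [ind, if_neg C.oa, if_neg C.ob, mul_zero, add_zero]
  · rw [Pi.add_apply, Pi.add_apply, hg2]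
    simp only [ind, hma, hmb]
  · rw [Pi.add_apply, hg1 x (notab x hx).2]
    simp only [ind, if_neg (notab x hx).2, if_pos hx, mul_zero, add_zero, zero_add, mul_one]
  · rw [hg3, h, hM.add, add_assoc]

/-- the cut exists for every splitting of `Ω - o` into two halves -/
theorem exists_cut {ι : (Ω → ZMod 2) → Y} (hM : Md ι) {m : ℕ} (hm : 2 ≤ m) (hc : Fintype.card Ω = 2 ^ m + 1)
    {D : AddSubgroup Y} (hD : ∀ σ : Perm Ω, ∀ y ∈ D, σ • y ∈ D) (ιD : ∀ f, ι f ∈ D) {o : Ω} {Q : Subgroup (Perm Ω)}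
    (hQ : IsPGroup 2 Q) (hQo : ∀ q ∈ Q, q o = o)
    (hE : ∀ y ∈ D, (∀ q ∈ Q, q • y = y) →
      ∃ φ ∈ D, Fx Ω φ ∧ (y = φ ∨ y = φ + ι (fun x => if x = o then 0 else 1))) {a₁ b₁ : Finset Ω} (ho : o ∉ a₁)
    (hob : o ∉ b₁) (hd : ∀ x ∈ a₁, x ∉ b₁) (hu : ∀ x, x = o ∨ x ∈ a₁ ∨ x ∈ b₁) (ha₁ : a₁.card = 2 ^ (m - 1))
    (hb₁ : b₁.card = 2 ^ (m - 1)) : ∃ M, Cut ι D o a₁ b₁ M := by
  obtain ⟨R, hQR, hRo⟩ := exists_sylow (by omega) hc hQ hQo
  obtain ⟨o', a, b, M, τ, μ', B⟩ := Cfsg.Agent.Omega.NSix.Match.exists_blocks hm hc R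
  obtain ⟨o'', ho'', htr⟩ := Cfsg.Agent.Omega.NSix.Match.transitive (by omega) hc R
  have h2m : 2 ≤ 2 ^ m := by
    calc 2 = 2 ^ 1 := by norm_num
      _ ≤ 2 ^ m := Nat.pow_le_pow_right (by norm_num) (by omega)
  have uniq : ∀ p : Ω, (∀ s ∈ (R : Subgroup (Perm Ω)), s p = p) → p = o'' := by
    intro p hp
    by_contra hne
    obtain ⟨q, hq1, hq2⟩ : ∃ q : Ω, q ≠ o'' ∧ q ≠ p := by
      by_contra hcon
      push Not at hcon
      have h1 : (Finset.univ : Finset Ω) ⊆ {o'', p} := by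
        intro x _
        rw [Finset.mem_insert, Finset.mem_singleton]
        by_cases hx : x = o''
        · exact Or.inl hx
        · exact Or.inr (hcon x hx)
      have h2 := Finset.card_le_card h1
      have h3 := Finset.card_le_two (a := o'') (b := p)
      rw [Finset.card_univ, hc] at h2
      have h4 : 4 ≤ 2 ^ m := by
        calc 4 = 2 ^ 2 := by norm_num
          _ ≤ 2 ^ m := Nat.pow_le_pow_right (by norm_num) (by omega)
      omega
    obtain ⟨s, hs, hsq⟩ := htr p q hne hq1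
    rw [hp s hs] at hsq
    exact hq2 hsq.symm
  have e1 : o' = o := (uniq o' B.fix).trans (uniq o hRo).symm
  subst e1
  have hind : ι (ind a) + ι (ind b) = ι (fun x => if x = o' then 0 else 1) := by
    rw [← hM.add]
    congr 1
    funext x
    rw [Pi.add_apply]
    rcases B.uni x with rfl | hx | hx
    · simp only [ind, if_neg B.oa, if_neg B.ob, if_true, add_zero]
    · have h1 : x ≠ o' := fun h => B.oa (h ▸ hx)
      simp only [ind, if_pos hx, if_neg (B.dis x hx), if_neg h1, add_zero]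
    · have h1 : x ≠ o' := fun h => B.ob (h ▸ hx)
      simp only [ind, if_pos hx, if_neg (fun h => B.dis x h hx), if_neg h1, zero_add]
  have hE' : ∀ y ∈ D, (∀ s ∈ R, s • y = y) → ∃ φ ∈ D, Fx Ω φ ∧ (y = φ ∨ y = φ + (ι (ind a) + ι (ind b))) := by
    intro y hyD hy
    obtain ⟨φ, h1, h2, h3⟩ := hE y hyD fun q hq => hy q (hQR hq)
    exact ⟨φ, h1, h2, by rw [hind]; exact h3⟩
  obtain ⟨g, hgo, hga⟩ := exists_move B.oa ho (B.ca.trans ha₁.symm)
  have hgb : g • b = b₁ := by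
    ext x
    have hx0 : g⁻¹ x = o' ↔ x = o' := by
      rw [Perm.inv_eq_iff_eq, hgo]
    have hxa : x ∈ a₁ ↔ g⁻¹ x ∈ a := by rw [← hga, ← Finset.inv_smul_mem_iff]; rfl
    have hxb : x ∈ g • b ↔ g⁻¹ x ∈ b := by rw [← Finset.inv_smul_mem_iff]; rfl
    rw [hxb]
    constructor
    · intro h
      rcases hu x with h1 | h1 | h1
      · exact absurd ((hx0.2 h1) ▸ h) B.ob
      · exact absurd h (B.dis _ (hxa.1 h1))
      · exact h1
    · intro h
      rcases B.uni (g⁻¹ x) with h1 | h1 | h1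
      · exact absurd ((hx0.1 h1) ▸ h) hob
      · exact absurd h (hd _ (hxa.2 h1))
      · exact h1
  let N : Subgroup (Perm Ω) := M.map (MulAut.conj g).toMonoidHom
  have hN : ∀ s ∈ N, ∃ t ∈ M, s = g * t * g⁻¹ := by
    rintro s ⟨t, ht, rfl⟩
    exact ⟨t, ht, rfl⟩
  have hMN : ∀ t ∈ M, g * t * g⁻¹ ∈ N := fun t ht => ⟨t, ht, rfl⟩
  refine ⟨N, ?_⟩
  exact {
    oa := ho
    ob := hob
    dis := hd
    uni := hu
    card := ha₁.trans hb₁.symm
    pg := (R.isPGroup'.to_le B.le).map _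
    fix := by
      intro s hs
      obtain ⟨t, ht, rfl⟩ := hN s hs
      rw [Perm.mul_apply, Perm.mul_apply, Perm.inv_eq_iff_eq.2 hgo.symm, B.fix t (B.le ht), hgo]
    Ma := by
      intro s hs
      obtain ⟨t, ht, rfl⟩ := hN s hs
      rw [mul_smul, mul_smul, ← hga, inv_smul_smul, B.Ma t ht]
    Mb := by
      intro s hs
      obtain ⟨t, ht, rfl⟩ := hN s hs
      rw [mul_smul, mul_smul, ← hgb, inv_smul_smul, B.Mb t ht]
    hv := by
      intro c hcD hcN
      have h1 : ∀ σ ∈ M, σ • g⁻¹ • c = g⁻¹ • c := by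
        intro σ hσ
        have h2 := hcN _ (hMN σ hσ)
        rw [mul_smul, mul_smul] at h2
        rw [eq_inv_smul_iff]; exact h2
      obtain ⟨φ, hφD, hφ, u, v, h⟩ := hM.halving hm hc R B hD hE' ιD (hD g⁻¹ c hcD) h1
      refine ⟨φ, hφD, hφ, u, v, ?_⟩
      rw [inv_smul_eq_iff, smul_add, hφ, hM.act] at h
      rw [h]
      congr 2
      funext x
      have h3 : g.symm x ∈ a ↔ x ∈ a₁ := by rw [← hga, ← Finset.inv_smul_mem_iff (s := a)]; rfl
      have h4 : g.symm x ∈ b ↔ x ∈ b₁ := by rw [← hgb, ← Finset.inv_smul_mem_iff (s := b)]; rfl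
      simp only [Function.comp, ind, h3, h4] }

/-- `Main n → Main (n + 1)` -/
theorem main_succ.{u, v} {n : ℕ} (ih : Main.{u, v} n) : Main.{u, v} (n + 1) := by
  intro Ω _ _ Y _ _ ι hM D hD ιD o hc Q hQ hQo hE μ hμo hμ hμ2 y hyD hy
  have hp : 2 ^ (n + 1 + 1) = 2 * 2 ^ (n + 1) := by rw [pow_succ']
  have hp' : 2 ^ (n + 1) = 2 * 2 ^ n := by rw [pow_succ']
  obtain ⟨a, hoa, hac, haμ⟩ := exists_inv hμo hμ hμ2 (2 ^ n) (by rw [hc]; omega)
  rw [← hp'] at hac
  set b : Finset Ω := Finset.univ \ insert o a with hb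
  have memb : ∀ x, x ∈ b ↔ x ≠ o ∧ x ∉ a := by
    intro x
    rw [hb, Finset.mem_sdiff, Finset.mem_insert, not_or]
    exact ⟨fun h => h.2, fun h => ⟨Finset.mem_univ _, h⟩⟩
  have hob : o ∉ b := fun h => ((memb o).1 h).1 rfl
  have hd : ∀ x ∈ a, x ∉ b := fun x hx h => ((memb x).1 h).2 hx
  have hu : ∀ x, x = o ∨ x ∈ a ∨ x ∈ b := by
    intro x
    by_cases h1 : x = o
    · exact Or.inl h1
    by_cases h2 : x ∈ a
    · exact Or.inr (Or.inl h2)
    · exact Or.inr (Or.inr ((memb x).2 ⟨h1, h2⟩))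
  have hbc : b.card = 2 ^ (n + 1) := by
    rw [hb, Finset.card_sdiff_of_subset (Finset.subset_univ _), Finset.card_univ, hc,
      Finset.card_insert_of_notMem hoa, hac]
    omega
  have hμx : ∀ x, μ x = o ↔ x = o := by
    intro x
    constructor
    · intro h
      have := hμ2 x
      rw [h, hμo] at this
      exact this.symm
    · rintro rfl; exact hμo
  have hbμ : ∀ x ∈ b, μ x ∈ b := by
    intro x hx
    rw [memb] at hx ⊢
    refine ⟨fun h => hx.1 ((hμx x).1 h), fun h => hx.2 ?_⟩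
    have := haμ _ h
    rw [hμ2] at this
    exact this
  obtain ⟨M, C⟩ := exists_cut hM (m := n + 1 + 1) (by omega) hc hD ιD hQ hQo hE hoa hob hd hu hac hbc
  have hμa : ∀ x ∈ a, μ x ≠ x := fun x hx => hμ x fun h => hoa (h ▸ hx)
  have hμb : ∀ x ∈ b, μ x ≠ x := fun x hx => hμ x fun h => hob (h ▸ hx)
  let D₂ : AddSubgroup Y :=
    { carrier := {y | y ∈ D ∧ ∀ x ∈ a, swap x (μ x) • y = y}
      add_mem' := fun {x y} hx hy => ⟨D.add_mem hx.1 hy.1, fun ρ hρ => by rw [smul_add, hx.2 ρ hρ, hy.2 ρ hρ]⟩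
      zero_mem' := ⟨D.zero_mem, fun ρ _ => smul_zero _⟩
      neg_mem' := fun {x} hx => ⟨D.neg_mem hx.1, fun ρ hρ => by rw [smul_neg, hx.2 ρ hρ]⟩ }
  have swf : ∀ x ∈ a, ∀ z, z ∉ a → swap x (μ x) z = z := fun x hx z hz =>
    swap_apply_of_ne_of_ne (fun h => hz (h ▸ hx)) (fun h => hz (h ▸ haμ x hx))
  have hD₂ : ∀ σ : Perm Ω, (∀ x, x ≠ o → x ∉ b → σ x = x) → ∀ y ∈ D₂, σ • y ∈ D₂ := by
    rintro σ hσ y ⟨h1, h2⟩
    refine ⟨hD σ y h1, fun x hx => ?_⟩
    have h3 : Perm.Disjoint σ (swap x (μ x)) := by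
      intro z
      by_cases hz : z ∈ a
      · left; exact hσ z (fun h => hoa (h ▸ hz)) (hd z hz)
      · right; exact swf x hx z hz
    rw [smul_smul, ← h3.commute.eq, mul_smul, h2 x hx]
  have swinv : ∀ f : Ω → ZMod 2, (∀ x, f (μ x) = f x) → ∀ x, swap x (μ x) • ι f = ι f := by
    intro f hf x
    refine hM.mono fun z => ?_
    by_cases h1 : z = x
    · rw [h1, swap_apply_left, hf]
    by_cases h2 : z = μ x
    · rw [h2, swap_apply_right, hf]
    rw [swap_apply_of_ne_of_ne h1 h2]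
  have ιD₂ : ∀ f : Ω → ZMod 2, (∀ x, x ≠ o → x ∉ b → f x = 0) → ι f ∈ D₂ := by
    intro f hf
    refine ⟨ιD f, fun x hx => hM.mono fun z => ?_⟩
    have h0 : ∀ z ∈ a, f z = 0 := fun z hz => hf z (fun h => hoa (h ▸ hz)) (hd z hz)
    by_cases h1 : z = x
    · rw [h1, swap_apply_left, h0 _ (haμ x hx), h0 x hx]
    by_cases h2 : z = μ x
    · rw [h2, swap_apply_right, h0 _ (haμ x hx), h0 x hx]
    rw [swap_apply_of_ne_of_ne h1 h2]
  have main : ∀ y ∈ D₂, (∀ ρ ∈ Rs M b C.Mb, ρ • y = y) →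
      ∃ φ ∈ D, Fx Ω φ ∧ ∃ g : Ω → ZMod 2, g o = 0 ∧ (∀ x, g (μ x) = g x) ∧ (∃ v, ∀ x ∈ b, g x = v) ∧ y = φ + ι g :=
    fun y hy hR => stepI ih hM hD ιD C hac μ hμo haμ hbμ hμa hμ2 hy.1 hy.2 hR
  obtain ⟨φ₂, hφ₂D, hφ₂, g₂, hg1, hg2, hg3⟩ := amb ih hM hob hbc hD₂ ιD₂ (Rs M b C.Mb) (rs_pg C.pg)
    (fun q hq x hx => hq.1 x hx) (fun c hc hcR => by
      obtain ⟨φ, hφD, hφ, g, h1, h2, ⟨w, h3⟩, h4⟩ := main c hc hcR
      let k : Ω → ZMod 2 := fun x => if x ∈ a then g x else 0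
      have hma : ∀ x, μ x ∈ a ↔ x ∈ a :=
        fun x => ⟨fun h => by have := haμ _ h; rw [hμ2] at this; exact this, haμ x⟩
      have hk : ∀ x, k (μ x) = k x := by
        intro x
        simp only [k, hma, h2]
      refine ⟨φ + ι k, ⟨D.add_mem hφD (ιD _), fun x hx => ?_⟩, fun σ hσ => ?_, ?_⟩
      · rw [smul_add, hφ, swinv k hk]
      · rw [smul_add, hφ]
        congr 1
        refine hM.mono fun x => ?_
        by_cases hx : x ∈ a
        · rw [hσ x (fun h => hoa (h ▸ hx)) (hd x hx)]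
        · have h5 : σ x ∉ a := by
            intro h
            have h6 := hσ _ (fun h7 => hoa (h7 ▸ h)) (hd _ h)
            rw [σ.injective h6] at h
            exact hx h
          simp only [k, if_neg hx, if_neg h5]
      · rw [h4]
        rcases z2 w with rfl | rfl
        · left
          congr 2
          funext x
          rcases hu x with rfl | hx | hx
          · simp only [k, if_neg hoa]; exact h1
          · simp only [k, if_pos hx]
          · simp only [k, if_neg (fun h => hd x h hx)]; exact h3 x hx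
        · right
          rw [add_assoc, ← hM.add]
          congr 2
          funext x
          rw [Pi.add_apply]
          rcases hu x with rfl | hx | hx
          · simp only [k, ind, if_neg hoa, if_neg hob, add_zero]; exact h1
          · simp only [k, ind, if_pos hx, if_neg (hd x hx), add_zero]
          · simp only [k, ind, if_neg (fun h => hd x h hx), if_pos hx, zero_add]; exact h3 x hx)
    μ hμo hbμ hμb hμ2 (y := y) ⟨hyD, fun x _ => hy x⟩ (fun x _ => hy x)
  obtain ⟨φ, hφD, hφ, g, h1, h2, _, h4⟩ := main φ₂ hφ₂D (fun ρ hρ => hφ₂ ρ fun x _ hx => hρ.1 x hx)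
  refine ⟨φ, hφD, hφ, g + g₂, ?_, fun x => ?_, ?_⟩
  · rw [Pi.add_apply, h1, hg1 o hob, add_zero]
  · rw [Pi.add_apply, Pi.add_apply, h2, hg2]
  · rw [hg3, h4, hM.add, add_assoc]

theorem main_all.{u, v} (n : ℕ) : Main.{u, v} n := by
  induction n with
  | zero => exact main_zero
  | succ n ih => exact main_succ ih

/-- **(HH)** -/
theorem halve {ι : (Ω → ZMod 2) → Y} (hM : Mod ι) {m : ℕ} (hm : 1 ≤ m) (hc : Fintype.card Ω = 2 ^ m + 1) (o : Ω)
    (R : Sylow 2 (Perm Ω)) (hRo : ∀ s ∈ R, s o = o)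
    (hE : ∀ y : Y, (∀ s ∈ R, s • y = y) →
      ∃ φ, (∀ g : Perm Ω, g • φ = φ) ∧ (y = φ ∨ y = φ + ι (Pi.single o 1)))
    (μ : Perm Ω) (hμo : μ o = o) (hμ : ∀ x, x ≠ o → μ x ≠ x) (hμ2 : ∀ x, μ (μ x) = x) (y : Y)
    (hy : ∀ x, swap x (μ x) • y = y) :
    ∃ φ g, (∀ h : Perm Ω, h • φ = φ) ∧ g o = 0 ∧ (∀ x, g (μ x) = g x) ∧ y = φ + ι g := by
  obtain ⟨n, rfl⟩ : ∃ n, m = n + 1 := ⟨m - 1, by omega⟩
  have M := Md.of hM
  have h1 : ι (Pi.single o 1) = ι (fun x => if x = o then 0 else 1) := by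
    apply M.eq_of_add
    rw [← M.add, hM.ker]
    right
    funext x
    rw [Pi.add_apply, Pi.single_apply, Pi.one_apply]
    by_cases hx : x = o
    · rw [if_pos hx, if_pos hx, add_zero]
    · rw [if_neg hx, if_neg hx, zero_add]
  obtain ⟨φ, _, hφ, g, h2, h3, h4⟩ := main_all n Ω Y ι M ⊤ (fun _ _ _ => AddSubgroup.mem_top _)
    (fun _ => AddSubgroup.mem_top _) o hc R R.isPGroup' hRo (fun y _ h => by
      obtain ⟨φ, h5, h6⟩ := hE y h
      exact ⟨φ, AddSubgroup.mem_top _, h5, by rw [← h1]; exact h6⟩) μ hμo hμ hμ2 y (AddSubgroup.mem_top _) hy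
  exact ⟨φ, g, hφ, h2, h3, h4⟩

end basic

end Cfsg.Agent.Omega.IId.SymWr.Halve
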