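import Cfsg.Agent.Omega.IId.SymWr.Tr

/-!
# (E) of THEOREM L (bb OMEGA #17498, helper142): the fixed vectors of `N_S(V_i)`

Pure module theory.  `Γ` is finite, `S` a 2-subgroup, `B i`, `C i` (`i : I`) subgroups which are permuted by `S` (via
`a`), `B i` commutes with `C i`, `B j ≤ C i` for `j ≠ i` and `C i` normalises `B j`, the indices of `S ⊓ B i` in `B i`
and of `S ⊓ C i` in `C i` are odd.  `Γ` acts on the finite elementary abelian 2-group `Y`, on which `S` has only the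
fixed vectors `0`, `z`; `z` is the sum of the vectors `sg i`, which are permuted by `S` and lie in subgroups `V i` on
which `B i` has no fixed vector.

* `EDat` : these hypotheses;
* `EDat.main` : if `x` is fixed by the stabiliser of `i` in `S`, then `x = φ` or `x = φ + sg i`, `φ` fixed by `B i`.
-/

set_option autoImplicit false

namespace Cfsg.Agent.Omega.IId.SymWr

open Subgroup

variable {Γ Y I : Type*} [Group Γ] [AddCommGroup Y] [DistribMulAction Γ Y]

/-- a 2-group has a nonzero fixed vector on a nonzero invariant elementary abelian 2-group -/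
theorem exists_fixed [Finite Γ] [Finite Y] {S : Subgroup Γ} (hS : IsPGroup 2 S) (W : AddSubgroup Y)
    (hW : ∀ s ∈ S, ∀ w ∈ W, s • w ∈ W) (h2 : ∀ y : Y, y + y = 0) {w : Y} (hw : w ∈ W) (hw0 : w ≠ 0) :
    ∃ v ∈ W, v ≠ 0 ∧ ∀ s ∈ S, s • v = v := by
  have : Fact (Nat.Prime 2) := ⟨Nat.prime_two⟩
  let _ : MulAction S W :=
    { smul := fun s w => ⟨(s : Γ) • (w : Y), hW s s.2 w w.2⟩
      one_smul := fun w => Subtype.ext (one_smul Γ (w : Y))
      mul_smul := fun s t w => Subtype.ext (mul_smul (s : Γ) (t : Γ) (w : Y)) }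
  have hsm : ∀ (s : S) (w : W), ((s • w : W) : Y) = (s : Γ) • (w : Y) := fun _ _ => rfl
  have hdvd : 2 ∣ Nat.card W := by
    have h1 : addOrderOf (⟨w, hw⟩ : W) = 2 := by
      refine addOrderOf_eq_prime ?_ fun h => hw0 (congrArg Subtype.val h)
      rw [two_nsmul]
      exact Subtype.ext (h2 w)
    rw [← h1]
    exact addOrderOf_dvd_natCard _
  have h0 : (0 : W) ∈ MulAction.fixedPoints S W := fun s => Subtype.ext (by rw [hsm]; exact smul_zero _)
  obtain ⟨b, hb, hb0⟩ := hS.exists_fixed_point_of_prime_dvd_card_of_fixed_point W hdvd h0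
  refine ⟨b, b.2, fun h => hb0 (Subtype.ext h.symm), fun s hs => ?_⟩
  have h3 := congrArg Subtype.val (hb ⟨s, hs⟩)
  exact h3

/-- The hypotheses of (E). -/
structure EDat (S : Subgroup Γ) (B C : I → Subgroup Γ) (a : Γ → Equiv.Perm I) (V : I → AddSubgroup Y) (sg : I → Y)
    (z : Y) : Prop where
  two : IsPGroup 2 S
  add_self : ∀ y : Y, y + y = 0
  a_mul : ∀ s ∈ S, ∀ t ∈ S, a (s * t) = a s * a t
  trans : ∀ i j, ∃ s ∈ S, a s i = j
  conjB : ∀ s ∈ S, ∀ i, ∀ b ∈ B i, s * b * s⁻¹ ∈ B (a s i)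
  conjC : ∀ s ∈ S, ∀ i, ∀ c ∈ C i, s * c * s⁻¹ ∈ C (a s i)
  B_le : ∀ i j, j ≠ i → B j ≤ C i
  comm : ∀ i, ∀ b ∈ B i, ∀ c ∈ C i, b * c = c * b
  norm : ∀ i j, j ≠ i → ∀ c ∈ C i, ∀ b ∈ B j, c * b * c⁻¹ ∈ B j
  oddB : ∀ i, Odd (S.relIndex (B i))
  oddC : ∀ i, Odd (S.relIndex (C i))
  fixS : ∀ y : Y, (∀ s ∈ S, s • y = y) → y = 0 ∨ y = z
  z_ne : z ≠ 0
  sg_mem : ∀ i, sg i ∈ V i
  V_inv : ∀ i, ∀ b ∈ B i, ∀ v ∈ V i, b • v ∈ V i
  V_fix : ∀ i, ∀ v ∈ V i, (∀ b ∈ B i, b • v = v) → v = 0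
  sg_S : ∀ s ∈ S, ∀ i, s • sg i = sg (a s i)
  sg_C : ∀ i, ∀ c ∈ C i, c • sg i = sg i
  sum : ∑ᶠ i, sg i = z

namespace EDat

variable {S : Subgroup Γ} {B C : I → Subgroup Γ} {a : Γ → Equiv.Perm I} {V : I → AddSubgroup Y} {sg : I → Y} {z : Y}
  (h : EDat S B C a V sg z)

include h

theorem a_one : a 1 = 1 := by
  have := h.a_mul 1 (one_mem S) 1 (one_mem S)
  rw [mul_one] at this
  exact mul_right_cancel (a := a 1) (b := a 1) (by rw [one_mul]; exact this.symm) |>.symm ▸ rfl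

theorem a_inv {s : Γ} (hs : s ∈ S) : a s⁻¹ = (a s)⁻¹ := by
  have := h.a_mul s⁻¹ (inv_mem hs) s hs
  rw [inv_mul_cancel, h.a_one] at this
  exact eq_inv_of_mul_eq_one_left this.symm

theorem a_inv_apply {s : Γ} (hs : s ∈ S) (i : I) : a s⁻¹ (a s i) = i := by
  rw [h.a_inv hs]
  exact (a s).symm_apply_apply i

theorem sg_ne (i : I) : sg i ≠ 0 := by
  intro h0
  refine h.z_ne ?_
  rw [← h.sum]
  refine finsum_eq_zero_of_forall_eq_zero fun j => ?_
  obtain ⟨s, hs, h1⟩ := h.trans i j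
  rw [← h1, ← h.sg_S s hs, h0, smul_zero]

theorem add_add_cancel (x y : Y) : x + y + y = x := by rw [add_assoc, h.add_self, add_zero]

theorem conjB_iff {s : Γ} (hs : s ∈ S) (i : I) (x : Γ) : s * x * s⁻¹ ∈ B (a s i) ↔ x ∈ B i := by
  refine ⟨fun hx => ?_, h.conjB s hs i x⟩
  have h1 := h.conjB s⁻¹ (inv_mem hs) _ _ hx
  rw [h.a_inv_apply hs] at h1
  convert h1 using 1
  group

theorem conjC_iff {s : Γ} (hs : s ∈ S) (i : I) (x : Γ) : s * x * s⁻¹ ∈ C (a s i) ↔ x ∈ C i := by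
  refine ⟨fun hx => ?_, h.conjC s hs i x⟩
  have h1 := h.conjC s⁻¹ (inv_mem hs) _ _ hx
  rw [h.a_inv_apply hs] at h1
  convert h1 using 1
  group

omit h in
theorem conjS_iff {s : Γ} (hs : s ∈ S) (x : Γ) : s * x * s⁻¹ ∈ S ↔ x ∈ S := by
  refine ⟨fun hx => ?_, fun hx => mul_mem (mul_mem hs hx) (inv_mem hs)⟩
  have := mul_mem (mul_mem (inv_mem hs) hx) hs
  convert this using 1
  group

/-- `S ∩ C i` acts trivially on the indices -/
theorem a_of_C {i : I} {s : Γ} (hs : s ∈ S) (hC : s ∈ C i) : a s = 1 := by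
  have key : ∀ j, j ≠ i → a s j = j := by
    intro j hj
    by_contra hne
    refine h.sg_ne j (h.V_fix j _ (h.sg_mem j) fun b hb => ?_)
    -- `B j ≤ B (a s j) ≤ C j`
    have hb' : s⁻¹ * b * s ∈ B j := by
      have := h.norm i j hj s⁻¹ (inv_mem hC) b hb
      rwa [inv_inv] at this
    have h1 := h.conjB s hs j _ hb'
    have h2 : b ∈ B (a s j) := by
      convert h1 using 1
      group
    exact h.sg_C j b (h.B_le j _ hne h2)
  ext j
  by_cases hj : j = i
  · by_contra hne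
    rw [Equiv.Perm.one_apply] at hne
    have h1 : a s (a s j) = a s j := key _ (by rwa [hj] at hne ⊢)
    exact hne ((a s).injective h1)
  · rw [key j hj, Equiv.Perm.one_apply]

theorem a_of_B {i : I} {s : Γ} (hs : s ∈ S) (hB : s ∈ B i) : a s = 1 := by
  by_cases hI : ∃ j, j ≠ i
  · obtain ⟨j, hj⟩ := hI
    exact h.a_of_C hs (h.B_le j i hj.symm hB)
  · push Not at hI
    ext j
    rw [hI j, hI (a s i), Equiv.Perm.one_apply]

/-- the fixed vectors of the kernel of `S` on the indices -/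
def FE (S : Subgroup Γ) (a : Γ → Equiv.Perm I) (y : Y) : Prop := ∀ s ∈ S, a s = 1 → s • y = y

theorem FE_B {y : Y} (hy : FE S a y) (i : I) : ∀ s ∈ S, s ∈ B i → s • y = y :=
  fun s hs hB => hy s hs (h.a_of_B hs hB)

theorem FE_C {y : Y} (hy : FE S a y) (i : I) : ∀ s ∈ S, s ∈ C i → s • y = y :=
  fun s hs hC => hy s hs (h.a_of_C hs hC)

theorem FE_smul {y : Y} (hy : FE S a y) {s : Γ} (hs : s ∈ S) : FE S a (s • y) := by
  intro t ht h1
  have h2 : s⁻¹ * t * s ∈ S := mul_mem (mul_mem (inv_mem hs) ht) hs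
  have h3 : a (s⁻¹ * t * s) = 1 := by
    rw [h.a_mul _ (mul_mem (inv_mem hs) ht) _ hs, h.a_mul _ (inv_mem hs) _ ht, h1, h.a_inv hs, mul_one,
      inv_mul_cancel]
  have h4 := hy _ h2 h3
  rw [mul_assoc, mul_smul, inv_smul_eq_iff, mul_smul] at h4
  exact h4

omit h in
theorem FE_add {x y : Y} (hx : FE S a x) (hy : FE S a y) : FE S a (x + y) := fun s hs h1 => by
  rw [smul_add, hx s hs h1, hy s hs h1]

theorem FE_sg (i : I) : FE S a (sg i) := fun s hs h1 => by rw [h.sg_S s hs, h1, Equiv.Perm.one_apply]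

omit h in
theorem FE_of {i : I} {x : Y} (hx : ∀ s ∈ S, a s i = i → s • x = x) : FE S a x := fun s hs h1 =>
  hx s hs (by rw [h1, Equiv.Perm.one_apply])

variable [Finite Γ]

/-- an `S`-invariant subgroup without `z` is trivial -/
theorem eq_zero_of [Finite Y] {W : AddSubgroup Y} (hW : ∀ s ∈ S, ∀ w ∈ W, s • w ∈ W) (hz : z ∉ W) {w : Y} (hw : w ∈ W) :
    w = 0 := by
  by_contra hw0
  obtain ⟨v, hv, hv0, h1⟩ := exists_fixed h.two W hW h.add_self hw hw0
  rcases h.fixS v h1 with h2 | h2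
  · exact hv0 h2
  · exact hz (h2 ▸ hv)

/-- conjugation of the transfers -/
theorem smul_eB {y : Y} (hy : FE S a y) {s : Γ} (hs : s ∈ S) (i : I) :
    s • tr S (B i) y = tr S (B (a s i)) (s • y) :=
  smul_tr (h.FE_B hy i) (conjS_iff hs) (h.conjB_iff hs i)

theorem smul_eC {y : Y} (hy : FE S a y) {s : Γ} (hs : s ∈ S) (i : I) :
    s • tr S (C i) y = tr S (C (a s i)) (s • y) :=
  smul_tr (h.FE_C hy i) (conjS_iff hs) (h.conjC_iff hs i)

theorem FE_eB {y : Y} (hy : FE S a y) (i : I) : FE S a (tr S (B i) y) := fun s hs h1 => by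
  rw [h.smul_eB hy hs, h1, Equiv.Perm.one_apply, hy s hs h1]

theorem FE_eC {y : Y} (hy : FE S a y) (i : I) : FE S a (tr S (C i) y) := fun s hs h1 => by
  rw [h.smul_eC hy hs, h1, Equiv.Perm.one_apply, hy s hs h1]

/-- (o) -/
theorem eB_eq_zero [Finite Y] [Finite I] {i : I} {u : Y} (hu : FE S a u) (hC : ∀ c ∈ C i, c • u = u) : tr S (B i) u = 0 := by
  let W : AddSubgroup Y :=
    { carrier := {w | ∀ j, ∀ b ∈ B j, b • w = w}
      add_mem' := fun {x y} hx hy j b hb => by rw [smul_add, hx j b hb, hy j b hb]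
      zero_mem' := fun j b _ => smul_zero _
      neg_mem' := fun {x} hx j b hb => by rw [smul_neg, hx j b hb] }
  have hW : ∀ s ∈ S, ∀ w ∈ W, s • w ∈ W := by
    intro s hs w hw j b hb
    have h1 := h.conjB s⁻¹ (inv_mem hs) j b hb
    have h2 := hw _ _ h1
    rw [inv_inv, mul_assoc, mul_smul, inv_smul_eq_iff, mul_smul] at h2
    exact h2
  have hz : z ∉ W := by
    intro hz
    refine h.sg_ne i (h.V_fix i _ (h.sg_mem i) fun b hb => ?_)
    have := Fintype.ofFinite I
    classical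
    have h1 : z = sg i + ∑ j ∈ Finset.univ.erase i, sg j := by
      rw [← h.sum, finsum_eq_sum_of_fintype, Finset.add_sum_erase _ _ (Finset.mem_univ i)]
    have h2 : b • (∑ j ∈ Finset.univ.erase i, sg j) = ∑ j ∈ Finset.univ.erase i, sg j := by
      rw [Finset.smul_sum]
      refine Finset.sum_congr rfl fun j hj => h.sg_C j b (h.B_le j i (Finset.ne_of_mem_erase hj).symm hb)
    have h3 : b • z = z := hz i b hb
    rw [h1, smul_add, h2] at h3
    exact add_right_cancel h3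
  refine h.eq_zero_of hW hz (w := tr S (B i) u) fun j b hb => ?_
  by_cases hj : j = i
  · subst hj
    exact smul_tr_mem (h.FE_B hu j) hb
  · have hbC := h.B_le i j hj hb
    rw [smul_tr_comm (fun k hk => (h.comm i k hk b hbC).symm), hC b hbC]

/-- (p3) -/
theorem eC_eq_zero {i l : I} (hl : l ≠ i) {y : Y} (hy : FE S a y) (h0 : tr S (B l) y = 0) : tr S (C i) y = 0 := by
  -- `K = (S ∩ C i) B l`
  let K : Subgroup Γ := (S ⊓ C i) ⊔ B l
  have hBC : B l ≤ C i := h.B_le i l hl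
  have hn : (S ⊓ C i) ≤ normalizer (B l : Set Γ) := by
    intro s hs
    rw [mem_normalizer_iff]
    intro x
    exact (conj_mem_iff (h.norm i l hl s hs.2) x).symm
  have hKC : K ≤ C i := sup_le inf_le_right hBC
  have hK : ∀ k ∈ K, ∃ b ∈ B l, b⁻¹ * k ∈ S ⊓ C i := by
    intro k hk
    have h1 : k ∈ ((B l ⊔ (S ⊓ C i) : Subgroup Γ) : Set Γ) := by
      rw [sup_comm]
      exact hk
    rw [coe_mul_of_right_le_normalizer_left _ _ hn, Set.mem_mul] at h1
    obtain ⟨b, hb, x, hx, rfl⟩ := h1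
    exact ⟨b, hb, by rw [inv_mul_cancel_left]; exact hx⟩
  have h1 : tr (S ⊓ C i) K y = tr S (B l) y := by
    have h2 : ∀ x ∈ S ⊓ C i, x ∈ K → x • y = y := fun x hx _ => h.FE_C hy i x (mem_inf.1 hx).1 (mem_inf.1 hx).2
    rw [tr_mul h2 le_sup_right hK]
    rw [← tr_inf (S ⊓ C i) (B l), ← tr_inf S (B l)]
    congr 1
    rw [inf_assoc, inf_eq_right.2 hBC]
  have h3 : ∀ x ∈ S ⊓ C i, x • y = y := fun x hx => h.FE_C hy i x (mem_inf.1 hx).1 (mem_inf.1 hx).2
  rw [← tr_inf S (C i), ← tr_tr (K := K) le_sup_left hKC h3, h1, h0, tr_zero]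

/-- `e_l` kills the conjugates `s • y`, `a s i = l`, if `e_i` kills `y` -/
theorem eB_smul_eq_zero {i : I} {y : Y} (hy : FE S a y) (h0 : tr S (B i) y = 0) {s : Γ} (hs : s ∈ S) :
    tr S (B (a s i)) (s • y) = 0 := by
  rw [← h.smul_eB hy hs, h0, smul_zero]

/-- the `e_i`-kernel: `e'` kills the conjugates outside `i` -/
theorem eC_smul_eq_zero {i : I} {y : Y} (hy : FE S a y) (h0 : tr S (B i) y = 0) {s : Γ} (hs : s ∈ S)
    (hne : a s i ≠ i) : tr S (C i) (s • y) = 0 :=
  h.eC_eq_zero hne (h.FE_smul hy hs) (h.eB_smul_eq_zero hy h0 hs)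

theorem eB_sg (i : I) : tr S (B i) (sg i) = 0 := by
  refine h.V_fix i _ ?_ fun b hb => smul_tr_mem (h.FE_B (h.FE_sg i) i) hb
  classical
  have := Fintype.ofFinite (B i ⧸ S.subgroupOf (B i))
  rw [tr, finsum_eq_sum_of_fintype]
  exact sum_mem fun c _ => h.V_inv i _ (Quotient.out c : B i).2 _ (h.sg_mem i)

theorem eC_fix {i : I} {y : Y} (hC : ∀ c ∈ C i, c • y = y) : tr S (C i) y = y :=
  tr_odd hC (h.oddC i) (h.add_self y)

theorem eC_z [Finite I] (i : I) : tr S (C i) z = sg i := by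
  have := Fintype.ofFinite I
  classical
  rw [← h.sum, finsum_eq_sum_of_fintype, tr_sum, ← Finset.add_sum_erase _ _ (Finset.mem_univ i),
    h.eC_fix (h.sg_C i), Finset.sum_eq_zero, add_zero]
  intro j hj
  exact h.eC_eq_zero (Finset.ne_of_mem_erase hj) (h.FE_sg j) (h.eB_sg j)

/-- (a) : vectors fixed by `C i` and by the stabiliser -/
theorem of_fixC [Finite Y] [Finite I] {i : I} {u : Y} (hC : ∀ c ∈ C i, c • u = u) (hT : ∀ s ∈ S, a s i = i → s • u = u) :
    u = 0 ∨ u = sg i := by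
  have := Fintype.ofFinite I
  classical
  choose! s hs has using fun j => h.trans i j
  -- the sum over the conjugates
  let N : Y → Y := fun y => ∑ j, s j • y
  have hNadd : ∀ x y, N (x + y) = N x + N y := fun x y => by
    simp only [N, smul_add, Finset.sum_add_distrib]
  have hNfix : ∀ y, (∀ t ∈ S, a t i = i → t • y = y) → ∀ t ∈ S, t • N y = N y := by
    intro y hy t ht
    simp only [N]
    rw [Finset.smul_sum, ← Equiv.sum_comp (a t) fun j => s j • y]
    refine Finset.sum_congr rfl fun j _ => ?_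
    -- `t s_j = s_(a t j) r`, `r` in the stabiliser
    have h1 : (s (a t j))⁻¹ * (t * s j) ∈ S := mul_mem (inv_mem (hs _)) (mul_mem ht (hs _))
    have h2 : a ((s (a t j))⁻¹ * (t * s j)) i = i := by
      rw [h.a_mul _ (inv_mem (hs _)) _ (mul_mem ht (hs _)), h.a_mul _ ht _ (hs _), Equiv.Perm.mul_apply,
        Equiv.Perm.mul_apply, has j]
      have h4 := h.a_inv_apply (hs (a t j)) i
      rwa [has (a t j)] at h4
    have h3 := hy _ h1 h2
    rw [mul_smul, inv_smul_eq_iff, mul_smul] at h3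
    exact h3
  have hsgT : ∀ t ∈ S, a t i = i → t • sg i = sg i := fun t ht h1 => by rw [h.sg_S t ht, h1]
  have hNsg : N (sg i) = z := by
    simp only [N]
    rw [← h.sum, finsum_eq_sum_of_fintype]
    refine Finset.sum_congr rfl fun j _ => ?_
    rw [h.sg_S _ (hs j), has]
  -- if `N u = 0` then `u = 0`
  have key : ∀ v : Y, (∀ c ∈ C i, c • v = v) → (∀ t ∈ S, a t i = i → t • v = v) → N v = 0 → v = 0 := by
    intro v hvC hvT h0
    have hE : FE S a v := FE_of hvT
    have h1 : tr S (B i) v = 0 := h.eB_eq_zero hE hvC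
    have h2 : tr S (C i) (N v) = 0 := by rw [h0, tr_zero]
    rw [tr_sum, ← Finset.add_sum_erase _ _ (Finset.mem_univ i)] at h2
    rw [Finset.sum_eq_zero, add_zero, hvT _ (hs i) (has i), h.eC_fix hvC] at h2
    · exact h2
    · intro j hj
      refine h.eC_smul_eq_zero hE h1 (hs j) ?_
      rw [has]
      exact Finset.ne_of_mem_erase hj
  rcases h.fixS _ (hNfix u hT) with h1 | h1
  · exact Or.inl (key u hC hT h1)
  · right
    have h2 : u + sg i = 0 := by
      refine key _ (fun c hc => ?_) (fun t ht h3 => ?_) ?_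
      · rw [smul_add, hC c hc, h.sg_C i c hc]
      · rw [smul_add, hT t ht h3, hsgT t ht h3]
      · rw [hNadd, h1, hNsg, h.add_self]
    calc u = u + sg i + sg i := (h.add_add_cancel u (sg i)).symm
      _ = sg i := by rw [h2, zero_add]

/-- **(E)** of THEOREM L. -/
theorem main [Finite Y] [Finite I] (i : I) {x : Y} (hx : ∀ s ∈ S, a s i = i → s • x = x) :
    ∃ φ : Y, (∀ b ∈ B i, b • φ = φ) ∧ (x = φ ∨ x = φ + sg i) := by
  have hE : FE S a x := FE_of hx
  -- `T = N_S(V i)` fixes the transfers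
  have hTB : ∀ y : Y, (∀ s ∈ S, a s i = i → s • y = y) → ∀ s ∈ S, a s i = i → s • tr S (B i) y = tr S (B i) y := by
    intro y hy s hs h1
    rw [h.smul_eB (FE_of hy) hs, h1, hy s hs h1]
  have hTC : ∀ y : Y, (∀ s ∈ S, a s i = i → s • y = y) → ∀ s ∈ S, a s i = i → s • tr S (C i) y = tr S (C i) y := by
    intro y hy s hs h1
    rw [h.smul_eC (FE_of hy) hs, h1, hy s hs h1]
  -- (a)
  set u := tr S (C i) x with hu
  have huC : ∀ c ∈ C i, c • u = u := fun c hc => smul_tr_mem (h.FE_C hE i) hc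
  have huT := hTC x hx
  have hu2 : u = 0 ∨ u = sg i := h.of_fixC huC huT
  -- (b)
  set x' := x + u with hx'
  have hT' : ∀ s ∈ S, a s i = i → s • x' = x' := fun s hs h1 => by rw [hx', smul_add, hx s hs h1, huT s hs h1]
  have h1 : tr S (C i) x' = 0 := by
    rw [hx', tr_add, ← hu, h.eC_fix huC, h.add_self]
  set w := tr S (B i) x' with hw
  have hwB : ∀ b ∈ B i, b • w = w := fun b hb => smul_tr_mem (h.FE_B (FE_of hT') i) hb
  set x'' := x' + w with hx''
  have hT'' : ∀ s ∈ S, a s i = i → s • x'' = x'' := fun s hs h2 => by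
    rw [hx'', smul_add, hT' s hs h2, hTB x' hT' s hs h2]
  have h2 : tr S (B i) x'' = 0 := by
    rw [hx'', tr_add, ← hw, tr_odd hwB (h.oddB i) (h.add_self w), h.add_self]
  have h3 : tr S (C i) x'' = 0 := by
    rw [hx'', tr_add, h1, zero_add, hw, tr_comm fun c hc b hb => (h.comm i b hb c hc).symm, h1, tr_zero]
  have h4 : x'' = 0 := by
    let W : AddSubgroup Y :=
      { carrier := {y | ∀ s ∈ S, tr S (C i) (s • y) = 0}
        add_mem' := fun {x y} hx hy s hs => by rw [smul_add, tr_add, hx s hs, hy s hs, add_zero]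
        zero_mem' := fun s _ => by rw [smul_zero, tr_zero]
        neg_mem' := fun {x} hx s hs => by
          have h5 : -x = x := neg_eq_of_add_eq_zero_left (h.add_self x)
          rw [h5]
          exact hx s hs }
    refine h.eq_zero_of (W := W) (fun s hs y hy t ht => ?_) (fun hz => ?_) fun s hs => ?_
    · rw [smul_smul]
      exact hy _ (mul_mem ht hs)
    · have h5 := hz 1 (one_mem S)
      rw [one_smul, h.eC_z] at h5
      exact h.sg_ne i h5
    · by_cases h5 : a s i = i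
      · rw [hT'' s hs h5]
        exact h3
      · exact h.eC_smul_eq_zero (FE_of hT'') h2 hs h5
  have h5 : x' = w := by
    calc x' = x' + w + w := (h.add_add_cancel x' w).symm
      _ = w := by rw [← hx'', h4, zero_add]
  refine ⟨x', fun b hb => by rw [h5]; exact hwB b hb, ?_⟩
  rcases hu2 with h6 | h6
  · left
    rw [hx', h6, add_zero]
  · right
    rw [hx', ← h6, h.add_add_cancel]

end EDat

end Cfsg.Agent.Omega.IId.SymWr
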