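import Cfsg.Agent.Omega.IId.SymWr.EThm

/-!
# `m = 2`: the four-group `Y₀` centralises all pairs but one (bb OMEGA #18702, helper808), module part

`Γ` acts on the elementary abelian 2-group `Y`; `T` a 2-subgroup, `A ≤ T` normal in `T`, `h` of order 3 on `Y`,
commuted or inverted by the elements of `T`, inverted by some element of `A`.  `a` is the only nonzero vector `v` which is
fixed by `T` and has trace `v + h v + h² v = 0`.
`W` is a group of commuting involutions on `Y`, normalised by `h`, whose elements fixing `a` are trivial.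
If `y ∈ W` commutes with `T` on `Y`, then `y` and its conjugates under `h` fix all vectors fixed by `A` and `h`
(`fix`, `fix₂`), and `a`, `y a`, `h y h⁻¹ a`, `h⁻¹ y h a` are different (`ne₂`).
-/

set_option autoImplicit false

open Subgroup

namespace Cfsg.Agent.Omega.IId.SymWr.FourCore

variable {Γ Y : Type*} [Group Γ] [AddCommGroup Y] [DistribMulAction Γ Y]

/-- see the header -/
structure Core (T A W : Subgroup Γ) (h : Γ) (a : Y) : Prop where
  two : IsPGroup 2 T
  add_self : ∀ v : Y, v + v = 0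
  AT : A ≤ T
  nA : ∀ s ∈ T, ∀ α ∈ A, s⁻¹ * α * s ∈ A
  h3 : ∀ v : Y, h • h • h • v = v
  Th : ∀ s ∈ T, (∀ v : Y, s • h • v = h • s • v) ∨ ∀ v : Y, s • h • v = h • h • s • v
  τ : ∃ τ ∈ A, ∀ v : Y, τ • h • v = h • h • τ • v
  a0 : a ≠ 0
  aT : ∀ s ∈ T, s • a = a
  tra : a + h • a + h • h • a = 0
  uniq : ∀ v : Y, (∀ s ∈ T, s • v = v) → v + h • v + h • h • v = 0 → v = 0 ∨ v = a
  comm : ∀ w ∈ W, ∀ w' ∈ W, ∀ v : Y, w • w' • v = w' • w • v
  inv : ∀ w ∈ W, ∀ v : Y, w • w • v = v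
  Wh : ∀ w ∈ W, h * w * h⁻¹ ∈ W
  triv : ∀ w ∈ W, w • a = a → ∀ v : Y, w • v = v

/-- `F₀`-part of a vector -/
def P0 (h : Γ) (v : Y) : Y := h • v + h • h • v

/-- `F_h`-part of a vector: the trace -/
def P1 (h : Γ) (v : Y) : Y := v + h • v + h • h • v

namespace Core

variable {T A W : Subgroup Γ} {h : Γ} {a : Y} (C : Core T A W h a)

include C

theorem hinv (v : Y) : h⁻¹ • v = h • h • v := by rw [inv_smul_eq_iff, C.h3]

theorem h4 (v : Y) : h • h • h • h • v = h • v := C.h3 (h • v)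

theorem neg (u : Y) : -u = u := neg_eq_of_add_eq_zero_left (C.add_self u)

theorem eq_of (u v : Y) (h0 : u + v = 0) : u = v := by
  rw [← C.neg v]; exact eq_neg_of_add_eq_zero_left h0

theorem split (v : Y) : P0 h v + P1 h v = v := by
  unfold P0 P1
  have e : h • v + h • h • v + (v + h • v + h • h • v) = v + (h • v + h • v) + (h • h • v + h • h • v) := by abel
  rw [e, C.add_self, C.add_self, add_zero, add_zero]

theorem P1_fix (v : Y) : h • P1 h v = P1 h v := by
  unfold P1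
  rw [smul_add, smul_add, C.h3]
  abel

theorem P0_tr (v : Y) : P0 h v + h • P0 h v + h • h • P0 h v = 0 := by
  unfold P0
  rw [smul_add, smul_add, C.h3]
  have e : h • v + h • h • v + (h • h • v + v) + (v + h • v) =
      (v + v) + (h • v + h • v) + (h • h • v + h • h • v) := by abel
  rw [e]
  simp only [C.add_self, add_zero]

theorem P0_of_fix {u : Y} (hu : h • u = u) : P0 h u = 0 := by
  unfold P0
  rw [hu, hu, C.add_self]

omit C in
theorem P0_add (u v : Y) : P0 h (u + v) = P0 h u + P0 h v := by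
  unfold P0
  rw [smul_add, smul_add]
  abel

/-- `T` commutes with the projections -/
theorem smul_P0 {s : Γ} (hs : s ∈ T) (v : Y) : s • P0 h v = P0 h (s • v) := by
  unfold P0
  rcases C.Th s hs with h1 | h1
  · rw [smul_add, h1, h1, h1]
  · rw [smul_add, h1, h1, h1, C.h4]
    abel

theorem smul_P1 {s : Γ} (hs : s ∈ T) (v : Y) : s • P1 h v = P1 h (s • v) := by
  have e : ∀ u : Y, P1 h u = u + P0 h u := fun u => by
    have := C.split u
    nth_rw 2 [← this]
    have e' : P0 h u + P1 h u + P0 h u = P1 h u + (P0 h u + P0 h u) := by abel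
    rw [e', C.add_self, add_zero]
  rw [e, e, smul_add, C.smul_P0 hs]

/-- the elements of `W` which commute with `T` and `h` are trivial -/
theorem triv_of {w : Γ} (hw : w ∈ W) (hT : ∀ s ∈ T, ∀ v : Y, s • w • v = w • s • v)
    (hh : ∀ v : Y, h • w • v = w • h • v) (v : Y) : w • v = v := by
  refine C.triv w hw ?_ v
  rcases C.uniq (w • a) (fun s hs => by rw [hT s hs, C.aT s hs]) (by
    rw [hh, hh, ← smul_add, ← smul_add, C.tra, smul_zero]) with h1 | h1
  · exfalso
    apply C.a0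
    have := C.inv w hw a
    rw [h1, smul_zero] at this
    exact this.symm
  · exact h1

section

variable {y : Γ} (hy : y ∈ W) (hyT : ∀ s ∈ T, ∀ v : Y, s • y • v = y • s • v)

include hy

theorem mem2 : h * y * h⁻¹ ∈ W := C.Wh y hy

omit C hy in
theorem smul2 (v : Y) : (h * y * h⁻¹) • v = h • y • h⁻¹ • v := by rw [mul_smul, mul_smul]

theorem mem3 : h * (h * y * h⁻¹) * h⁻¹ ∈ W := C.Wh _ (C.Wh y hy)

omit hy in
theorem smul3 (v : Y) : (h * (h * y * h⁻¹) * h⁻¹) • v = h⁻¹ • y • h • v := by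
  have h1 : h⁻¹ • h⁻¹ • v = h • v := by
    rw [C.hinv v, C.hinv, C.h4]
  have h2 : ∀ u : Y, h • h • u = h⁻¹ • u := fun u => (C.hinv u).symm
  calc (h * (h * y * h⁻¹) * h⁻¹) • v = h • h • y • h⁻¹ • h⁻¹ • v := by simp only [mul_smul]
    _ = h⁻¹ • y • h • v := by rw [h1, h2]

include hyT

/-- `y₁ y₂ y₃ = 1` -/
theorem rel (v : Y) : y • h • y • h⁻¹ • h⁻¹ • y • h • v = v := by
  obtain ⟨y2, e2⟩ : ∃ y2, y2 = h * y * h⁻¹ := ⟨_, rfl⟩
  obtain ⟨y3, e3⟩ : ∃ y3, y3 = h * (h * y * h⁻¹) * h⁻¹ := ⟨_, rfl⟩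
  have m2 : y2 ∈ W := e2 ▸ C.mem2 hy
  have m3 : y3 ∈ W := e3 ▸ C.mem3 hy
  have s2 : ∀ v : Y, y2 • v = h • y • h⁻¹ • v := fun v => by rw [e2]; exact smul2 v
  have s3 : ∀ v : Y, y3 • v = h⁻¹ • y • h • v := fun v => by rw [e3]; exact C.smul3 v
  have key : ∀ v : Y, (y * y2 * y3) • v = v := by
    refine C.triv_of (mul_mem (mul_mem hy m2) m3) ?_ ?_
    · intro s hs v
      rw [mul_smul, mul_smul, mul_smul, mul_smul, hyT s hs]
      rcases C.Th s hs with h1 | h1
      · have h1' : ∀ v : Y, s • h⁻¹ • v = h⁻¹ • s • v := fun v => by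
          rw [eq_inv_smul_iff, ← h1, smul_inv_smul]
        have h2 : ∀ v : Y, s • y2 • v = y2 • s • v := fun v => by
          rw [s2, s2, h1, hyT s hs, h1']
        have h3 : ∀ v : Y, s • y3 • v = y3 • s • v := fun v => by
          rw [s3, s3, h1', hyT s hs, h1]
        rw [h2, h3]
      · have h1' : ∀ v : Y, s • h • v = h⁻¹ • s • v := fun v => by rw [h1, C.hinv]
        have h1'' : ∀ v : Y, s • h⁻¹ • v = h • s • v := fun v => by
          rw [← inv_smul_eq_iff, ← h1', smul_inv_smul]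
        have h2 : ∀ v : Y, s • y2 • v = y3 • s • v := fun v => by
          rw [s2, s3, h1', hyT s hs, h1'']
        have h3 : ∀ v : Y, s • y3 • v = y2 • s • v := fun v => by
          rw [s3, s2, h1'', hyT s hs, h1']
        rw [h2, h3, C.comm y3 m3 y2 m2]
    · intro v
      have h1 : ∀ v : Y, h • y • v = y2 • h • v := fun v => by rw [s2, inv_smul_smul]
      have h2 : ∀ v : Y, h • y2 • v = y3 • h • v := fun v => by
        rw [s2, s3, ← C.hinv, C.hinv v]
      have h3 : ∀ v : Y, h • y3 • v = y • h • v := fun v => by rw [s3, smul_inv_smul]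
      rw [mul_smul, mul_smul, mul_smul, mul_smul, h1, h2, h3, C.comm y3 m3 y hy, C.comm y2 m2 y hy]
  have h1 := key v
  rw [mul_smul, mul_smul, s2, s3] at h1
  exact h1

/-- `y₂ y₁ = y₃` -/
theorem rel2 (v : Y) : h • y • h⁻¹ • y • v = h⁻¹ • y • h • v := by
  have h1 := C.rel hy hyT (h⁻¹ • y • h • v)
  have h2 : h⁻¹ • y • h • (h⁻¹ • y • h • v) = v := by
    rw [smul_inv_smul, C.inv y hy, inv_smul_smul]
  have h3 : h⁻¹ • h⁻¹ • y • h • (h⁻¹ • y • h • v) = h⁻¹ • v := by rw [h2]
  rw [show y • h • y • h⁻¹ • h⁻¹ • y • h • (h⁻¹ • y • h • v) = y • h • y • h⁻¹ • v by rw [h2]] at h1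
  have h4 : y • (h * y * h⁻¹) • v = (h * y * h⁻¹) • y • v := C.comm y hy _ (C.mem2 hy) v
  rw [smul2, smul2] at h4
  rw [← h4]
  exact h1

/-- **(3)**: `y` fixes the vectors fixed by `A` and `h` -/
theorem fix [Finite Γ] [Finite Y] (hne : y • a ≠ a) {u : Y} (hA : ∀ α ∈ A, α • u = u) (hh : h • u = u) :
    y • u = u := by
  have hyA : ∀ {v : Y}, (∀ α ∈ A, α • v = v) → ∀ α ∈ A, α • y • v = y • v := fun hv α hα => by
    rw [hyT α (C.AT hα), hv α hα]
  have hyy : ∀ u : Y, h • u = u → (h * y * h⁻¹) • u = h • y • u := fun u hu => by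
    rw [smul2, inv_smul_eq_iff.mpr hu.symm]
  -- `f = 0`
  have hf : ∀ u : Y, (∀ α ∈ A, α • u = u) → h • u = u → P0 h (y • u) = 0 := by
    by_contra hcon
    push Not at hcon
    obtain ⟨u₀, hu1, hu2, hu3⟩ := hcon
    let W' : AddSubgroup Y :=
      { carrier := {v | ∃ u : Y, (∀ α ∈ A, α • u = u) ∧ h • u = u ∧ P0 h (y • u) = v}
        add_mem' := by
          rintro v v' ⟨u, h1, h2, rfl⟩ ⟨u', h1', h2', rfl⟩
          exact ⟨u + u', fun α hα => by rw [smul_add, h1 α hα, h1' α hα], by rw [smul_add, h2, h2'], by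
            rw [smul_add, P0_add]⟩
        zero_mem' := ⟨0, fun α _ => smul_zero _, smul_zero _, by
          rw [smul_zero]; unfold P0; rw [smul_zero, smul_zero, add_zero]⟩
        neg_mem' := by
          rintro v ⟨u, h1, h2, rfl⟩
          exact ⟨u, h1, h2, by rw [C.neg]⟩ }
    have hW' : ∀ s ∈ T, ∀ w ∈ W', s • w ∈ W' := by
      rintro s hs _ ⟨u, h1, h2, rfl⟩
      refine ⟨s • u, fun α hα => ?_, ?_, ?_⟩
      · have h3 := h1 _ (C.nA s hs α hα)
        rw [mul_smul, mul_smul, inv_smul_eq_iff] at h3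
        exact h3
      · rcases C.Th s hs with h3 | h3
        · rw [← h3, h2]
        · have h4 := h3 u
          rw [h2] at h4
          have h5 := congrArg (fun v => h • v) h4
          simp only [C.h3] at h5
          exact h5
      · rw [C.smul_P0 hs, hyT s hs]
    obtain ⟨v, ⟨u, h1, h2, h3⟩, hv0, hvT⟩ := exists_fixed C.two W' hW' C.add_self (w := P0 h (y • u₀))
      ⟨u₀, hu1, hu2, rfl⟩ hu3
    have hva : v = a := by
      rcases C.uniq v hvT (by rw [← h3]; exact C.P0_tr _) with h4 | h4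
      · exact absurd h4 hv0
      · exact h4
    rw [hva] at h3
    obtain ⟨g, hg⟩ : ∃ g, g = P1 h (y • u) := ⟨_, rfl⟩
    have hyu : y • u = a + g := by
      rw [hg, ← h3]; exact (C.split _).symm
    have hgh : h • g = g := by rw [hg]; exact C.P1_fix _
    have hgA : ∀ α ∈ A, α • g = g := fun α hα => by
      rw [hg, C.smul_P1 (C.AT hα), hyA h1 α hα]
    obtain ⟨δ, hδ⟩ : ∃ δ, δ = P0 h (y • g) := ⟨_, rfl⟩
    obtain ⟨g', hg'⟩ : ∃ g', g' = P1 h (y • g) := ⟨_, rfl⟩
    have hyg : y • g = δ + g' := by rw [hδ, hg']; exact (C.split _).symm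
    have hg'h : h • g' = g' := by rw [hg']; exact C.P1_fix _
    have hg'A : ∀ α ∈ A, α • g' = g' := fun α hα => by
      rw [hg', C.smul_P1 (C.AT hα), hyA hgA α hα]
    have hδA : ∀ α ∈ A, α • δ = δ := fun α hα => by
      rw [hδ, C.smul_P0 (C.AT hα), hyA hgA α hα]
    have hδt : δ + h • δ + h • h • δ = 0 := by rw [hδ]; exact C.P0_tr _
    have hinvfix : ∀ {v : Y}, h • v = v → h⁻¹ • v = v := fun hv => inv_smul_eq_iff.mpr hv.symm
    -- `y₂ a`
    have ha2 : h • y • h⁻¹ • a = h • h • a + g + h • δ + g' := by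
      have h4 := C.rel2 hy hyT u
      rw [h2, hyu] at h4
      simp only [smul_add, hinvfix hgh, hyg, hg'h] at h4
      have h5 : h • y • h⁻¹ • a + (h • δ + g') + (h • δ + g') = h⁻¹ • a + g + (h • δ + g') := by rw [h4]
      rw [add_assoc, C.add_self, add_zero] at h5
      rw [h5, C.hinv a]; abel
    obtain ⟨τ, hτ, hτh⟩ := C.τ
    have hτ1 : ∀ v : Y, τ • h • v = h⁻¹ • τ • v := fun v => by rw [hτh, C.hinv]
    have hτ2 : ∀ v : Y, τ • h⁻¹ • v = h • τ • v := fun v => by
      rw [← inv_smul_eq_iff, ← hτ1, smul_inv_smul]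
    have hτa : τ • a = a := C.aT τ (C.AT hτ)
    -- `y₃ a`
    have ha3 : h⁻¹ • y • h • a = h • a + g + h • h • δ + g' := by
      have h4 : τ • (h • y • h⁻¹ • a) = h⁻¹ • y • h • a := by
        rw [hτ1, hyT τ (C.AT hτ), hτ2, hτa]
      rw [← h4, ha2, smul_add, smul_add, smul_add, hgA τ hτ, hg'A τ hτ, hτ1, hτ1, hτa, hτ1, hδA τ hτ,
        C.hinv (h⁻¹ • a), C.hinv a, C.hinv δ, C.h4]
    -- `y a = a`
    apply hne
    have haa : a = h • a + h • h • a := by
      apply C.eq_of
      rw [← add_assoc]; exact C.tra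
    have hδδ : δ = h • δ + h • h • δ := by
      apply C.eq_of
      rw [← add_assoc]; exact hδt
    have e1 : y • h • a = h • h • a + g + δ + g' := by
      have h4 : y • h • a = h • (h⁻¹ • y • h • a) := by rw [smul_inv_smul]
      rw [h4, ha3, smul_add, smul_add, smul_add, hgh, hg'h, C.h3]
    have e2 : y • h • h • a = h • a + g + δ + g' := by
      have h4 : y • h • h • a = h⁻¹ • (h • y • h⁻¹ • a) := by rw [inv_smul_smul, C.hinv a]
      rw [h4, ha2, smul_add, smul_add, smul_add, hinvfix hgh, hinvfix hg'h, inv_smul_smul, inv_smul_smul]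
    calc y • a = y • (h • a + h • h • a) := by rw [← haa]
      _ = (h • h • a + g + δ + g') + (h • a + g + δ + g') := by rw [smul_add, e1, e2]
      _ = (h • a + h • h • a) + (g + g) + (δ + δ) + (g' + g') := by abel
      _ = a := by rw [C.add_self, C.add_self, C.add_self, add_zero, add_zero, add_zero, ← haa]
  -- `g = 1`
  have hg : ∀ u : Y, (∀ α ∈ A, α • u = u) → h • u = u → h • y • u = y • u := by
    intro u hA hh
    have h1 := C.split (y • u)
    rw [hf u hA hh, zero_add] at h1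
    rw [← h1]
    exact C.P1_fix _
  have h1 := hg u hA hh
  have h2 := hg (y • u) (hyA hA) h1
  rw [C.inv y hy] at h2
  have h3 := C.rel2 hy hyT u
  rw [hh, inv_smul_eq_iff.mpr h1.symm, C.inv y hy, hh] at h3
  exact h3.symm

/-- the conjugate of `y` under `h` -/
theorem fix₂ [Finite Γ] [Finite Y] (hne : y • a ≠ a) {u : Y} (hA : ∀ α ∈ A, α • u = u) (hh : h • u = u) :
    (h * y * h⁻¹) • u = u := by
  rw [smul2, inv_smul_eq_iff.mpr hh.symm, C.fix hy hyT hne hA hh, hh]

/-- `y₂ a ≠ y₁ a` -/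
theorem ne₂ (hne : y • a ≠ a) : (h * y * h⁻¹) • a ≠ y • a := by
  intro h1
  have m2 := C.mem2 hy
  have h2 : (y * (h * y * h⁻¹)) • a = a := by
    rw [mul_smul, h1, C.inv y hy]
  have h3 := C.triv _ (mul_mem hy m2) h2
  have h4 : ∀ v : Y, (h * y * h⁻¹) • v = y • v := fun v => by
    have := h3 v
    rw [mul_smul] at this
    have h5 := congrArg (fun u => y • u) this
    simp only [C.inv y hy] at h5
    exact h5
  apply hne
  refine C.triv_of hy hyT (fun v => ?_) a
  have h5 := h4 (h • v)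
  rw [smul2, inv_smul_smul] at h5
  exact h5

/-- `y₂ a ≠ a` -/
theorem ne₃ (hne : y • a ≠ a) : (h * y * h⁻¹) • a ≠ a := by
  intro h1
  have h2 := C.triv _ (C.mem2 hy) h1
  apply hne
  apply C.triv_of hy hyT
  intro v
  have h3 := h2 (h • v)
  rw [smul2, inv_smul_smul] at h3
  have h4 := h2 (h • v)
  have h5 : ∀ v : Y, y • v = v := fun v => by
    have h6 := h2 (h • v)
    rw [smul2, inv_smul_smul] at h6
    exact MulAction.injective h h6
  rw [h5, h5]

end

end Core

end Cfsg.Agent.Omega.IId.SymWr.FourCore
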