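import Cfsg.Agent.Omega.IId.SymWr.Base

/-!
# II.d, `SwBig`: the pairs and the 4-blocks of `S` on the points (THEOREM L, bb OMEGA #17498)

`Fours M μ ν` : `μ`, `ν` are commuting involutions of the points; the `{p, μ p}` (`p.2 ≠ 0`) are the `S`-pairs and the
`{p, μ p, ν p, μ (ν p)}` the 4-blocks.

* `exists_fours` : existence;
* `Fours.FA`, `Fours.FD` : the group of the permutations preserving all pairs, and the group of the permutations
  preserving all 4-blocks and permuting the pairs; 2-groups (`FA_isPGroup`, `FD_isPGroup`) normalised by `S`;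
* `Fours.A`, `Fours.D` : their preimages in `S`; `exists_A`, `exists_D` : all of `FA`, `FD` is induced by `S`.
-/

set_option autoImplicit false

namespace Cfsg.Agent.Omega.IId.SymWr

open Subgroup Pointwise Cfsg Cfsg.Agent.ZN Cfsg.Agent.Omega.MinPar Cfsg.Agent.Omega.FFThm
open Cfsg.Agent.Omega.Half (Amb amb_of_loc)
open Cfsg.Agent.Omega.Half.SymA (Pt E Mv pm)

universe u

variable {G : Type u} [Group G] {P V : Subgroup G} {k m : ℕ}

/-- The pairs `{p, μ p}` and the 4-blocks `{p, μ p, ν p, μ (ν p)}` of `S`. -/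
structure Fours {S : Subgroup G} (M : SymK S P V ⊥ k m) (μ ν : Equiv.Perm (Pt k m)) : Prop where
  mfst : ∀ p, (μ p).1 = p.1
  nfst : ∀ p, (ν p).1 = p.1
  mzero : ∀ p, p.2 = 0 → μ p = p
  nzero : ∀ p, p.2 = 0 → ν p = p
  mne : ∀ p, p.2 ≠ 0 → μ p ≠ p
  nne : ∀ p, p.2 ≠ 0 → ν p ≠ p
  nmu : ∀ p, p.2 ≠ 0 → ν p ≠ μ p
  msq : ∀ p, μ (μ p) = p
  nsq : ∀ p, ν (ν p) = p
  comm : ∀ p, μ (ν p) = ν (μ p)
  meqv : ∀ s ∈ S, ∀ p, pp M s (μ p) = μ (pp M s p)
  neqv : ∀ s ∈ S, ∀ p, pp M s (ν p) = ν (pp M s p) ∨ pp M s (ν p) = μ (ν (pp M s p))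

namespace Fours

section basic

variable {S : Subgroup G} {M : SymK S P V ⊥ k m} {μ ν : Equiv.Perm (Pt k m)} (F : Fours M μ ν)

include F

theorem mnz {p : Pt k m} : (μ p).2 = 0 ↔ p.2 = 0 := by
  constructor
  · intro h
    by_contra h0
    have h1 := F.mzero _ h
    rw [F.msq] at h1
    exact F.mne p h0 h1.symm
  · intro h
    rw [F.mzero p h, h]

theorem nnz {p : Pt k m} : (ν p).2 = 0 ↔ p.2 = 0 := by
  constructor
  · intro h
    by_contra h0
    have h1 := F.nzero _ h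
    rw [F.nsq] at h1
    exact F.nne p h0 h1.symm
  · intro h
    rw [F.nzero p h, h]

end basic

end Fours

section exist

variable [Finite G] {S : Sylow 2 G} {M : SymK (S : Subgroup G) P V ⊥ k m} (h : Sit S P V M)

/-- the stabiliser of a point in `S` -/
noncomputable def stab (h : Sit S P V M) (x : Pt k m) : Subgroup G where
  carrier := {s | s ∈ (S : Subgroup G) ∧ pp M s x = x}
  mul_mem' := by
    rintro a b ⟨ha, h1⟩ ⟨hb, h2⟩
    refine ⟨mul_mem ha hb, ?_⟩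
    rw [h.mul (h.SP ha) (h.SP hb), Equiv.Perm.mul_apply, h2, h1]
  one_mem' := ⟨one_mem _, by rw [h.one]; rfl⟩
  inv_mem' := by
    rintro a ⟨ha, h1⟩
    refine ⟨inv_mem ha, ?_⟩
    rw [h.inv (h.SP ha), Equiv.Perm.inv_eq_iff_eq, h1]

/-- the stabiliser of a summand in `S` -/
noncomputable def stabB (h : Sit S P V M) (x : Pt k m) : Subgroup G where
  carrier := {s | s ∈ (S : Subgroup G) ∧ (pp M s x).1 = x.1}
  mul_mem' := by
    rintro a b ⟨ha, h1⟩ ⟨hb, h2⟩
    refine ⟨mul_mem ha hb, ?_⟩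
    rw [h.mul (h.SP ha) (h.SP hb), Equiv.Perm.mul_apply, h.fst (h.SP ha) h2, h1]
  one_mem' := ⟨one_mem _, by rw [h.one]; rfl⟩
  inv_mem' := by
    rintro a ⟨ha, h1⟩
    refine ⟨inv_mem ha, ?_⟩
    have h2 := h.fst (inv_mem (h.SP ha)) h1
    rw [h.inv (h.SP ha), show (pp M a)⁻¹ (pp M a x) = x from (pp M a).symm_apply_apply x] at h2
    rw [h.inv (h.SP ha)]
    exact h2.symm

omit [Finite G] in
theorem mem_stab {h : Sit S P V M} {x : Pt k m} {s : G} : s ∈ stab h x ↔ s ∈ (S : Subgroup G) ∧ pp M s x = x := Iff.rfl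

omit [Finite G] in
theorem mem_stabB {h : Sit S P V M} {x : Pt k m} {s : G} :
    s ∈ stabB h x ↔ s ∈ (S : Subgroup G) ∧ (pp M s x).1 = x.1 := Iff.rfl

omit [Finite G] in
theorem card_mul_relIndex {A K : Subgroup G} (h : A ≤ K) : Nat.card A * A.relIndex K = Nat.card K := by
  have h1 := relIndex_mul_relIndex (⊥ : Subgroup G) A K bot_le h
  rwa [relIndex_bot_left, relIndex_bot_left] at h1

/-- two proper subgroups between a subgroup of index `≥ 4` and a 2-group -/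
theorem exists_chain {A T : Subgroup G} (hT : IsPGroup 2 T) (hAT : A ≤ T) (h4 : 4 ∣ A.relIndex T) :
    ∃ K L : Subgroup G, A ≤ K ∧ K ≤ L ∧ L ≤ T ∧ A.relIndex K = 2 ∧ K.relIndex L = 2 := by
  have : Fact (Nat.Prime 2) := ⟨Nat.prime_two⟩
  obtain ⟨n, hn⟩ := IsPGroup.iff_card.1 hT
  obtain ⟨a, ha⟩ := IsPGroup.iff_card.1 (hT.to_le hAT)
  have hmul : Nat.card A * A.relIndex T = Nat.card T := card_mul_relIndex hAT
  have han : a + 2 ≤ n := by
    obtain ⟨c, hc⟩ := h4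
    have h1 : 2 ^ (a + 2) ∣ 2 ^ n := ⟨c, by rw [← hn, ← hmul, ha, hc, pow_add]; ring⟩
    exact (Nat.pow_dvd_pow_iff_le_right (by norm_num)).1 h1
  have hA' : Nat.card (A.subgroupOf T) = 2 ^ a := by
    rw [← ha]
    exact Nat.card_congr (Subgroup.subgroupOfEquivOfLe hAT).toEquiv
  obtain ⟨K', hK', hAK⟩ := Sylow.exists_subgroup_card_pow_prime_le (G := T) 2 (n := a) (m := a + 1)
    (by rw [hn]; exact pow_dvd_pow 2 (by omega)) _ hA' (by omega)
  obtain ⟨L', hL', hKL⟩ := Sylow.exists_subgroup_card_pow_prime_le (G := T) 2 (n := a + 1) (m := a + 2)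
    (by rw [hn]; exact pow_dvd_pow 2 (by omega)) _ hK' (by omega)
  have hcard : ∀ R : Subgroup T, Nat.card (R.map T.subtype) = Nat.card R := fun R =>
    (Nat.card_congr (Subgroup.equivMapOfInjective R _ T.subtype_injective).toEquiv).symm
  have hAK' : A ≤ K'.map T.subtype := fun x hx => ⟨⟨x, hAT hx⟩, hAK (mem_subgroupOf.2 hx), rfl⟩
  have hKL' : K'.map T.subtype ≤ L'.map T.subtype := Subgroup.map_mono hKL
  refine ⟨K'.map T.subtype, L'.map T.subtype, hAK', hKL', map_subtype_le _, ?_, ?_⟩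
  · have h1 := card_mul_relIndex hAK'
    rw [hcard, hK', ha, pow_succ] at h1
    exact Nat.eq_of_mul_eq_mul_left (by positivity) h1
  · have h1 := card_mul_relIndex hKL'
    rw [hcard, hcard, hK', hL', pow_succ] at h1
    exact Nat.eq_of_mul_eq_mul_left (by positivity) h1

omit [Finite G] in
theorem stab_le (x : Pt k m) : stab h x ≤ stabB h x := fun s hs => ⟨hs.1, by rw [hs.2]⟩

theorem relIndex_stab {x : Pt k m} (hx : x.2 ≠ 0) : (stab h x).relIndex (stabB h x) = 2 ^ m := by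
  let f : stabB h x →* Equiv.Perm (Pt k m) :=
    { toFun := fun s => pp M s
      map_one' := h.one
      map_mul' := fun a b => h.mul (h.SP a.2.1) (h.SP b.2.1) }
  letI : MulAction (stabB h x) (Pt k m) := MulAction.compHom _ f
  have hsm : ∀ (s : stabB h x) (y : Pt k m), s • y = pp M s y := fun _ _ => rfl
  have h1 : (stab h x).subgroupOf (stabB h x) = MulAction.stabilizer (stabB h x) x := by
    ext s
    rw [mem_subgroupOf, MulAction.mem_stabilizer_iff, hsm, mem_stab]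
    exact ⟨fun h1 => h1.2, fun h1 => ⟨s.2.1, h1⟩⟩
  rw [relIndex, h1, MulAction.index_stabilizer]
  have h2 : MulAction.orbit (stabB h x) x = (fun y : Fin (2 ^ m + 1) => ((x.1, y) : Pt k m)) '' {y | y ≠ 0} := by
    ext q
    constructor
    · rintro ⟨s, rfl⟩
      refine ⟨(pp M s x).2, fun h0 => hx ((h.snd s.2.1).1 h0), ?_⟩
      exact Prod.ext s.2.2.symm rfl
    · rintro ⟨y, hy, rfl⟩
      obtain ⟨s, hs, h3⟩ := h.trans (p := x) (q := (x.1, y)) hx hy
      exact ⟨⟨s, hs, by rw [h3]⟩, h3⟩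
  rw [h2, Set.ncard_image_of_injective _ (fun a b hab => (Prod.ext_iff.1 hab).2)]
  have h3 : {y : Fin (2 ^ m + 1) | y ≠ 0} = ((Finset.univ.erase 0 : Finset (Fin (2 ^ m + 1))) : Set _) := by
    ext y
    simp
  rw [h3, Set.ncard_coe_finset, Finset.card_erase_of_mem (Finset.mem_univ _), Finset.card_univ, Fintype.card_fin]
  rfl

set_option maxHeartbeats 2000000 in
include h in
/-- **Existence of the pairs and the 4-blocks.** -/
theorem exists_fours : ∃ μ ν, Fours M μ ν := by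
  classical
  have hne : ((1 : Fin (2 ^ m + 1)) : Fin (2 ^ m + 1)) ≠ 0 := by
    have h2 : 2 ≤ 2 ^ m := by
      calc 2 = 2 ^ 1 := by norm_num
        _ ≤ 2 ^ m := Nat.pow_le_pow_right (by norm_num) h.hm1
    intro h0
    have h1 := congrArg Fin.val h0
    rw [Fin.val_zero, Fin.val_one', Nat.mod_eq_of_lt (by omega)] at h1
    exact one_ne_zero h1
  set x₀ : Pt k m := (⟨0, h.hk⟩, 1) with hx₀
  have hx : x₀.2 ≠ 0 := hne
  have h4 : 4 ∣ (stab h x₀).relIndex (stabB h x₀) := by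
    rw [relIndex_stab h hx]
    exact (Nat.pow_dvd_pow_iff_le_right (x := 2) (by norm_num)).2 h.hm
  have hT1 : stabB h x₀ ≤ (S : Subgroup G) := fun s hs => hs.1
  obtain ⟨K, L, hStK, hKL, hLT, hK2, hL2⟩ := exists_chain (S.isPGroup'.to_le hT1) (stab_le h x₀) h4
  have hLS : L ≤ (S : Subgroup G) := hLT.trans hT1
  have hKS : K ≤ (S : Subgroup G) := hKL.trans hLS
  have hStS : stab h x₀ ≤ (S : Subgroup G) := hStK.trans hKS
  obtain ⟨t, htK, htSt⟩ : ∃ t ∈ K, t ∉ stab h x₀ := by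
    by_contra h0
    push Not at h0
    have : (stab h x₀).relIndex K = 1 := relIndex_eq_one.2 h0
    omega
  obtain ⟨u, huL, huK⟩ : ∃ u ∈ L, u ∉ K := by
    by_contra h0
    push Not at h0
    have : K.relIndex L = 1 := relIndex_eq_one.2 h0
    omega
  have htS := hKS htK
  have huS := hLS huL
  -- products
  have hmul : ∀ a ∈ (S : Subgroup G), ∀ b ∈ (S : Subgroup G), ∀ p, pp M (a * b) p = pp M a (pp M b p) := by
    intro a ha b hb p
    rw [h.mul (h.SP ha) (h.SP hb), Equiv.Perm.mul_apply]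
  have heq : ∀ a ∈ (S : Subgroup G), ∀ b ∈ (S : Subgroup G), (pp M a x₀ = pp M b x₀ ↔ a⁻¹ * b ∈ stab h x₀) := by
    intro a ha b hb
    rw [mem_stab, hmul _ (inv_mem ha) _ hb, h.inv (h.SP ha), Equiv.Perm.inv_eq_iff_eq]
    exact ⟨fun h1 => ⟨mul_mem (inv_mem ha) hb, h1.symm⟩, fun h1 => h1.2.symm⟩
  have hK : ∀ a ∈ K, ∀ b ∈ K, a ∉ stab h x₀ → b ∉ stab h x₀ → pp M a x₀ = pp M b x₀ := by
    intro a ha b hb h1 h2
    rw [heq a (hKS ha) b (hKS hb), Half.mul_mem_of_index_two hK2 (inv_mem ha) hb, inv_mem_iff]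
    exact iff_of_false h1 h2
  have hnz : ∀ s ∈ (S : Subgroup G), (pp M s x₀).2 ≠ 0 := fun s hs h0 => hx ((h.snd hs).1 h0)
  have hbase : ∀ p : Pt k m, p.2 ≠ 0 → ∃ s ∈ (S : Subgroup G), pp M s x₀ = p := fun p hp => h.trans hx hp
  choose! c hcS hc using hbase
  -- `μ`
  obtain ⟨μ, hμd⟩ : ∃ μ : Pt k m → Pt k m, ∀ p, μ p = if p.2 = 0 then p else pp M (c p * t) x₀ := ⟨_, fun _ => rfl⟩
  have hμ0 : ∀ p, p.2 = 0 → μ p = p := fun p hp => by rw [hμd, if_pos hp]
  have hμ1 : ∀ p, p.2 ≠ 0 → μ p = pp M (c p * t) x₀ := fun p hp => by rw [hμd, if_neg hp]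
  have hμ : ∀ s ∈ (S : Subgroup G), μ (pp M s x₀) = pp M (s * t) x₀ := by
    intro s hs
    have h1 : μ (pp M s x₀) = pp M (c (pp M s x₀) * t) x₀ := hμ1 _ (hnz s hs)
    rw [h1]
    have h2 := hc _ (hnz s hs)
    have h3 := hcS _ (hnz s hs)
    set s' := c (pp M s x₀) with hs'
    rw [heq s' h3 s hs] at h2
    rw [hmul s' h3 t htS, hmul s hs t htS]
    have h4 : pp M s (pp M t x₀) = pp M s' (pp M (s'⁻¹ * s * t) x₀) := by
      rw [← hmul s hs t htS, ← hmul s' h3 _ (mul_mem (mul_mem (inv_mem h3) hs) htS)]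
      congr 2
      group
    rw [h4]
    congr 1
    refine hK t htK _ (mul_mem (hStK h2) htK) htSt ?_
    intro h5
    exact htSt ((Subgroup.mul_mem_cancel_left _ h2).1 h5)
  have htt : t * t ∈ stab h x₀ := (Half.mul_mem_of_index_two hK2 htK htK).2 Iff.rfl
  have hfix : ∀ s ∈ (S : Subgroup G), ∀ a ∈ stab h x₀, pp M (s * a) x₀ = pp M s x₀ := by
    intro s hs a ha
    rw [hmul s hs a (hStS ha), ha.2]
  have hμμ : ∀ p, μ (μ p) = p := by
    intro p
    by_cases hp : p.2 = 0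
    · rw [hμ0 p hp, hμ0 p hp]
    · conv_lhs => rw [← hc p hp]
      rw [hμ _ (hcS p hp), hμ _ (mul_mem (hcS p hp) htS), mul_assoc, hfix _ (hcS p hp) _ htt, hc p hp]
  have hμne : ∀ p, p.2 ≠ 0 → μ p ≠ p := by
    intro p hp h0
    have h1 : μ p = pp M (c p * t) x₀ := hμ1 p hp
    rw [h1] at h0
    conv_rhs at h0 => rw [← hc p hp]
    rw [eq_comm, heq _ (hcS p hp) _ (mul_mem (hcS p hp) htS), inv_mul_cancel_left] at h0
    exact htSt h0
  have hμeqv : ∀ s ∈ (S : Subgroup G), ∀ p, pp M s (μ p) = μ (pp M s p) := by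
    intro s hs p
    by_cases hp : p.2 = 0
    · rw [hμ0 p hp, hμ0 _ ((h.snd hs).2 hp)]
    · have h1 : μ p = pp M (c p * t) x₀ := hμ1 p hp
      rw [h1, ← hmul s hs _ (mul_mem (hcS p hp) htS), ← mul_assoc, ← hμ _ (mul_mem hs (hcS p hp)),
        hmul s hs _ (hcS p hp), hc p hp]
  have hμfst : ∀ p, (μ p).1 = p.1 := by
    intro p
    by_cases hp : p.2 = 0
    · rw [hμ0 p hp]
    · have h1 : μ p = pp M (c p * t) x₀ := hμ1 p hp
      rw [h1, hmul _ (hcS p hp) _ htS]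
      conv_rhs => rw [← hc p hp]
      exact h.fst (h.SP (hcS p hp)) (hLT (hKL htK)).2
  have hμnz : ∀ p, p.2 ≠ 0 → (μ p).2 ≠ 0 := by
    intro p hp h0
    have h1 := hμ0 _ h0
    rw [hμμ] at h1
    exact hμne p hp h1.symm
  -- the 4-blocks
  obtain ⟨β, hβd⟩ : ∃ β : Pt k m → Pt k m → Prop, ∀ p q, β p q ↔ ∃ s ∈ (S : Subgroup G), ∃ l ∈ L,
      pp M s x₀ = p ∧ pp M (s * l) x₀ = q := ⟨_, fun _ _ => Iff.rfl⟩
  have hβs : ∀ s ∈ (S : Subgroup G), ∀ q, β (pp M s x₀) q ↔ ∃ l ∈ L, pp M (s * l) x₀ = q := by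
    intro s hs q
    rw [hβd]
    constructor
    · rintro ⟨s', hs', l, hl, h1, h2⟩
      have h3 := (heq s hs s' hs').1 h1.symm
      refine ⟨s⁻¹ * s' * l, mul_mem (hKL (hStK h3)) hl, ?_⟩
      rw [← h2]
      congr 2
      group
    · rintro ⟨l, hl, h1⟩
      exact ⟨s, hs, l, hl, rfl, h1⟩
  have hβsymm : ∀ p q, β p q → β q p := by
    intro p q hpq
    obtain ⟨s, hs, l, hl, rfl, rfl⟩ := (hβd p q).1 hpq
    exact (hβd _ _).2 ⟨s * l, mul_mem hs (hLS hl), l⁻¹, inv_mem hl, rfl, by rw [mul_inv_cancel_right]⟩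
  have hβtrans : ∀ p q r, β p q → β q r → β p r := by
    intro p q r hpq h1
    obtain ⟨s, hs, l, hl, rfl, rfl⟩ := (hβd p q).1 hpq
    obtain ⟨l', hl', h2⟩ := (hβs _ (mul_mem hs (hLS hl)) r).1 h1
    exact (hβd _ _).2 ⟨s, hs, l * l', mul_mem hl hl', rfl, by rw [← mul_assoc, h2]⟩
  have hβeqv : ∀ s ∈ (S : Subgroup G), ∀ p q, β p q → β (pp M s p) (pp M s q) := by
    intro s hs p q hpq
    obtain ⟨s', hs', l, hl, rfl, rfl⟩ := (hβd p q).1 hpq
    refine (hβd _ _).2 ⟨s * s', mul_mem hs hs', l, hl, hmul s hs s' hs' _, ?_⟩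
    rw [mul_assoc, hmul s hs _ (mul_mem hs' (hLS hl))]
  have hβrefl : ∀ p, p.2 ≠ 0 → β p p := fun p hp => (hβd _ _).2 ⟨c p, hcS p hp, 1, one_mem L, hc p hp, by rw [mul_one, hc p hp]⟩
  have hβnz : ∀ p q, β p q → p.2 ≠ 0 ∧ q.2 ≠ 0 := by
    intro p q hpq
    obtain ⟨s, hs, l, hl, rfl, rfl⟩ := (hβd p q).1 hpq
    exact ⟨hnz s hs, hnz _ (mul_mem hs (hLS hl))⟩
  have hβfst : ∀ p q, β p q → q.1 = p.1 := by
    intro p q hpq
    obtain ⟨s, hs, l, hl, rfl, rfl⟩ := (hβd p q).1 hpq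
    rw [hmul s hs l (hLS hl)]
    exact h.fst (h.SP hs) (hLT hl).2
  -- the four points
  have hcls : ∀ s ∈ (S : Subgroup G), ∀ q, β (pp M s x₀) q ↔ q = pp M s x₀ ∨ q = μ (pp M s x₀) ∨
      q = pp M (s * u) x₀ ∨ q = μ (pp M (s * u) x₀) := by
    intro s hs q
    rw [hβs s hs q, hμ s hs, hμ _ (mul_mem hs huS)]
    constructor
    · rintro ⟨l, hl, rfl⟩
      have hin : ∀ a ∈ K, ∀ s' ∈ (S : Subgroup G), pp M (s' * a) x₀ = pp M s' x₀ ∨ pp M (s' * a) x₀ = pp M (s' * t) x₀ := by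
        intro a ha s' hs'
        by_cases h1 : a ∈ stab h x₀
        · left; exact hfix s' hs' a h1
        · right
          rw [hmul s' hs' a (hKS ha), hmul s' hs' t htS, hK a ha t htK h1 htSt]
      by_cases h1 : l ∈ K
      · rcases hin l h1 s hs with h2 | h2
        · left; exact h2
        · right; left; exact h2
      · have h2 : u⁻¹ * l ∈ K := by
          rw [Half.mul_mem_of_index_two hL2 (inv_mem huL) hl, inv_mem_iff]
          exact iff_of_false huK h1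
        have h3 := hin _ h2 (s * u) (mul_mem hs huS)
        have h4 : s * u * (u⁻¹ * l) = s * l := by group
        rw [h4] at h3
        rcases h3 with h3 | h3
        · right; right; left; exact h3
        · right; right; right; exact h3
    · rintro (rfl | rfl | rfl | rfl)
      · exact ⟨1, one_mem L, by rw [mul_one]⟩
      · exact ⟨t, hKL htK, rfl⟩
      · exact ⟨u, huL, rfl⟩
      · exact ⟨u * t, mul_mem huL (hKL htK), by rw [mul_assoc]⟩
  have hne1 : ∀ s ∈ (S : Subgroup G), pp M (s * u) x₀ ≠ pp M s x₀ := by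
    intro s hs h0
    rw [eq_comm, heq s hs _ (mul_mem hs huS), inv_mul_cancel_left] at h0
    exact huK (hStK h0)
  have hne2 : ∀ s ∈ (S : Subgroup G), pp M (s * u) x₀ ≠ μ (pp M s x₀) := by
    intro s hs h0
    rw [hμ s hs, eq_comm, heq _ (mul_mem hs htS) _ (mul_mem hs huS)] at h0
    have h1 : t * ((s * t)⁻¹ * (s * u)) ∈ K := mul_mem htK (hStK h0)
    have h2 : t * ((s * t)⁻¹ * (s * u)) = u := by group
    rw [h2] at h1
    exact huK h1
  -- representatives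
  have : Nonempty (Pt k m) := ⟨x₀⟩
  obtain ⟨ρ, hρd⟩ : ∃ ρ : Pt k m → Pt k m, ∀ p, ρ p = Classical.epsilon (fun q => β p q) := ⟨_, fun _ => rfl⟩
  have hρ : ∀ p, p.2 ≠ 0 → β p (ρ p) := fun p hp => by
    rw [hρd]
    exact Classical.epsilon_spec (p := fun q => β p q) ⟨p, hβrefl p hp⟩
  have hρeq : ∀ p q, β p q → ρ p = ρ q := by
    intro p q hpq
    have h1 : (fun r => β p r) = fun r => β q r := by
      funext r
      exact propext ⟨fun h2 => hβtrans _ _ _ (hβsymm _ _ hpq) h2, fun h2 => hβtrans _ _ _ hpq h2⟩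
    rw [hρd, hρd, h1]
  have hρnz : ∀ p, p.2 ≠ 0 → (ρ p).2 ≠ 0 := fun p hp => (hβnz _ _ (hρ p hp)).2
  obtain ⟨r', hrd⟩ : ∃ r' : Pt k m → Pt k m, ∀ p, r' p = pp M (c (ρ p) * u) x₀ := ⟨_, fun _ => rfl⟩
  have hr' : ∀ p q, β p q → r' p = r' q := by
    intro p q hpq
    rw [hrd, hrd, hρeq p q hpq]
  have hfour : ∀ p, p.2 ≠ 0 → ∀ q, β p q ↔ q = ρ p ∨ q = μ (ρ p) ∨ q = r' p ∨ q = μ (r' p) := by
    intro p hp q
    have h1 := hcls _ (hcS _ (hρnz p hp)) q
    rw [hc _ (hρnz p hp), ← hrd] at h1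
    rw [← h1]
    exact ⟨fun h2 => hβtrans _ _ _ (hβsymm _ _ (hρ p hp)) h2, fun h2 => hβtrans _ _ _ (hρ p hp) h2⟩
  have hd1 : ∀ p, p.2 ≠ 0 → r' p ≠ ρ p := by
    intro p hp
    have h1 := hne1 _ (hcS _ (hρnz p hp))
    rwa [hc _ (hρnz p hp), ← hrd] at h1
  have hd2 : ∀ p, p.2 ≠ 0 → r' p ≠ μ (ρ p) := by
    intro p hp
    have h1 := hne2 _ (hcS _ (hρnz p hp))
    rwa [hc _ (hρnz p hp), ← hrd] at h1
  have hr'nz : ∀ p, p.2 ≠ 0 → (r' p).2 ≠ 0 := fun p hp => by
    rw [hrd]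
    exact hnz _ (mul_mem (hcS _ (hρnz p hp)) huS)
  have hβr : ∀ p, p.2 ≠ 0 → β p (r' p) := fun p hp => (hfour p hp _).2 (Or.inr (Or.inr (Or.inl rfl)))
  have hβμ : ∀ p, p.2 ≠ 0 → β p (μ p) := by
    intro p hp
    have h1 := (hcls _ (hcS p hp) (μ (pp M (c p) x₀))).2 (Or.inr (Or.inl rfl))
    rwa [hc p hp] at h1
  -- `ν`
  obtain ⟨ν, hνd⟩ : ∃ ν : Pt k m → Pt k m, ∀ p, ν p = if p.2 = 0 then p else if p = ρ p then r' p else
    if p = μ (ρ p) then μ (r' p) else if p = r' p then ρ p else μ (ρ p) := ⟨_, fun _ => rfl⟩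
  have hν0 : ∀ p, p.2 = 0 → ν p = p := fun p hp => by rw [hνd, if_pos hp]
  have hμinj : ∀ p q, μ p = μ q → p = q := fun p q hpq => by rw [← hμμ p, hpq, hμμ]
  have hν1 : ∀ p, p.2 ≠ 0 → p = ρ p → ν p = r' p := fun p hp h1 => by
    rw [hνd, if_neg hp, if_pos h1]
  have hν2 : ∀ p, p.2 ≠ 0 → p = μ (ρ p) → ν p = μ (r' p) := fun p hp h1 => by
    rw [hνd, if_neg hp, if_neg fun h2 => hμne _ (hρnz p hp) (h1.symm.trans h2), if_pos h1]
  have hν3 : ∀ p, p.2 ≠ 0 → p = r' p → ν p = ρ p := fun p hp h1 => by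
    rw [hνd, if_neg hp, if_neg fun h2 => hd1 p hp (h1.symm.trans h2), if_neg fun h2 => hd2 p hp (h1.symm.trans h2),
      if_pos h1]
  have hν4 : ∀ p, p.2 ≠ 0 → p = μ (r' p) → ν p = μ (ρ p) := fun p hp h1 => by
    rw [hνd, if_neg hp, if_neg, if_neg, if_neg]
    · intro h2
      exact hμne _ (hr'nz p hp) (h1.symm.trans h2)
    · intro h2
      exact hd1 p hp (hμinj _ _ (h1.symm.trans h2))
    · intro h2
      apply hd2 p hp
      rw [← h2, ← hμμ (r' p), ← h1]
  -- the value of `ν`, in general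
  have hνβ : ∀ p, p.2 ≠ 0 → β p (ν p) ∧ ν p ≠ p ∧ ν p ≠ μ p ∧ ν (ν p) = p ∧ μ (ν p) = ν (μ p) := by
    intro p hp
    have hb := (hfour p hp p).1 (hβrefl p hp)
    have hμp := hμnz p hp
    have e1 : ρ (μ p) = ρ p := (hρeq _ _ (hβμ p hp)).symm
    have e2 : r' (μ p) = r' p := (hr' _ _ (hβμ p hp)).symm
    have e3 : ρ (r' p) = ρ p := (hρeq _ _ (hβr p hp)).symm
    have e4 : r' (r' p) = r' p := (hr' _ _ (hβr p hp)).symm
    have hb2 : β p (μ (r' p)) := (hfour p hp _).2 (Or.inr (Or.inr (Or.inr rfl)))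
    have e5 : ρ (μ (r' p)) = ρ p := (hρeq _ _ hb2).symm
    have e6 : r' (μ (r' p)) = r' p := (hr' _ _ hb2).symm
    have e7 : ρ (ρ p) = ρ p := (hρeq _ _ (hρ p hp)).symm
    have e8 : r' (ρ p) = r' p := (hr' _ _ (hρ p hp)).symm
    have hb3 : β p (μ (ρ p)) := (hfour p hp _).2 (Or.inr (Or.inl rfl))
    have e9 : ρ (μ (ρ p)) = ρ p := (hρeq _ _ hb3).symm
    have e10 : r' (μ (ρ p)) = r' p := (hr' _ _ hb3).symm
    have n1 := hρnz p hp
    have n2 := hr'nz p hp
    have n3 := hμnz _ n1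
    have n4 := hμnz _ n2
    have v1 : ν (ρ p) = r' p := by rw [hν1 _ n1 e7.symm, e8]
    have v2 : ν (μ (ρ p)) = μ (r' p) := by rw [hν2 _ n3 (by rw [e9]), e10]
    have v3 : ν (r' p) = ρ p := by rw [hν3 _ n2 e4.symm, e3]
    have v4 : ν (μ (r' p)) = μ (ρ p) := by rw [hν4 _ n4 (by rw [e6]), e5]
    have key : ∀ x, (x = ρ p ∨ x = μ (ρ p) ∨ x = r' p ∨ x = μ (r' p)) →
        β p (ν x) ∧ ν x ≠ x ∧ ν x ≠ μ x ∧ ν (ν x) = x ∧ μ (ν x) = ν (μ x) := by
      intro x hx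
      rcases hx with hx | hx | hx | hx
      · subst hx
        refine ⟨?_, ?_, ?_, ?_, ?_⟩
        · rw [v1]; exact hβr p hp
        · rw [v1]; exact hd1 p hp
        · rw [v1]; exact hd2 p hp
        · rw [v1, v3]
        · rw [v1, v2]
      · subst hx
        refine ⟨?_, ?_, ?_, ?_, ?_⟩
        · rw [v2]; exact hb2
        · rw [v2]
          intro h2
          exact hd1 p hp (hμinj _ _ h2)
        · rw [v2, hμμ]
          intro h2
          apply hd2 p hp
          rw [← h2, hμμ]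
        · rw [v2, v4]
        · rw [v2, hμμ, hμμ, v1]
      · subst hx
        refine ⟨?_, ?_, ?_, ?_, ?_⟩
        · rw [v3]; exact hρ p hp
        · rw [v3]; exact (hd1 p hp).symm
        · rw [v3]
          intro h2
          apply hd2 p hp
          rw [h2, hμμ]
        · rw [v3, v1]
        · rw [v3, v4]
      · subst hx
        refine ⟨?_, ?_, ?_, ?_, ?_⟩
        · rw [v4]; exact hb3
        · rw [v4]
          intro h2
          exact hd1 p hp (hμinj _ _ h2).symm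
        · rw [v4, hμμ]; exact (hd2 p hp).symm
        · rw [v4, v2]
        · rw [v4, hμμ, hμμ, v3]
    exact key p hb
  have hν2' : ∀ p, ν (ν p) = p := by
    intro p
    by_cases hp : p.2 = 0
    · rw [hν0 p hp, hν0 p hp]
    · exact (hνβ p hp).2.2.2.1
  refine ⟨⟨μ, μ, hμμ, hμμ⟩, ⟨ν, ν, hν2', hν2'⟩, ?_⟩
  exact {
    mfst := hμfst
    nfst := by
      intro p
      by_cases hp : p.2 = 0
      · exact congrArg Prod.fst (hν0 p hp)
      · exact hβfst _ _ (hνβ p hp).1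
    mzero := hμ0
    nzero := hν0
    mne := hμne
    nne := fun p hp => (hνβ p hp).2.1
    nmu := fun p hp => (hνβ p hp).2.2.1
    msq := hμμ
    nsq := hν2'
    comm := by
      intro p
      by_cases hp : p.2 = 0
      · change μ (ν p) = ν (μ p)
        rw [hν0 p hp, hμ0 p hp, hν0 p hp]
      · exact (hνβ p hp).2.2.2.2
    meqv := hμeqv
    neqv := by
      intro s hs p
      change pp M s (ν p) = ν (pp M s p) ∨ pp M s (ν p) = μ (ν (pp M s p))
      by_cases hp : p.2 = 0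
      · left
        rw [hν0 p hp, hν0 _ ((h.snd hs).2 hp)]
      · obtain ⟨b1, b2, b3, -, -⟩ := hνβ p hp
        have c1 := hβeqv s hs _ _ b1
        have hq : (pp M s p).2 ≠ 0 := fun h0 => hp ((h.snd hs).1 h0)
        obtain ⟨d1, d2, d3, d4, d5⟩ := hνβ _ hq
        have hinj := (pp M s).injective
        have f1 : pp M s (ν p) ≠ pp M s p := fun h0 => b2 (hinj h0)
        have f2 : pp M s (ν p) ≠ μ (pp M s p) := by
          rw [← hμeqv s hs]
          exact fun h0 => b3 (hinj h0)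
        -- the class of `q = pp M s p`
        have hcq := hcls _ (hcS _ hq) (pp M s (ν p))
        rw [hc _ hq] at hcq
        have c2 := hcq.1 c1
        have hcq' := hcls _ (hcS _ hq) (ν (pp M s p))
        rw [hc _ hq] at hcq'
        have c3 := hcq'.1 d1
        rcases c2 with c2 | c2 | c2 | c2
        · exact absurd c2 f1
        · exact absurd c2 f2
        · rcases c3 with c3 | c3 | c3 | c3
          · exact absurd c3 d2
          · exact absurd c3 d3
          · left; rw [c2, c3]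
          · right; rw [c2, c3, hμμ]
        · rcases c3 with c3 | c3 | c3 | c3
          · exact absurd c3 d2
          · exact absurd c3 d3
          · right; rw [c2, c3]
          · left; rw [c2, c3] }

end exist

/-! ### The groups of permutations preserving the pairs, resp. the 4-blocks -/

namespace Fours

section grp

variable {S : Subgroup G} {M : SymK S P V ⊥ k m} {μ ν : Equiv.Perm (Pt k m)} (F : Fours M μ ν)

/-- the permutations preserving all pairs -/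
def FA (F : Fours M μ ν) : Subgroup (Equiv.Perm (Pt k m)) where
  carrier := {π | ∀ p, π p = p ∨ π p = μ p}
  mul_mem' := by
    intro π ρ h1 h2 p
    rw [Equiv.Perm.mul_apply]
    rcases h2 p with h3 | h3
    · rw [h3]; exact h1 p
    · rw [h3]
      rcases h1 (μ p) with h4 | h4
      · right; exact h4
      · left; rw [h4, F.msq]
  one_mem' := fun p => Or.inl rfl
  inv_mem' := by
    intro π h1 p
    have h3 : π (π⁻¹ p) = p := π.apply_symm_apply p
    rcases h1 (π⁻¹ p) with h2 | h2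
    · left
      rw [← h2, h3]
    · right
      rw [h3] at h2
      rw [h2, F.msq, ← h2]

theorem mem_FA {π : Equiv.Perm (Pt k m)} : π ∈ F.FA ↔ ∀ p, π p = p ∨ π p = μ p := Iff.rfl

/-- `q` lies in the 4-block of `p` -/
def Cl (μ ν : Equiv.Perm (Pt k m)) (p q : Pt k m) : Prop := q = p ∨ q = μ p ∨ q = ν p ∨ q = μ (ν p)

include F in
theorem Cl.symm {p q : Pt k m} (h : Cl μ ν p q) : Cl μ ν q p := by
  rcases h with rfl | rfl | rfl | rfl
  · exact Or.inl rfl
  · right; left; rw [F.msq]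
  · right; right; left; rw [F.nsq]
  · right; right; right; rw [← F.comm, F.nsq, F.msq]

include F in
theorem Cl.trans {p q r : Pt k m} (h : Cl μ ν p q) (h' : Cl μ ν q r) : Cl μ ν p r := by
  rcases h with rfl | rfl | rfl | rfl
  · exact h'
  · rcases h' with rfl | rfl | rfl | rfl
    · exact Or.inr (Or.inl rfl)
    · left; rw [F.msq]
    · right; right; right; rw [F.comm]
    · right; right; left; rw [← F.comm, F.msq]
  · rcases h' with rfl | rfl | rfl | rfl
    · exact Or.inr (Or.inr (Or.inl rfl))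
    · exact Or.inr (Or.inr (Or.inr rfl))
    · left; rw [F.nsq]
    · right; left; rw [F.nsq]
  · rcases h' with rfl | rfl | rfl | rfl
    · exact Or.inr (Or.inr (Or.inr rfl))
    · right; right; left; rw [F.msq]
    · right; left; rw [← F.comm, F.nsq]
    · left; rw [← F.comm, F.nsq, F.msq]

/-- the permutations preserving the 4-blocks and permuting the pairs -/
def FD (F : Fours M μ ν) : Subgroup (Equiv.Perm (Pt k m)) where
  carrier := {π | (∀ p, Cl μ ν p (π p)) ∧ ∀ p, π (μ p) = μ (π p)}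
  mul_mem' := by
    rintro π ρ ⟨h1, h1'⟩ ⟨h2, h2'⟩
    refine ⟨fun p => ?_, fun p => ?_⟩
    · exact Cl.trans F (h2 p) (h1 (ρ p))
    · rw [Equiv.Perm.mul_apply, Equiv.Perm.mul_apply, h2', h1']
  one_mem' := ⟨fun p => Or.inl rfl, fun p => rfl⟩
  inv_mem' := by
    rintro π ⟨h1, h1'⟩
    refine ⟨fun p => ?_, fun p => ?_⟩
    · have h3 : π (π⁻¹ p) = p := π.apply_symm_apply p
      have h2 := h1 (π⁻¹ p)
      rw [h3] at h2
      exact h2.symm F
    · rw [Equiv.Perm.inv_eq_iff_eq, h1', show π (π⁻¹ p) = p from π.apply_symm_apply p]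

theorem mem_FD {π : Equiv.Perm (Pt k m)} :
    π ∈ F.FD ↔ (∀ p, Cl μ ν p (π p)) ∧ ∀ p, π (μ p) = μ (π p) := Iff.rfl

theorem FA_sq {π : Equiv.Perm (Pt k m)} (h : π ∈ F.FA) : π * π = 1 := by
  ext1 p
  rw [Equiv.Perm.mul_apply]
  change π (π p) = p
  rcases h p with h1 | h1
  · rw [h1, h1]
  · rw [h1]
    rcases h (μ p) with h2 | h2
    · have h3 := π.injective (h1.trans h2.symm)
      rw [h2, ← h3]
    · rw [h2, F.msq]

theorem FA_comm_mu {π : Equiv.Perm (Pt k m)} (h : π ∈ F.FA) (p : Pt k m) : π (μ p) = μ (π p) := by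
  have h0 : π (π p) = p := by
    have := F.FA_sq h
    rw [← Equiv.Perm.mul_apply, this]
    rfl
  rcases h p with h1 | h1
  · rcases h (μ p) with h2 | h2
    · rw [h2, h1]
    · rw [F.msq] at h2
      have h3 := π.injective (h2.trans h1.symm)
      rw [h1, h3, h1]
  · rw [h1, F.msq]
    rw [h1] at h0
    exact h0

theorem FA_le_FD : F.FA ≤ F.FD := fun π h => ⟨fun p => by
  rcases h p with h1 | h1
  · exact Or.inl h1
  · exact Or.inr (Or.inl h1), F.FA_comm_mu h⟩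

theorem FA_isPGroup : IsPGroup 2 F.FA := fun π => ⟨1, by
  apply Subtype.ext
  change (π : Equiv.Perm (Pt k m)) ^ 2 ^ 1 = 1
  rw [pow_one, pow_two]
  exact F.FA_sq π.2⟩

/-- `π ∈ FD` which moves a pair -/
theorem FD_mov {π : Equiv.Perm (Pt k m)} (h : π ∈ F.FD) {p : Pt k m} (hp : p.2 ≠ 0)
    (h1 : ¬ (π p = p ∨ π p = μ p)) : (π p = ν p ∨ π p = μ (ν p)) ∧ (π (ν p) = p ∨ π (ν p) = μ p) := by
  have h2 : π p = ν p ∨ π p = μ (ν p) := by
    rcases h.1 p with h3 | h3 | h3 | h3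
    · exact absurd (Or.inl h3) h1
    · exact absurd (Or.inr h3) h1
    · exact Or.inl h3
    · exact Or.inr h3
  refine ⟨h2, ?_⟩
  have hn1 := F.nne p hp
  have hn2 := F.nmu p hp
  have h4 : Cl μ ν p (π (ν p)) := Cl.trans F (Or.inr (Or.inr (Or.inl rfl))) (h.1 (ν p))
  rcases h4 with h4 | h4 | h4 | h4
  · exact Or.inl h4
  · exact Or.inr h4
  · exfalso
    rcases h2 with h3 | h3
    · exact hn1 (π.injective (h4.trans h3.symm))
    · have h5 : π (μ p) = π (ν p) := by rw [h.2, h3, F.msq, h4]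
      exact hn2 (π.injective h5).symm
  · exfalso
    rcases h2 with h3 | h3
    · have h5 : π (μ p) = π (ν p) := by rw [h.2, h3, h4]
      exact hn2 (π.injective h5).symm
    · exact hn1 (π.injective (h4.trans h3.symm))

theorem FD_sq {π : Equiv.Perm (Pt k m)} (h : π ∈ F.FD) : π * π ∈ F.FA := by
  intro p
  rw [Equiv.Perm.mul_apply]
  by_cases h1 : π p = p ∨ π p = μ p
  · rcases h1 with h1 | h1
    · left; rw [h1, h1]
    · left; rw [h1, h.2, h1, F.msq]
  · by_cases hp : p.2 = 0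
    · exfalso
      apply h1
      left
      rcases h.1 p with h3 | h3 | h3 | h3
      · exact h3
      · rw [h3, F.mzero p hp]
      · rw [h3, F.nzero p hp]
      · rw [h3, F.nzero p hp, F.mzero p hp]
    · obtain ⟨h2, h3⟩ := F.FD_mov h hp h1
      rcases h2 with h2 | h2
      · rw [h2]; exact h3
      · rw [h2, h.2]
        rcases h3 with h3 | h3
        · right; rw [h3]
        · left; rw [h3, F.msq]

theorem FD_isPGroup : IsPGroup 2 F.FD := fun π => ⟨2, by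
  apply Subtype.ext
  change (π : Equiv.Perm (Pt k m)) ^ 2 ^ 2 = 1
  have h1 := F.FA_sq (F.FD_sq π.2)
  rw [show 2 ^ 2 = 2 + 2 by norm_num, pow_add, pow_two]
  exact h1⟩

theorem FA_fst {π : Equiv.Perm (Pt k m)} (h : π ∈ F.FA) (p : Pt k m) : (π p).1 = p.1 := by
  rcases h p with h1 | h1
  · rw [h1]
  · rw [h1, F.mfst]

theorem FD_fst {π : Equiv.Perm (Pt k m)} (h : π ∈ F.FD) (p : Pt k m) : (π p).1 = p.1 := by
  rcases h.1 p with h1 | h1 | h1 | h1
  · rw [h1]
  · rw [h1, F.mfst]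
  · rw [h1, F.nfst]
  · rw [h1, F.mfst, F.nfst]

end grp

section sylow

variable {S : Sylow 2 G} {M : SymK (S : Subgroup G) P V ⊥ k m} {μ ν : Equiv.Perm (Pt k m)}
  (h : Sit S P V M) (F : Fours M μ ν)

include F

theorem conj_FA {s : G} (hs : s ∈ (S : Subgroup G)) {π : Equiv.Perm (Pt k m)} (hπ : π ∈ F.FA) :
    pp M s * π * (pp M s)⁻¹ ∈ F.FA := by
  intro p
  rw [Equiv.Perm.mul_apply, Equiv.Perm.mul_apply]
  have h3 : pp M s ((pp M s)⁻¹ p) = p := (pp M s).apply_symm_apply p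
  rcases hπ ((pp M s)⁻¹ p) with h1 | h1
  · left; rw [h1, h3]
  · right; rw [h1, F.meqv s hs, h3]

theorem cl_eqv {s : G} (hs : s ∈ (S : Subgroup G)) {p q : Pt k m} (hpq : Cl μ ν p q) :
    Cl μ ν (pp M s p) (pp M s q) := by
  rcases hpq with rfl | rfl | rfl | rfl
  · exact Or.inl rfl
  · right; left; exact F.meqv s hs _
  · rcases F.neqv s hs p with h1 | h1
    · right; right; left; exact h1
    · right; right; right; exact h1
  · rw [F.meqv s hs]
    rcases F.neqv s hs p with h1 | h1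
    · right; right; right; rw [h1]
    · right; right; left; rw [h1, F.msq]

theorem conj_FD {s : G} (hs : s ∈ (S : Subgroup G)) {π : Equiv.Perm (Pt k m)} (hπ : π ∈ F.FD) :
    pp M s * π * (pp M s)⁻¹ ∈ F.FD := by
  have h3 : ∀ p, pp M s ((pp M s)⁻¹ p) = p := fun p => (pp M s).apply_symm_apply p
  refine ⟨fun p => ?_, fun p => ?_⟩
  · rw [Equiv.Perm.mul_apply, Equiv.Perm.mul_apply]
    have h1 := cl_eqv F hs (hπ.1 ((pp M s)⁻¹ p))
    rwa [h3] at h1
  · have h4 : (pp M s)⁻¹ (μ p) = μ ((pp M s)⁻¹ p) := by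
      rw [Equiv.Perm.inv_eq_iff_eq, F.meqv s hs, h3]
    rw [Equiv.Perm.mul_apply, Equiv.Perm.mul_apply, h4, hπ.2, F.meqv s hs]
    rfl

/-- the elements of `S` which preserve all pairs -/
def A (h : Sit S P V M) (F : Fours M μ ν) : Subgroup G where
  carrier := {s | s ∈ (S : Subgroup G) ∧ pp M s ∈ F.FA}
  mul_mem' := by
    rintro a b ⟨ha, h1⟩ ⟨hb, h2⟩
    exact ⟨mul_mem ha hb, by rw [h.mul (h.SP ha) (h.SP hb)]; exact mul_mem h1 h2⟩
  one_mem' := ⟨one_mem _, by rw [h.one]; exact one_mem _⟩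
  inv_mem' := by
    rintro a ⟨ha, h1⟩
    exact ⟨inv_mem ha, by rw [h.inv (h.SP ha)]; exact inv_mem h1⟩

/-- the elements of `S` which preserve all 4-blocks -/
def D (h : Sit S P V M) (F : Fours M μ ν) : Subgroup G where
  carrier := {s | s ∈ (S : Subgroup G) ∧ pp M s ∈ F.FD}
  mul_mem' := by
    rintro a b ⟨ha, h1⟩ ⟨hb, h2⟩
    exact ⟨mul_mem ha hb, by rw [h.mul (h.SP ha) (h.SP hb)]; exact mul_mem h1 h2⟩
  one_mem' := ⟨one_mem _, by rw [h.one]; exact one_mem _⟩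
  inv_mem' := by
    rintro a ⟨ha, h1⟩
    exact ⟨inv_mem ha, by rw [h.inv (h.SP ha)]; exact inv_mem h1⟩

omit F in
theorem mem_A {h : Sit S P V M} {F : Fours M μ ν} {s : G} :
    s ∈ A h F ↔ s ∈ (S : Subgroup G) ∧ pp M s ∈ F.FA := Iff.rfl

omit F in
theorem mem_D {h : Sit S P V M} {F : Fours M μ ν} {s : G} :
    s ∈ D h F ↔ s ∈ (S : Subgroup G) ∧ pp M s ∈ F.FD := Iff.rfl

omit F in
theorem A_le (h : Sit S P V M) (F : Fours M μ ν) : A h F ≤ (S : Subgroup G) := fun _ hs => hs.1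

omit F in
theorem D_le (h : Sit S P V M) (F : Fours M μ ν) : D h F ≤ (S : Subgroup G) := fun _ hs => hs.1

omit F in
theorem A_le_D (h : Sit S P V M) (F : Fours M μ ν) : A h F ≤ D h F := fun _ hs => ⟨hs.1, F.FA_le_FD hs.2⟩

omit F in
theorem Q_le_A (h : Sit S P V M) (F : Fours M μ ν) : o2 P ≤ A h F := fun s hs =>
  ⟨h.QS hs, by rw [(h.mem_Q_iff (h.QS hs)).1 hs]; exact one_mem _⟩

variable [Finite G]

omit F in
theorem S_le_normalizer_A (h : Sit S P V M) (F : Fours M μ ν) :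
    (S : Subgroup G) ≤ normalizer (A h F : Set G) := by
  intro s hs
  refine MinSimple.VModule.mem_normalizer_of_map_le ?_
  rintro _ ⟨a, ha, rfl⟩
  change s * a * s⁻¹ ∈ A h F
  refine ⟨mul_mem (mul_mem hs ha.1) (inv_mem hs), ?_⟩
  rw [h.conj (h.SP hs) (h.SP ha.1)]
  exact conj_FA F hs ha.2

omit F in
theorem S_le_normalizer_D (h : Sit S P V M) (F : Fours M μ ν) :
    (S : Subgroup G) ≤ normalizer (D h F : Set G) := by
  intro s hs
  refine MinSimple.VModule.mem_normalizer_of_map_le ?_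
  rintro _ ⟨a, ha, rfl⟩
  change s * a * s⁻¹ ∈ D h F
  refine ⟨mul_mem (mul_mem hs ha.1) (inv_mem hs), ?_⟩
  rw [h.conj (h.SP hs) (h.SP ha.1)]
  exact conj_FD F hs ha.2

include h

/-- all of `FA` is induced by `A` -/
theorem exists_A {π : Equiv.Perm (Pt k m)} (hπ : π ∈ F.FA) : ∃ s ∈ A h F, pp M s = π := by
  obtain ⟨s, hs, h1⟩ := h.induced F.FA_isPGroup (fun δ hδ p => F.FA_fst hδ p)
    (fun s hs δ hδ => conj_FA F hs hδ) hπ
  exact ⟨s, ⟨hs, by rw [h1]; exact hπ⟩, h1⟩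

/-- all of `FD` is induced by `D` -/
theorem exists_D {π : Equiv.Perm (Pt k m)} (hπ : π ∈ F.FD) : ∃ s ∈ D h F, pp M s = π := by
  obtain ⟨s, hs, h1⟩ := h.induced F.FD_isPGroup (fun δ hδ p => F.FD_fst hδ p)
    (fun s hs δ hδ => conj_FD F hs hδ) hπ
  exact ⟨s, ⟨hs, by rw [h1]; exact hπ⟩, h1⟩

end sylow

end Fours

end Cfsg.Agent.Omega.IId.SymWr
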