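import Cfsg.Agent.Omega.IId.SymWr.Pr
import Cfsg.Agent.MinSimple.Choice97

/-!
# II.d, `SwBig`: THEOREM L, the last step (bb OMEGA #17498, (1)-(4))

`L_of` : from the conclusions of (T) (`hT1`, `hT2`) and (HH) (`hHH`): `O₂(C_G(n)) ≤ P` for the duad `n = {x, μ x}`,
`m ≥ 3`.
-/

set_option autoImplicit false

namespace Cfsg.Agent.Omega.IId.SymWr

open Subgroup Pointwise Cfsg Cfsg.Agent.ZN Cfsg.Agent.Omega.MinPar Cfsg.Agent.Omega.FFThm
open Cfsg.Agent.Omega.Half (Amb amb_of_loc)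
open Cfsg.Agent.Omega.Half.SymA (Pt E Mv pm)
open Cfsg.Agent.MinSimple.VModule (mem_zc zc_le zc_comm zc_sq zc_le_zl le_normalizer_o2 o2_isPGroup o2_le
  normalizer_le_normalizer_zc le_normalizer_zl)

universe u

variable {G : Type u} [Group G] {P V : Subgroup G} {k m : ℕ}

theorem mem_sup_norm {A B : Subgroup G} (h : A ≤ normalizer (B : Set G)) {x : G} (hx : x ∈ A ⊔ B) :
    ∃ a ∈ A, ∃ b ∈ B, a * b = x := by
  have h1 : x ∈ ((A ⊔ B : Subgroup G) : Set G) := hx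
  rw [coe_mul_of_left_le_normalizer_right A B h] at h1
  exact Set.mem_mul.mp h1

theorem exists_pt (hm : 3 ≤ m) (l : Fin k) (s : Finset (Pt k m)) (hs : s.card ≤ 8) : ∃ p : Pt k m, p.1 = l ∧ p ∉ s := by
  classical
  by_contra h0
  push Not at h0
  have h1 : (Finset.univ.image fun y : Fin (2 ^ m + 1) => ((l, y) : Pt k m)) ⊆ s := by
    intro p hp
    obtain ⟨y, -, rfl⟩ := Finset.mem_image.1 hp
    exact h0 _ rfl
  have h2 := Finset.card_le_card h1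
  rw [Finset.card_image_of_injective _ (fun a b hab => (Prod.ext_iff.1 hab).2), Finset.card_univ,
    Fintype.card_fin] at h2
  have h3 : 2 ^ 3 ≤ 2 ^ m := Nat.pow_le_pow_right (by norm_num) hm
  omega

/-- an element of `V` with support in one summand which is fixed by `Sym` of this summand is `1` -/
theorem Sit.eq_one_of_fixed {S : Sylow 2 G} {M : SymK (S : Subgroup G) P V ⊥ k m} (h : Sit S P V M) {l : Fin k}
    {v : G} (hv : v ∈ V) (h1 : ∀ p : Pt k m, p.1 ≠ l → E M v p = 0)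
    (h2 : ∀ g ∈ P, (∀ p : Pt k m, p.1 ≠ l → pp M g p = p) → g * v = v * g) : v = 1 := by
  classical
  -- constant on the summand
  have h3 : ∀ p q : Pt k m, p.1 = l → q.1 = l → E M v p = E M v q := by
    intro p q hp hq
    obtain ⟨g, hg, h4⟩ := h.exists_pp (π := Equiv.swap p q) (by
      intro r
      rcases eq_or_ne r p with rfl | hr
      · rw [Equiv.swap_apply_left, hq, hp]
      · rcases eq_or_ne r q with rfl | hr'
        · rw [Equiv.swap_apply_right, hq, hp]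
        · rw [Equiv.swap_apply_of_ne_of_ne hr hr'])
    have h5 := (h.comm_iff hg hv).1 (h2 g hg fun r hr => by
      rw [h4, Equiv.swap_apply_of_ne_of_ne]
      · rintro rfl; exact hr hp
      · rintro rfl; exact hr hq) q
    rw [h4, Equiv.swap_apply_right] at h5
    exact h5
  refine Half.SymA.eq_one M hv fun p => ?_
  by_cases hp : p.1 = l
  · have h4 := Half.SymA.even M hv l
    rw [Finset.sum_congr rfl fun x _ => h3 (l, x) p rfl hp, Finset.sum_const, Finset.card_univ, Fintype.card_fin,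
      nsmul_eq_mul] at h4
    have h5 : ((2 ^ m + 1 : ℕ) : ZMod 2) = 1 := by
      have h6 : ((2 ^ m : ℕ) : ZMod 2) = 0 := by
        rw [ZMod.natCast_eq_zero_iff]
        exact dvd_pow_self 2 (by have := h.hm; omega)
      rw [Nat.cast_add, h6, zero_add, Nat.cast_one]
    rwa [h5, one_mul] at h4
  · exact h1 p hp

section main

variable [Finite G] {S : Sylow 2 G} {M : SymK (S : Subgroup G) P V ⊥ k m} {μ ν : Equiv.Perm (Pt k m)}

/-- the conclusion of (HH) for the summand `l` -/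
def HH (h : Sit S P V M) (F : Fours M μ ν) (l : Fin k) : Prop :=
  ∀ y ∈ zc (o2 P), (∀ t ∈ Fours.A h F, t * y = y * t) →
    (∀ s ∈ (S : Subgroup G), (∀ p : Pt k m, p.1 = l → pp M s p = p) → s * y = y * s) →
    ∃ v ∈ V, ∃ φ ∈ zc (o2 P), (∀ p : Pt k m, p.1 ≠ l → E M v p = 0) ∧ E M v (l, 0) = 0 ∧
      (∀ p, E M v (μ p) = E M v p) ∧
      (∀ g ∈ P, (∀ p : Pt k m, p.1 ≠ l → pp M g p = p) → g * φ = φ * g) ∧ y = v * φ

/-- the conclusion of (T) for the duad `{x, μ x}` -/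
def TT (h : Sit S P V M) (F : Fours M μ ν) (x : Pt k m) : Prop :=
  (∀ g ∈ o2 (centralizer ({pr M x (μ x)} : Set G)), ∀ a b : Pt k m, a.1 = x.1 → b.1 = x.1 → a ≠ b → a ≠ x →
    a ≠ μ x → b ≠ x → b ≠ μ x → g * pr M a b = pr M a b * g → g ∈ Fours.A h F) ∧
  ∀ g ∈ o2 (centralizer ({pr M x (μ x)} : Set G)), g ∈ P → pp M g = 1 ∨ pp M g = Equiv.swap x (μ x)

/-- **THEOREM L** from (T) and (HH). -/
theorem L_of (h : Sit S P V M) (F : Fours M μ ν) (hm : 3 ≤ m) {x : Pt k m} (hx : x.2 ≠ 0) (hT : TT h F x)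
    (hHH : HH h F x.1) : o2 (centralizer ({pr M x (μ x)} : Set G)) ≤ P := by
  classical
  set n := pr M x (μ x) with hn
  set C := centralizer ({n} : Set G) with hC
  set W := o2 C with hW
  obtain ⟨hT1, hT2⟩ := hT
  have hmf := F.mfst
  have hnf := F.nfst
  have hmx : (μ x).2 ≠ 0 := fun h0 => hx (F.mnz.1 h0)
  have hνx : (ν x).2 ≠ 0 := fun h0 => hx (F.nnz.1 h0)
  have hμνx : (μ (ν x)).2 ≠ 0 := fun h0 => hνx (F.mnz.1 h0)
  have hnV : n ∈ V := pr_mem M _ _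
  have hmemC : ∀ g, g ∈ C ↔ g * n = n * g := by
    intro g
    rw [hC, mem_centralizer_singleton_iff]
  have hVQ : V ≤ o2 P := h.VZ.trans (zc_le _)
  have hVcQ : ∀ q ∈ o2 P, ∀ v ∈ V, q * v = v * q := fun q hq v hv => (mem_zc.1 (h.VZ hv)).2.1 q hq
  have hWC : W ≤ C := o2_le C
  have hCW : C ≤ normalizer (W : Set G) := le_normalizer_o2 C
  have hW2 : IsPGroup 2 W := o2_isPGroup C
  -- elements of `A` and of `S_(l)` centralise `n`
  have hAcomm : ∀ t ∈ Fours.A h F, ∀ y : Pt k m, t * pr M y (μ y) = pr M y (μ y) * t := by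
    intro t ht y
    refine h.comm_pr (h.SP ht.1) (hmf y).symm ?_
    have h1 := F.FA_comm_mu ht.2 y
    rcases ht.2 y with h2 | h2
    · left; exact ⟨h2, by rw [h1, h2]⟩
    · right; exact ⟨h2, by rw [h1, h2, F.msq]⟩
  have hAC : Fours.A h F ≤ C := fun t ht => (hmemC t).2 (hAcomm t ht x)
  have hScomm : ∀ s ∈ (S : Subgroup G), (∀ p : Pt k m, p.1 = x.1 → pp M s p = p) → ∀ y : Pt k m, y.1 = x.1 →
      s * pr M y (μ y) = pr M y (μ y) * s := by
    intro s hs h1 y hy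
    exact h.comm_pr (h.SP hs) (hmf y).symm (Or.inl ⟨h1 y hy, h1 _ ((hmf y).trans hy)⟩)
  -- `X₀`
  set X := W ⊓ P with hX
  have hXd : ∀ g ∈ X, ∀ a b : Pt k m, a.1 = b.1 → a ≠ x → a ≠ μ x → b ≠ x → b ≠ μ x →
      g * pr M a b = pr M a b * g := by
    intro g hg a b hab h1 h2 h3 h4
    refine h.comm_pr hg.2 hab (Or.inl ?_)
    rcases hT2 g hg.1 hg.2 with h5 | h5
    · rw [h5]; exact ⟨rfl, rfl⟩
    · rw [h5, Equiv.swap_apply_of_ne_of_ne h1 h2, Equiv.swap_apply_of_ne_of_ne h3 h4]; exact ⟨rfl, rfl⟩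
  have d1 : ν x ≠ x := F.nne x hx
  have d2 : ν x ≠ μ x := F.nmu x hx
  have d3 : μ (ν x) ≠ x := by
    intro h0
    have h1 := congrArg μ h0
    rw [F.msq] at h1
    exact d2 h1
  have d4 : μ (ν x) ≠ μ x := fun h0 => d1 (μ.injective h0)
  have d5 : ν x ≠ μ (ν x) := (F.mne _ hνx).symm
  have hXA : X ≤ Fours.A h F := by
    intro g hg
    refine hT1 g hg.1 (ν x) (μ (ν x)) (hnf x) ((hmf _).trans (hnf x)) d5 d1 d2 d3 d4 ?_
    exact hXd g hg _ _ (hmf _).symm d1 d2 d3 d4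
  have hAX : ∀ g ∈ W, g ∈ Fours.A h F → g ∈ X := fun g hg hgA => ⟨hg, h.SP hgA.1⟩
  -- `Q⁺`
  set Q := o2 P ⊔ X with hQ
  have hQA : Q ≤ Fours.A h F := sup_le (Fours.Q_le_A h F) hXA
  have hQC : Q ≤ C := hQA.trans hAC
  have hQ2 : IsPGroup 2 Q := S.isPGroup'.to_le (hQA.trans (Fours.A_le h F))
  have hPX : C ⊓ P ≤ normalizer (X : Set G) := by
    intro g hg
    refine MinSimple.VModule.mem_normalizer_of_map_le ?_
    rintro _ ⟨a, ha, rfl⟩
    change g * a * g⁻¹ ∈ X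
    exact ⟨(mem_normalizer_iff.1 (hCW hg.1) a).1 ha.1, P.mul_mem (P.mul_mem hg.2 ha.2) (P.inv_mem hg.2)⟩
  have hPQ : C ⊓ P ≤ normalizer (Q : Set G) := by
    intro g hg
    refine MinSimple.VModule.mem_normalizer_of_map_le ?_
    rw [hQ, Subgroup.map_sup]
    apply sup_le_sup
    · rintro _ ⟨a, ha, rfl⟩
      exact (mem_normalizer_iff.1 (le_normalizer_o2 P hg.2) a).1 ha
    · rintro _ ⟨a, ha, rfl⟩
      exact (mem_normalizer_iff.1 (hPX hg) a).1 ha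
  have hWQ : ∀ g ∈ W, g ∈ Q → g ∈ X := fun g hg hgQ => hAX g hg (hQA hgQ)
  by_contra hWP
  -- `b₀ ∈ W` normalising `Q⁺`, not in `P`
  have hnot1 : ¬ W ⊓ normalizer (Q : Set G) ≤ P := by
    intro h0
    have hlt : Q < Q ⊔ W := by
      refine lt_of_le_of_ne le_sup_left fun h1 => hWP ?_
      have h2 : W ≤ Q := by rw [h1]; exact le_sup_right
      exact h2.trans (hQA.trans ((Fours.A_le h F).trans h.SP))
    have h2 : IsPGroup 2 (Q ⊔ W : Subgroup G) := hQ2.to_sup_of_normal_right' hW2 (hQC.trans hCW)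
    obtain ⟨s, hs, hsn, hsQ, -⟩ := MinSimple.Choice97.exists_normalizing h2 hlt
    obtain ⟨q, hq, w, hw, rfl⟩ := mem_sup_norm (hQC.trans hCW) hs
    have hwn : w ∈ normalizer (Q : Set G) := by
      have h3 := (normalizer (Q : Set G)).mul_mem ((normalizer (Q : Set G)).inv_mem (le_normalizer hq)) hsn
      rwa [inv_mul_cancel_left] at h3
    exact hsQ (mul_mem hq (mem_sup_right ⟨hw, h0 ⟨hw, hwn⟩⟩))
  -- `T_n`
  set W1 := W ⊓ normalizer (Q : Set G) with hW1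
  set T := (S : Subgroup G) ⊓ C with hT
  have hTP : T ≤ C ⊓ P := fun t ht => ⟨ht.2, h.SP ht.1⟩
  have hT2' : IsPGroup 2 T := S.isPGroup'.to_le inf_le_left
  have hTW1 : T ≤ normalizer (W1 : Set G) := by
    intro t ht
    refine MinSimple.VModule.mem_normalizer_of_map_le ?_
    rintro _ ⟨a, ha, rfl⟩
    change t * a * t⁻¹ ∈ W1
    have h1 := hPQ (hTP ht)
    exact ⟨(mem_normalizer_iff.1 (hCW ht.2) a).1 ha.1,
      (normalizer (Q : Set G)).mul_mem ((normalizer (Q : Set G)).mul_mem h1 ha.2)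
        ((normalizer (Q : Set G)).inv_mem h1)⟩
  have hXT : X ≤ T := fun g hg => ⟨(hXA hg).1, hWC hg.1⟩
  obtain ⟨b, hbW, hbQ, hbT, hbP⟩ : ∃ b ∈ W, b ∈ normalizer (Q : Set G) ∧ b ∈ normalizer (T : Set G) ∧ b ∉ P := by
    have hlt : T < T ⊔ W1 := by
      refine lt_of_le_of_ne le_sup_left fun h1 => hnot1 ?_
      have h2 : W1 ≤ T := by rw [h1]; exact le_sup_right
      exact h2.trans (inf_le_left.trans h.SP)
    have h2 : IsPGroup 2 (T ⊔ W1 : Subgroup G) := hT2'.to_sup_of_normal_right' (hW2.to_le inf_le_left) hTW1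
    obtain ⟨s, hs, hsn, hsT, -⟩ := MinSimple.Choice97.exists_normalizing h2 hlt
    obtain ⟨t, ht, b, hb, rfl⟩ := mem_sup_norm hTW1 hs
    have hbn : b ∈ normalizer (T : Set G) := by
      have h3 := (normalizer (T : Set G)).mul_mem ((normalizer (T : Set G)).inv_mem (le_normalizer ht)) hsn
      rwa [inv_mul_cancel_left] at h3
    exact ⟨b, hb.1, hb.2, hbn, fun h0 => hsT (mul_mem ht (hXT ⟨hb.1, h0⟩))⟩
  have hbX : ∀ t ∈ T, t * b * t⁻¹ * b⁻¹ ∈ X := by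
    intro t ht
    have h1 : t * b * t⁻¹ * b⁻¹ ∈ W :=
      W.mul_mem ((mem_normalizer_iff.1 (hCW ht.2) b).1 hbW) (W.inv_mem hbW)
    have h2 : t * b * t⁻¹ * b⁻¹ ∈ T := by
      have h3 := (mem_normalizer_iff.1 hbT t⁻¹).1 (T.inv_mem ht)
      have h4 : t * b * t⁻¹ * b⁻¹ = t * (b * t⁻¹ * b⁻¹) := by group
      rw [h4]
      exact T.mul_mem ht h3
    exact ⟨h1, (hTP h2).2⟩
  -- `Z⁺`
  set Z := zc Q with hZ
  have hZZ : ∀ y ∈ Z, y ∈ zc (o2 P) := by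
    intro y hy
    obtain ⟨h1, h2, h3⟩ := mem_zc.1 hy
    have h4 : y ∈ o2 P := h.cQ (mem_centralizer_iff.2 fun q hq => h2 q (mem_sup_left hq))
    exact mem_zc.2 ⟨h4, fun q hq => h2 q (mem_sup_left hq), h3⟩
  have hbZ : ∀ y ∈ Z, b * y * b⁻¹ ∈ Z := fun y hy =>
    (mem_normalizer_iff.1 (normalizer_le_normalizer_zc _ hbQ) y).1 hy
  have hXZ : ∀ g ∈ X, ∀ y ∈ Z, g * y = y * g := fun g hg y hy => (mem_zc.1 hy).2.1 g (mem_sup_right hg)
  have hPZ : ∀ g ∈ C, g ∈ P → ∀ y ∈ Z, g * y * g⁻¹ ∈ Z := fun g hg hgP y hy =>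
    (mem_normalizer_iff.1 (normalizer_le_normalizer_zc _ (hPQ ⟨hg, hgP⟩)) y).1 hy
  have hdZ : ∀ a c : Pt k m, a.1 = c.1 → a ≠ x → a ≠ μ x → c ≠ x → c ≠ μ x → pr M a c ∈ Z := by
    intro a c hac h1 h2 h3 h4
    refine mem_zc.2 ⟨mem_sup_left (hVQ (pr_mem M _ _)), ?_, by rw [pow_two]; exact h.Vsq (pr_mem M _ _)⟩
    have h5 : Q ≤ centralizer ({pr M a c} : Set G) := by
      refine sup_le (fun q hq => mem_centralizer_singleton_iff.2 (hVcQ q hq _ (pr_mem M _ _))) fun q hq => ?_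
      exact mem_centralizer_singleton_iff.2 (hXd q hq a c hac h1 h2 h3 h4)
    intro q hq
    exact mem_centralizer_singleton_iff.1 (h5 hq)
  -- conjugates under `b` of the fixed points of `t ∈ T`
  have hfix : ∀ y ∈ Z, ∀ t ∈ T, t * y = y * t → t * (b * y * b⁻¹) = b * y * b⁻¹ * t := by
    intro y hy t ht hty
    have h1 := hXZ _ (hbX t ht) _ (hbZ y hy)
    have h2 : t * y * t⁻¹ = y := by rw [hty, mul_inv_cancel_right]
    calc t * (b * y * b⁻¹) = (t * b * t⁻¹ * b⁻¹) * (b * (t * y * t⁻¹) * b⁻¹) * (b * t * b⁻¹) := by group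
      _ = (t * b * t⁻¹ * b⁻¹) * (b * y * b⁻¹) * (b * t * b⁻¹) := by rw [h2]
      _ = (b * y * b⁻¹) * (t * b * t⁻¹ * b⁻¹) * (b * t * b⁻¹) := by rw [h1]
      _ = b * y * b⁻¹ * t := by group
  -- `p^b`
  set q0 := pr M (ν x) (μ (ν x)) with hq0
  have hq0Z : q0 ∈ Z := hdZ _ _ (hmf _).symm d1 d2 d3 d4
  have hTq0 : ∀ t ∈ T, t * q0 = q0 * t := by
    intro t ht
    have htP := h.SP ht.1
    refine h.comm_pr htP (hmf _).symm ?_
    have h1 : E M n (pp M t x) = 1 := by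
      rw [(h.comm_iff htP hnV).1 ((hmemC t).1 ht.2) x]
      exact E_pr_left M (hmf x).symm (F.mne x hx).symm
    have h2 : pp M t x = x ∨ pp M t x = μ x := by
      by_contra h0
      push Not at h0
      rw [E_pr_of_ne M (hmf x).symm h0.1 h0.2] at h1
      exact zero_ne_one h1
    have h3 : pp M t (μ (ν x)) = μ (pp M t (ν x)) := F.meqv t ht.1 _
    have h4 : pp M t (ν x) = ν x ∨ pp M t (ν x) = μ (ν x) := by
      rcases h2 with h2 | h2
      · rcases F.neqv t ht.1 x with h5 | h5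
        · left; rw [h5, h2]
        · right; rw [h5, h2]
      · rcases F.neqv t ht.1 x with h5 | h5
        · right; rw [h5, h2, F.comm]
        · left; rw [h5, h2, ← F.comm, F.msq]
    rcases h4 with h4 | h4
    · left; exact ⟨h4, by rw [h3, h4]⟩
    · right; exact ⟨h4, by rw [h3, h4, F.msq]⟩
  have hAT : Fours.A h F ≤ T := fun t ht => ⟨ht.1, hAC ht⟩
  have hST : ∀ s ∈ (S : Subgroup G), (∀ p : Pt k m, p.1 = x.1 → pp M s p = p) → s ∈ T := fun s hs h1 =>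
    ⟨hs, (hmemC s).2 (hScomm s hs h1 x rfl)⟩
  obtain ⟨v, hvV, φ, hφZ, hv1, hv0, hvμ, hφ, hvφ⟩ := hHH (b * q0 * b⁻¹) (hZZ _ (hbZ _ hq0Z))
    (fun t ht => hfix _ hq0Z t (hAT ht) (hTq0 t (hAT ht)))
    (fun s hs h1 => hfix _ hq0Z s (hST s hs h1) (hTq0 s (hST s hs h1)))
  -- `b` normalises `X`
  have hbXn : ∀ g ∈ X, b * g * b⁻¹ ∈ X := by
    intro g hg
    exact hWQ _ (W.mul_mem (W.mul_mem hbW hg.1) (W.inv_mem hbW))
      ((mem_normalizer_iff.1 hbQ g).1 (mem_sup_right hg))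
  -- (2) elements of `P` which commute with `n`, `p`, `p^b` commute with `b` on `Z⁺`
  have hcom : ∀ g ∈ P, g * n = n * g → g * q0 = q0 * g → g * (b * q0 * b⁻¹) = b * q0 * b⁻¹ * g →
      ∀ y ∈ Z, g * (b * y * b⁻¹) * g⁻¹ = b * (g * y * g⁻¹) * b⁻¹ := by
    intro g hgP hgn hg0 hgb y hy
    have hgC : g ∈ C := (hmemC g).2 hgn
    set w := g * b * g⁻¹ * b⁻¹ with hw
    have hwW : w ∈ W := W.mul_mem ((mem_normalizer_iff.1 (hCW hgC) b).1 hbW) (W.inv_mem hbW)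
    have h1 : b⁻¹ * w * b ∈ X := by
      refine hAX _ (W.mul_mem (W.mul_mem (W.inv_mem hbW) hwW) hbW) ?_
      refine hT1 _ (W.mul_mem (W.mul_mem (W.inv_mem hbW) hwW) hbW) (ν x) (μ (ν x)) (hnf x)
        ((hmf _).trans (hnf x)) d5 d1 d2 d3 d4 ?_
      change b⁻¹ * w * b * q0 = q0 * (b⁻¹ * w * b)
      have e1 : g⁻¹ * q0 * g = q0 := by
        rw [mul_assoc, ← hg0, inv_mul_cancel_left]
      have e2 : b⁻¹ * w * b = b⁻¹ * g * b * g⁻¹ := by rw [hw]; group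
      rw [e2]
      calc b⁻¹ * g * b * g⁻¹ * q0 = b⁻¹ * g * b * (g⁻¹ * q0 * g) * g⁻¹ := by group
        _ = b⁻¹ * (g * (b * q0 * b⁻¹)) * b * g⁻¹ := by rw [e1]; group
        _ = q0 * (b⁻¹ * g * b * g⁻¹) := by rw [hgb]; group
    have h2 : w ∈ X := by
      have := hbXn _ h1
      have e3 : b * (b⁻¹ * w * b) * b⁻¹ = w := by group
      rwa [e3] at this
    have h3 := hXZ w h2 _ (hbZ _ (hPZ g hgC hgP y hy))
    calc g * (b * y * b⁻¹) * g⁻¹ = w * (b * (g * y * g⁻¹) * b⁻¹) * w⁻¹ := by rw [hw]; group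
      _ = b * (g * y * g⁻¹) * b⁻¹ := by rw [h3, mul_inv_cancel_right]
  -- (3) the points
  obtain ⟨y, w, hy1, hw1, hy2, hyx, hyμ, hyν, hyμν, hwx, hwμ, hwν, hwμν, hwy, hwμy, hEw, hwz⟩ :
      ∃ y w : Pt k m, y.1 = x.1 ∧ w.1 = x.1 ∧ y.2 ≠ 0 ∧ y ≠ x ∧ y ≠ μ x ∧ y ≠ ν x ∧ y ≠ μ (ν x) ∧
        w ≠ x ∧ w ≠ μ x ∧ w ≠ ν x ∧ w ≠ μ (ν x) ∧ w ≠ y ∧ w ≠ μ y ∧ E M v w = E M v y ∧
        (w = (x.1, 0) ∨ w.2 ≠ 0) := by
    by_cases h0 : ∃ y : Pt k m, y.1 = x.1 ∧ y.2 ≠ 0 ∧ y ≠ x ∧ y ≠ μ x ∧ y ≠ ν x ∧ y ≠ μ (ν x) ∧ E M v y = 0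
    · obtain ⟨y, h1, h2, h3, h4, h5, h6, h7⟩ := h0
      have hne : ∀ r : Pt k m, r.2 ≠ 0 → ((x.1, 0) : Pt k m) ≠ r := by
        rintro r hr rfl
        exact hr rfl
      exact ⟨y, (x.1, 0), h1, rfl, h2, h3, h4, h5, h6, hne _ hx, hne _ hmx, hne _ hνx, hne _ hμνx, hne _ h2,
        hne _ (fun h8 => h2 (F.mnz.1 h8)), by rw [hv0, h7], Or.inl rfl⟩
    · push Not at h0
      obtain ⟨y, hy, hys⟩ := exists_pt hm x.1 {(x.1, 0), x, μ x, ν x, μ (ν x)} (by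
        refine (Finset.card_le_five).trans (by norm_num))
      simp only [Finset.mem_insert, Finset.mem_singleton, not_or] at hys
      obtain ⟨e1, e2, e3, e4, e5⟩ := hys
      have hy2 : y.2 ≠ 0 := fun h1 => e1 (Prod.ext hy h1)
      obtain ⟨w, hw, hws⟩ := exists_pt hm x.1 {(x.1, 0), x, μ x, ν x, μ (ν x), y, μ y} (by
        refine (Finset.card_insert_le _ _).trans ?_
        have := Finset.card_le_six (a := x) (b := μ x) (c := ν x) (d := μ (ν x)) (e := y) (f := μ y)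
        omega)
      simp only [Finset.mem_insert, Finset.mem_singleton, not_or] at hws
      obtain ⟨f1, f2, f3, f4, f5, f6, f7⟩ := hws
      have hw2 : w.2 ≠ 0 := fun h1 => f1 (Prod.ext hw h1)
      have k1 := h0 y hy hy2 e2 e3 e4 e5
      have k2 := h0 w hw hw2 f2 f3 f4 f5
      rw [Half.SymA.zmod2_ne] at k1 k2
      exact ⟨y, w, hy, hw, hy2, e2, e3, e4, e5, f2, f3, f4, f5, f6, f7, by rw [k1, k2], Or.inr hw2⟩
  have hμyx : μ y ≠ x := by
    intro h0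
    have h1 := congrArg μ h0
    rw [F.msq] at h1
    exact hyμ h1
  have hμyμ : μ y ≠ μ x := fun h0 => hyx (μ.injective h0)
  have hμyν : μ y ≠ ν x := by
    intro h0
    have h1 := congrArg μ h0
    rw [F.msq] at h1
    exact hyμν h1
  have hμyμν : μ y ≠ μ (ν x) := fun h0 => hyν (μ.injective h0)
  have hyμy : y ≠ μ y := (F.mne y hy2).symm
  have hμy1 : (μ y).1 = x.1 := (hmf y).trans hy1
  -- the 3-cycle
  obtain ⟨g, hg, c1, c2, c3, c4⟩ := h.exists_cyc (a := y) (b := μ y) (c := w) (hmf y).symm (hμy1.trans hw1.symm)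
    hyμy hwμy.symm hwy.symm
  have hgB : ∀ p : Pt k m, p.1 ≠ x.1 → pp M g p = p := by
    intro p hp
    refine c4 p ?_ ?_ ?_
    · rintro rfl; exact hp hy1
    · rintro rfl; exact hp hμy1
    · rintro rfl; exact hp hw1
  have hgn : g * n = n * g := h.comm_pr hg (hmf x).symm
    (Or.inl ⟨c4 x hyx.symm hμyx.symm hwx.symm, c4 _ hyμ.symm hμyμ.symm hwμ.symm⟩)
  have hg0 : g * q0 = q0 * g := h.comm_pr hg (hmf _).symm
    (Or.inl ⟨c4 _ hyν.symm hμyν.symm hwν.symm, c4 _ hyμν.symm hμyμν.symm hwμν.symm⟩)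
  have hgv : g * v = v * g := by
    rw [h.comm_iff hg hvV]
    intro p
    by_cases p1 : p = y
    · rw [p1, c1, hvμ]
    · by_cases p2 : p = μ y
      · rw [p2, c2, hEw, hvμ]
      · by_cases p3 : p = w
        · rw [p3, c3, hEw]
        · rw [c4 p p1 p2 p3]
  have hgφ : g * φ = φ * g := hφ g hg hgB
  have hgb : g * (b * q0 * b⁻¹) = b * q0 * b⁻¹ * g := by
    rw [hvφ, ← mul_assoc, hgv, mul_assoc, hgφ, mul_assoc]
  have hcom' := hcom g hg hgn hg0 hgb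
  -- (4)
  set q1 := pr M y (μ y) with hq1
  have hq1Z : q1 ∈ Z := hdZ _ _ (hmf _).symm hyx hyμ hμyx hμyμ
  obtain ⟨v1, hv1V, φ1, hφ1Z, hv11, hv10, hv1μ, hφ1, hvφ1⟩ := hHH (b * q1 * b⁻¹) (hZZ _ (hbZ _ hq1Z))
    (fun t ht => hfix _ hq1Z t (hAT ht) (hAcomm t ht y))
    (fun s hs h1 => hfix _ hq1Z s (hST s hs h1) (hScomm s hs h1 y hy1))
  have hgC : g ∈ C := (hmemC g).2 hgn
  have hZcomm : ∀ a ∈ zc (o2 P), ∀ c ∈ zc (o2 P), a * c = c * a := fun a ha c hc => Sit.zz_comm ha hc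
  -- the three conjugates of `q₁`
  have e1 : g * q1 * g⁻¹ = pr M (μ y) w := by
    rw [hq1, h.conj_pr hg (hmf y).symm, c1, c2]
  have e2 : g * (g * q1 * g⁻¹) * g⁻¹ = pr M w y := by
    rw [e1, h.conj_pr hg (hμy1.trans hw1.symm), c2, c3]
  have e3 : q1 * (g * q1 * g⁻¹) * (g * (g * q1 * g⁻¹) * g⁻¹) = 1 := by
    rw [e2, e1, hq1, pr_mul M (hmf y).symm (hμy1.trans hw1.symm), pr_comm M (hy1.trans hw1.symm),
      h.Vsq (pr_mem M _ _)]
  have hgq1Z : g * q1 * g⁻¹ ∈ Z := hPZ g hgC hg _ hq1Z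
  set u := b * q1 * b⁻¹ with hu
  have e4 : g * u * g⁻¹ = b * (g * q1 * g⁻¹) * b⁻¹ := hcom' q1 hq1Z
  have e5 : g * (g * u * g⁻¹) * g⁻¹ = b * (g * (g * q1 * g⁻¹) * g⁻¹) * b⁻¹ := by
    rw [e4]
    exact hcom' _ hgq1Z
  have e6 : u * (g * u * g⁻¹) * (g * (g * u * g⁻¹) * g⁻¹) = 1 := by
    rw [e5, e4, hu]
    calc b * q1 * b⁻¹ * (b * (g * q1 * g⁻¹) * b⁻¹) * (b * (g * (g * q1 * g⁻¹) * g⁻¹) * b⁻¹)
        = b * (q1 * (g * q1 * g⁻¹) * (g * (g * q1 * g⁻¹) * g⁻¹)) * b⁻¹ := by group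
      _ = 1 := by rw [e3, mul_one, mul_inv_cancel]
  -- `u = v₁ φ₁`
  have hgφ1 : g * φ1 * g⁻¹ = φ1 := by rw [hφ1 g hg hgB, mul_inv_cancel_right]
  set v2 := g * v1 * g⁻¹ with hv2
  set v3 := g * v2 * g⁻¹ with hv3
  have hv2V : v2 ∈ V := h.amb.conj_mem hg hv1V
  have hv3V : v3 ∈ V := h.amb.conj_mem hg hv2V
  have e7 : g * u * g⁻¹ = v2 * φ1 := by
    rw [hvφ1]
    calc g * (v1 * φ1) * g⁻¹ = (g * v1 * g⁻¹) * (g * φ1 * g⁻¹) := by group
      _ = v2 * φ1 := by rw [hgφ1]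
  have e8 : g * (g * u * g⁻¹) * g⁻¹ = v3 * φ1 := by
    rw [e7]
    calc g * (v2 * φ1) * g⁻¹ = (g * v2 * g⁻¹) * (g * φ1 * g⁻¹) := by group
      _ = v3 * φ1 := by rw [hgφ1]
  have hφφ : φ1 * φ1 = 1 := Sit.zz_sq hφ1Z
  have e9 : v1 * v2 * v3 * φ1 = 1 := by
    rw [e8, e7, hvφ1] at e6
    have k1 := hZcomm _ hφ1Z _ (h.VZ hv2V)
    have k2 := hZcomm _ hφ1Z _ (h.VZ hv3V)
    calc v1 * v2 * v3 * φ1 = v1 * v2 * v3 * φ1 * (φ1 * φ1) := by rw [hφφ, mul_one]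
      _ = v1 * v2 * (v3 * φ1) * φ1 * φ1 := by group
      _ = v1 * v2 * (φ1 * v3) * φ1 * φ1 := by rw [k2]
      _ = v1 * (v2 * φ1) * (v3 * φ1) * φ1 := by group
      _ = v1 * (φ1 * v2) * (φ1 * v3) * φ1 := by rw [k1, k2]
      _ = v1 * φ1 * (v2 * φ1) * (v3 * φ1) := by group
      _ = 1 := e6
  have hv123 : v1 * v2 * v3 ∈ V := V.mul_mem (V.mul_mem hv1V hv2V) hv3V
  have e10 : φ1 = v1 * v2 * v3 := by
    have k1 := mul_eq_one_iff_eq_inv.1 e9
    rw [k1, eq_comm]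
    exact inv_eq_of_mul_eq_one_left hφφ
  -- supports
  have hEg : ∀ a ∈ V, (∀ p : Pt k m, p.1 ≠ x.1 → E M a p = 0) →
      ∀ p : Pt k m, p.1 ≠ x.1 → E M (g * a * g⁻¹) p = 0 := by
    intro a ha h1 p hp
    have h2 := E_conj (M := M) hg ha p
    rw [hgB p hp] at h2
    rw [h2, h1 p hp]
  have hv21 := hEg v1 hv1V hv11
  have hv31 := hEg v2 hv2V hv21
  have hφ1V : φ1 ∈ V := by rw [e10]; exact hv123
  have hφ1one : φ1 = 1 := by
    refine h.eq_one_of_fixed (l := x.1) hφ1V (fun p hp => ?_) hφ1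
    rw [e10, Half.SymA.E_mul M (V.mul_mem hv1V hv2V) hv3V, Half.SymA.E_mul M hv1V hv2V, hv11 p hp, hv21 p hp,
      hv31 p hp]
    rfl
  rw [hφ1one] at e10
  have huv : u = v1 := by rw [hvφ1, hφ1one, mul_one]
  -- `v₁` has support in `{y, μ y}`
  have hEv : ∀ p : Pt k m, p ≠ y → p ≠ μ y → p ≠ w → E M v1 p = 0 := by
    intro p p1 p2 p3
    have k1 : pp M g p = p := c4 p p1 p2 p3
    have k2 : E M v2 p = E M v1 p := by
      have := E_conj (M := M) hg hv1V p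
      rwa [k1] at this
    have k3 : E M v3 p = E M v2 p := by
      have := E_conj (M := M) hg hv2V p
      rwa [k1] at this
    have k4 : E M (v1 * v2 * v3) p = 0 := by rw [← e10, Half.SymA.E_one]
    rw [Half.SymA.E_mul M (V.mul_mem hv1V hv2V) hv3V, Half.SymA.E_mul M hv1V hv2V, k3, k2] at k4
    have k5 : ∀ a : ZMod 2, a + a + a = 0 → a = 0 := by decide
    exact k5 _ k4
  have hEw1 : E M v1 w = 0 := by
    rcases hwz with h1 | h1
    · rw [h1]; exact hv10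
    · rw [← hv1μ w]
      refine hEv _ ?_ ?_ (F.mne w h1)
      · intro h2
        have h3 := congrArg μ h2
        rw [F.msq] at h3
        exact hwμy h3
      · intro h2
        exact hwy (μ.injective h2)
  have hfin : u = q1 := by
    rcases Half.SymA.zmod2 (E M v1 y) with h1 | h1
    · exfalso
      have h2 : v1 = 1 := by
        refine Half.SymA.eq_one M hv1V fun p => ?_
        by_cases p1 : p = y
        · rw [p1, h1]
        · by_cases p2 : p = μ y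
          · rw [p2, hv1μ, h1]
          · by_cases p3 : p = w
            · rw [p3, hEw1]
            · exact hEv p p1 p2 p3
      have h3 : q1 = 1 := by
        have h4 : u = 1 := by rw [huv, h2]
        rw [hu] at h4
        calc q1 = b⁻¹ * (b * q1 * b⁻¹) * b := by group
          _ = 1 := by rw [h4]; group
      have h5 := E_pr_left M (hmf y).symm hyμy
      rw [← hq1, h3, Half.SymA.E_one] at h5
      exact zero_ne_one h5
    · rw [huv]
      refine Half.SymA.inj M hv1V (pr_mem M _ _) fun p => ?_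
      by_cases p1 : p = y
      · rw [p1, h1, E_pr_left M (hmf y).symm hyμy]
      · by_cases p2 : p = μ y
        · rw [p2, hv1μ, h1, E_pr_right M (hmf y).symm hyμy]
        · rw [E_pr_of_ne M (hmf y).symm p1 p2]
          by_cases p3 : p = w
          · rw [p3, hEw1]
          · exact hEv p p1 p2 p3
  apply hbP
  refine h.SP (hT1 b hbW y (μ y) hy1 hμy1 hyμy hyx hyμ hμyx hμyμ ?_).1
  change b * q1 = q1 * b
  rw [hu, mul_inv_eq_iff_eq_mul] at hfin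
  exact hfin

end main

end Cfsg.Agent.Omega.IId.SymWr
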