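import Cfsg.Agent.MinSimple.VModule

/-!
# THEOREM L2, `m = 2` (bb OMEGA 18061 / 808 / 158): the count

* `card_le_of_three` : `a i`, `n i` (`i : ι`) elements of `G`, `A` a 2-group commuting with all of them, and for every
  `i` two elements `y`, `y'` of `O₂(C_G(n i))` which commute with the other `a j`, `n j` and such that `a i`, `a i ^ y`,
  `a i ^ y'` are pairwise distinct; then `4 ^ |ι| * |A| ≤ |S|`;
* `card_le_of_action` : `S` acts on `X`, `|X| = 2 f`, with kernel in `A`: `|S| ≤ |A| 2 ^ (2 f - 1)`;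
* `false_of_three` : both together.
-/

set_option autoImplicit false

namespace Cfsg.Agent.Omega.IId.SymWr

open Subgroup Cfsg Cfsg.Agent.ZN
open Cfsg.Agent.MinSimple.VModule (o2_le o2_isPGroup le_normalizer_o2 le_o2)

universe u

variable {G : Type u} [Group G]

theorem mem_cent_singleton {n y : G} : y ∈ centralizer ({n} : Set G) ↔ n * y = y * n := by
  rw [mem_centralizer_iff]
  exact ⟨fun h => h n rfl, fun h m hm => by rw [Set.mem_singleton_iff.1 hm]; exact h⟩

section count

variable [Finite G]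

/-- a 2-group with an orbit of length at least 3 -/
theorem four_le_relIndex {L : Subgroup G} (hL : IsPGroup 2 L) {a y y' : G} (hy : y ∈ L) (hy' : y' ∈ L)
    (h1 : y * a * y⁻¹ ≠ a) (h2 : y' * a * y'⁻¹ ≠ a) (h3 : y * a * y⁻¹ ≠ y' * a * y'⁻¹) :
    4 ≤ (centralizer ({a} : Set G)).relIndex L := by
  set C := centralizer ({a} : Set G) with hC
  obtain ⟨k, hk⟩ := (hL.index (C.subgroupOf L))
  have hmem : ∀ x : G, x ∈ C ↔ x * a * x⁻¹ = a := fun x => by
    rw [hC, mem_cent_singleton, mul_inv_eq_iff_eq_mul, eq_comm]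
  -- three different cosets
  have h3le : 3 ≤ (C.subgroupOf L).index := by
    let f : Fin 3 → L ⧸ C.subgroupOf L := ![QuotientGroup.mk 1, QuotientGroup.mk ⟨y, hy⟩, QuotientGroup.mk ⟨y', hy'⟩]
    have hne : ∀ u v : L, (u : G) * a * (u : G)⁻¹ ≠ v * a * (v : G)⁻¹ →
        (QuotientGroup.mk u : L ⧸ C.subgroupOf L) ≠ QuotientGroup.mk v := by
      intro u v huv h
      apply huv
      rw [QuotientGroup.eq, mem_subgroupOf, hmem] at h
      have h' : (u : G)⁻¹ * v * a * ((u : G)⁻¹ * v)⁻¹ = a := h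
      calc (u : G) * a * (u : G)⁻¹ = u * ((u : G)⁻¹ * v * a * ((u : G)⁻¹ * v)⁻¹) * (u : G)⁻¹ := by rw [h']
        _ = v * a * (v : G)⁻¹ := by group
    have hf : Function.Injective f := by
      have n01 : f 0 ≠ f 1 := hne 1 ⟨y, hy⟩ (by
        intro h
        apply h1
        rw [← h]
        simp)
      have n02 : f 0 ≠ f 2 := hne 1 ⟨y', hy'⟩ (by
        intro h
        apply h2
        rw [← h]
        simp)
      have n12 : f 1 ≠ f 2 := hne ⟨y, hy⟩ ⟨y', hy'⟩ h3
      intro i j hij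
      fin_cases i <;> fin_cases j <;> simp_all
    have h4 := Nat.card_le_card_of_injective f hf
    rwa [Nat.card_fin] at h4
  have h5 : (C.subgroupOf L).index ≠ 3 := by
    intro h
    rw [hk] at h
    rcases k with _ | _ | k
    · norm_num at h
    · norm_num at h
    · rw [pow_succ, pow_succ] at h
      omega
  change 4 ≤ (C.subgroupOf L).index
  omega

variable {ι : Type*} [Fintype ι] (S : Sylow 2 G)

/-- the chain -/
theorem four_pow_le {L A : Subgroup G} (hL : IsPGroup 2 L) {a : ι → G} (hA : A ≤ L)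
    (hAa : ∀ x ∈ A, ∀ i, x * a i = a i * x)
    (H : ∀ i, ∃ y ∈ L, ∃ y' ∈ L, (∀ j, j ≠ i → y * a j = a j * y ∧ y' * a j = a j * y') ∧
      y * a i * y⁻¹ ≠ a i ∧ y' * a i * y'⁻¹ ≠ a i ∧ y * a i * y⁻¹ ≠ y' * a i * y'⁻¹) :
    4 ^ Fintype.card ι * Nat.card A ≤ Nat.card L := by
  classical
  have key : ∀ s : Finset ι,
      4 ^ s.card * Nat.card ↥(L ⊓ centralizer (a '' (s : Set ι)) : Subgroup G) ≤ Nat.card L := by
    intro s
    induction s using Finset.induction_on with
    | empty =>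
      have : L ⊓ centralizer (a '' ((∅ : Finset ι) : Set ι)) = L := by
        rw [Finset.coe_empty, Set.image_empty]
        refine inf_eq_left.2 fun x _ => ?_
        rw [mem_centralizer_iff]
        exact fun m hm => absurd hm (Set.notMem_empty m)
      rw [this, Finset.card_empty, pow_zero, one_mul]
    | insert i s hi ih =>
      set M := L ⊓ centralizer (a '' (s : Set ι)) with hM
      have hML : M ≤ L := inf_le_left
      have hM2 : IsPGroup 2 M := hL.to_le hML
      have hset : L ⊓ centralizer (a '' ((insert i s : Finset ι) : Set ι)) = M ⊓ centralizer ({a i} : Set G) := by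
        ext x
        rw [hM, mem_inf, mem_inf, mem_inf, mem_cent_singleton, mem_centralizer_iff, mem_centralizer_iff]
        constructor
        · rintro ⟨h1, h2⟩
          refine ⟨⟨h1, fun m hm => h2 m ?_⟩, h2 _ ⟨i, by simp, rfl⟩⟩
          obtain ⟨j, hj, rfl⟩ := hm
          exact ⟨j, by simp [Finset.mem_coe.1 hj], rfl⟩
        · rintro ⟨⟨h1, h2⟩, h3⟩
          refine ⟨h1, ?_⟩
          rintro _ ⟨j, hj, rfl⟩
          rw [Finset.mem_coe, Finset.mem_insert] at hj
          rcases hj with rfl | hj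
          · exact h3
          · exact h2 _ ⟨j, hj, rfl⟩
      obtain ⟨y, hy, y', hy', hc, h1, h2, h3⟩ := H i
      have hyM : ∀ {w : G}, w ∈ L → (∀ j, j ≠ i → w * a j = a j * w) → w ∈ M := by
        intro w hw h
        refine mem_inf.2 ⟨hw, ?_⟩
        rw [mem_centralizer_iff]
        rintro _ ⟨j, hj, rfl⟩
        refine (h j ?_).symm
        rintro rfl
        exact hi hj
      have h4 := four_le_relIndex hM2 (hyM hy fun j hj => (hc j hj).1) (hyM hy' fun j hj => (hc j hj).2) h1 h2 h3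
      have h5 : Nat.card ↥(M ⊓ centralizer ({a i} : Set G) : Subgroup G) *
          (centralizer ({a i} : Set G)).relIndex M = Nat.card M := by
        rw [← Subgroup.inf_relIndex_left, ← Subgroup.relIndex_bot_left, ← Subgroup.relIndex_bot_left]
        exact Subgroup.relIndex_mul_relIndex _ _ _ bot_le inf_le_left
      rw [hset, Finset.card_insert_of_notMem hi]
      calc 4 ^ (s.card + 1) * Nat.card ↥(M ⊓ centralizer ({a i} : Set G) : Subgroup G)
          = 4 ^ s.card * (Nat.card ↥(M ⊓ centralizer ({a i} : Set G) : Subgroup G) * 4) := by ring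
        _ ≤ 4 ^ s.card * (Nat.card ↥(M ⊓ centralizer ({a i} : Set G) : Subgroup G) *
            (centralizer ({a i} : Set G)).relIndex M) := Nat.mul_le_mul_left _ (Nat.mul_le_mul_left _ h4)
        _ = 4 ^ s.card * Nat.card M := by rw [h5]
        _ ≤ Nat.card L := ih
  have h1 := key Finset.univ
  rw [Finset.card_univ] at h1
  refine le_trans (Nat.mul_le_mul_left _ ?_) h1
  refine Nat.card_le_card_of_injective (Subgroup.inclusion ?_) (Subgroup.inclusion_injective _)
  refine le_inf hA fun x hx => ?_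
  rw [mem_centralizer_iff]
  rintro _ ⟨j, -, rfl⟩
  exact (hAa x hx j).symm

/-- **the count** -/
theorem card_le_of_three {A : Subgroup G} (hA2 : IsPGroup 2 A) {a n : ι → G}
    (hAa : ∀ x ∈ A, ∀ i, x * a i = a i * x) (hAn : ∀ x ∈ A, ∀ i, x * n i = n i * x)
    (H : ∀ i, ∃ y ∈ o2 (centralizer ({n i} : Set G)), ∃ y' ∈ o2 (centralizer ({n i} : Set G)),
      (∀ j, j ≠ i → y * a j = a j * y ∧ y * n j = n j * y ∧ y' * a j = a j * y' ∧ y' * n j = n j * y') ∧
      y * a i * y⁻¹ ≠ a i ∧ y' * a i * y'⁻¹ ≠ a i ∧ y * a i * y⁻¹ ≠ y' * a i * y'⁻¹) :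
    4 ^ Fintype.card ι * Nat.card A ≤ Nat.card (S : Subgroup G) := by
  classical
  set D := centralizer (Set.range n) with hD
  have hAD : A ≤ D := fun x hx => by
    rw [hD, mem_centralizer_iff]
    rintro _ ⟨i, rfl⟩
    exact (hAn x hx i).symm
  have hDi : ∀ i, D ≤ centralizer ({n i} : Set G) := fun i =>
    centralizer_le (Set.singleton_subset_iff.2 ⟨i, rfl⟩)
  -- `O₂(C(n i)) ⊓ D ≤ O₂(D)`
  have ho : ∀ i, o2 (centralizer ({n i} : Set G)) ⊓ D ≤ o2 D := by
    intro i
    refine le_o2 inf_le_right ((o2_isPGroup _).to_le inf_le_left) fun x hx => ?_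
    have h1 := le_normalizer_o2 (centralizer ({n i} : Set G)) (hDi i hx)
    rw [mem_normalizer_iff] at h1 ⊢
    intro w
    rw [mem_inf, mem_inf, h1 w]
    refine and_congr_right fun _ => ⟨fun h => D.mul_mem (D.mul_mem hx h) (D.inv_mem hx), fun h => ?_⟩
    have h2 := D.mul_mem (D.mul_mem (D.inv_mem hx) h) hx
    have e : x⁻¹ * (x * w * x⁻¹) * x = w := by group
    rwa [e] at h2
  have hyD : ∀ i {y : G}, y ∈ o2 (centralizer ({n i} : Set G)) → (∀ j, j ≠ i → y * n j = n j * y) → y ∈ o2 D := by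
    intro i y hy h
    refine ho i (mem_inf.2 ⟨hy, ?_⟩)
    rw [hD, mem_centralizer_iff]
    rintro _ ⟨j, rfl⟩
    by_cases hj : j = i
    · subst hj
      exact mem_cent_singleton.1 (o2_le _ hy)
    · exact (h j hj).symm
  -- the 2-group `L = O₂(D) A`
  let L : Subgroup G := o2 D ⊔ A
  have hL : IsPGroup 2 L := by
    have h1 : IsPGroup 2 ↥(A ⊔ o2 D : Subgroup G) :=
      hA2.to_sup_of_normal_right' (o2_isPGroup D) (hAD.trans (le_normalizer_o2 D))
    rwa [sup_comm] at h1
  have h1 : 4 ^ Fintype.card ι * Nat.card A ≤ Nat.card L := by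
    refine four_pow_le hL le_sup_right hAa fun i => ?_
    obtain ⟨y, hy, y', hy', hc, h1, h2, h3⟩ := H i
    exact ⟨y, mem_sup_left (hyD i hy fun j hj => (hc j hj).2.1), y',
      mem_sup_left (hyD i hy' fun j hj => (hc j hj).2.2.2), fun j hj => ⟨(hc j hj).1, (hc j hj).2.2.1⟩, h1, h2, h3⟩
  refine h1.trans ?_
  obtain ⟨T, hT⟩ := hL.exists_le_sylow
  rw [Nat.card_congr (Sylow.equiv S T).toEquiv]
  exact Nat.card_le_card_of_injective (Subgroup.inclusion hT) (Subgroup.inclusion_injective hT)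

end count

/-- the 2-part of `(2 f)!` -/
theorem factorization_le {f : ℕ} (hf : 0 < f) {k : ℕ} (hk : 2 ^ k ∣ (2 * f).factorial) : k ≤ 2 * f - 1 := by
  have : Fact (Nat.Prime 2) := ⟨Nat.prime_two⟩
  have h1 : k ≤ padicValNat 2 (2 * f).factorial :=
    (padicValNat_dvd_iff_le (Nat.factorial_ne_zero _)).1 hk
  have h2 := sub_one_mul_padicValNat_factorial_lt_of_ne_zero (p := 2) (n := 2 * f) (by omega)
  omega

/-- a 2-group which acts on a set of `2 f` elements -/
theorem card_le_of_action {T : Type*} [Group T] [Finite T] (hT : IsPGroup 2 T) {X : Type*} [Finite X]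
    (φ : T →* Equiv.Perm X) {f : ℕ} (hf : 0 < f) (hX : Nat.card X = 2 * f) :
    Nat.card T ≤ Nat.card φ.ker * 2 ^ (2 * f - 1) := by
  classical
  have := Fintype.ofFinite X
  have h1 := Subgroup.card_mul_index φ.ker
  rw [Subgroup.index_ker] at h1
  obtain ⟨k, h2⟩ := IsPGroup.iff_card.1 (hT.of_surjective φ.rangeRestrict φ.rangeRestrict_surjective)
  rw [← h1]
  refine Nat.mul_le_mul_left _ ?_
  rw [h2]
  refine Nat.pow_le_pow_right (by norm_num) (factorization_le hf ?_)
  rw [← h2, ← hX]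
  have h3 := Subgroup.card_subgroup_dvd_card φ.range
  rwa [Nat.card_perm] at h3

/-- **both together** -/
theorem false_of_three [Finite G] {ι : Type*} [Fintype ι] [Nonempty ι] (S : Sylow 2 G) {A : Subgroup G}
    (hA2 : IsPGroup 2 A) {a n : ι → G} (hAa : ∀ x ∈ A, ∀ i, x * a i = a i * x)
    (hAn : ∀ x ∈ A, ∀ i, x * n i = n i * x)
    (H : ∀ i, ∃ y ∈ o2 (centralizer ({n i} : Set G)), ∃ y' ∈ o2 (centralizer ({n i} : Set G)),
      (∀ j, j ≠ i → y * a j = a j * y ∧ y * n j = n j * y ∧ y' * a j = a j * y' ∧ y' * n j = n j * y') ∧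
      y * a i * y⁻¹ ≠ a i ∧ y' * a i * y'⁻¹ ≠ a i ∧ y * a i * y⁻¹ ≠ y' * a i * y'⁻¹)
    {X : Type*} [Finite X] (φ : (S : Subgroup G) →* Equiv.Perm X) (hX : Nat.card X = 2 * Fintype.card ι)
    (hker : ∀ s : (S : Subgroup G), φ s = 1 → (s : G) ∈ A) : False := by
  have hf : 0 < Fintype.card ι := Fintype.card_pos
  have h1 := card_le_of_three S hA2 hAa hAn H
  have h2 := card_le_of_action S.isPGroup' φ hf hX
  have h3 : Nat.card φ.ker ≤ Nat.card A :=
    Nat.card_le_card_of_injective (fun s : φ.ker => (⟨((s : (S : Subgroup G)) : G), hker s s.2⟩ : A))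
      fun s t h => Subtype.ext (Subtype.ext (congrArg (fun y : A => (y : G)) h))
  have h4 : 4 ^ Fintype.card ι * Nat.card A ≤ Nat.card A * 2 ^ (2 * Fintype.card ι - 1) :=
    h1.trans (h2.trans (Nat.mul_le_mul_right _ h3))
  have hA0 : 0 < Nat.card A := Nat.card_pos
  rw [mul_comm] at h4
  have h5 := Nat.le_of_mul_le_mul_left h4 hA0
  have h6 : (4 : ℕ) ^ Fintype.card ι = 2 ^ (2 * Fintype.card ι) := by
    rw [pow_mul]
    norm_num
  rw [h6] at h5
  have h7 := (Nat.pow_le_pow_iff_right (by norm_num : 1 < 2)).1 h5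
  omega

end Cfsg.Agent.Omega.IId.SymWr
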