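import Cfsg.Agent.Omega.IId.SymTwo5.Idem
import Cfsg.Agent.Omega.IId.SymTwo5.Step
import Cfsg.Agent.MinSimple.VModule
import Cfsg.Agent.MinSimple.Basic

/-!
# THEOREM L for `m = 2`: the linear algebra (bb OMEGA #18734 (1), (3), (4))

`main` : a 2-group `W` of operators with `C_W(a) = 1`, `x` of order 3, the only `T`-fixed vectors with
`v + v^x + v^(x²) = 0` are `0`, `a`: there are `y ≠ z` in `W`, both `≠ 1`, which centralise all `x`-fixed vectors.
-/

set_option autoImplicit false

namespace Cfsg.Agent.Omega.IId.SymWr.LTwoLin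

open Subgroup Cfsg
open Cfsg.Agent.ZN (zc)
open Cfsg.Agent.MinSimple.VModule (mem_zc zc_le zc_comm zc_sq normalizer_le_normalizer_zc)
open Cfsg.Agent.Omega.IId.SymTwo5

/-- fixed elements of a 2-group acting on a 2-group -/
theorem exists_comm {N : Type*} [Group N] [Finite N] {T M : Subgroup N} (hT : IsPGroup 2 T)
    (hM : ∀ m ∈ M, m * m = 1) (hne : M ≠ ⊥) (hTM : ∀ t ∈ T, ∀ m ∈ M, t * m * t⁻¹ ∈ M) :
    ∃ m ∈ M, m ≠ 1 ∧ ∀ t ∈ T, t * m = m * t := by
  have : Fact (Nat.Prime 2) := ⟨Nat.prime_two⟩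
  let act : MulAction T M :=
    { smul := fun s b => ⟨s * b * (s : N)⁻¹, hTM s s.2 b b.2⟩
      one_smul := fun b => Subtype.ext (by
        change (1 : N) * b * (1 : N)⁻¹ = b
        simp)
      mul_smul := fun s t b => Subtype.ext (by
        change ((s : N) * t) * b * ((s : N) * t)⁻¹ = s * (t * b * (t : N)⁻¹) * (s : N)⁻¹
        group) }
  have hsm : ∀ (s : T) (b : M), ((s • b : M) : N) = s * b * (s : N)⁻¹ := fun _ _ => rfl
  obtain ⟨b, hb0⟩ := (Subgroup.ne_bot_iff_exists_ne_one).1 hne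
  have hdvd : 2 ∣ Nat.card M := by
    have h1 : orderOf b = 2 := by
      refine orderOf_eq_prime ?_ hb0
      rw [pow_two]
      exact Subtype.ext (hM b b.2)
    rw [← h1]
    exact orderOf_dvd_natCard _
  obtain ⟨c, hc, hc0⟩ := hT.exists_fixed_point_of_prime_dvd_card_of_fixed_point M hdvd
    (a := (1 : M)) (fun s => Subtype.ext (by rw [hsm]; simp))
  refine ⟨c, c.2, fun h => hc0 (Subtype.ext h.symm), fun t ht => ?_⟩
  have h3 := hc ⟨t, ht⟩
  have h4 := congrArg Subtype.val h3
  rw [hsm] at h4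
  exact mul_inv_eq_iff_eq_mul.1 h4

variable {N A : Type*} [Group N] [Finite N] [AddCommGroup A] [Finite A] [DistribMulAction N A]

theorem main (h2 : ∀ a : A, a + a = 0)
    {T W : Subgroup N} (hT : IsPGroup 2 T) (hW : IsPGroup 2 W) (hW1 : W ≠ ⊥)
    (hTW : T ≤ normalizer (W : Set N)) {x : N} (hxW : x ∈ normalizer (W : Set N)) (hx3 : x * x * x = 1)
    (hTx : ∀ t ∈ T, t * x * t⁻¹ = x ∨ t * x * t⁻¹ = x⁻¹)
    {a : A} (hfx : ∀ v : A, (∀ t ∈ T, t • v = v) → v + x • v + x • x • v = 0 → v = 0 ∨ v = a)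
    (hTa : ∀ t ∈ T, t • a = a) (hxa : a + x • a + x • x • a = 0)
    (hWa : ∀ w ∈ W, w • a = a → w = 1) :
    ∃ y ∈ W, ∃ z ∈ W, y ≠ 1 ∧ z ≠ 1 ∧ y ≠ z ∧ ∀ v : A, x • v = v → y • v = v ∧ z • v = v := by
  have hxinv : x⁻¹ = x * x := inv_eq_of_mul_eq_one_right (by rw [← mul_assoc, hx3])
  have hxxx : ∀ v : A, x • x • x • v = v := fun v => by rw [← mul_smul, ← mul_smul, hx3, one_smul]
  have hxi : ∀ v : A, x⁻¹ • v = x • x • v := fun v => by rw [hxinv, mul_smul]
  -- (1)
  have c1 : ∀ u ∈ W, (∀ t ∈ T, t * u = u * t) → x * u = u * x → u = 1 := by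
    intro u hu htu hxu
    have h1 : ∀ t ∈ T, t • (u • a) = u • a := fun t ht => by
      rw [← mul_smul, htu t ht, mul_smul, hTa t ht]
    have h3 : ∀ v : A, x • u • v = u • x • v := fun v => by rw [← mul_smul, hxu, mul_smul]
    have h4 : u • a + x • u • a + x • x • u • a = 0 := by
      rw [h3, h3, ← smul_add, ← smul_add, hxa, smul_zero]
    rcases hfx _ h1 h4 with h5 | h5
    · have h6 : a = 0 := by
        have := congrArg (u⁻¹ • ·) h5
        simpa using this
      exact hWa u hu (by rw [h6, smul_zero])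
    · exact hWa u hu h5
  -- `Ω₁Z(W)`
  set M := zc W with hM
  have hMW : ∀ m ∈ M, m ∈ W := fun m hm => zc_le W hm
  have hMsq : ∀ m ∈ M, m * m = 1 := fun m hm => by rw [← pow_two]; exact zc_sq W m hm
  have hMc : ∀ m ∈ M, ∀ n ∈ M, m * n = n * m := fun m hm n hn => zc_comm W m hm n hn
  have hM1 : M ≠ ⊥ := MinSimple.Basic.zc_ne_bot hW hW1
  have hTM : ∀ t ∈ T, ∀ m ∈ M, t * m * t⁻¹ ∈ M := fun t ht m hm =>
    (mem_normalizer_iff.1 (normalizer_le_normalizer_zc _ (hTW ht)) m).1 hm
  have hxM : ∀ m ∈ M, x * m * x⁻¹ ∈ M := fun m hm =>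
    (mem_normalizer_iff.1 (normalizer_le_normalizer_zc _ hxW) m).1 hm
  have hne : ∃ m ∈ M, x * m * x⁻¹ ≠ m := by
    by_contra h0
    push Not at h0
    obtain ⟨m, hm, hm1, hmT⟩ := exists_comm hT hMsq hM1 hTM
    exact hm1 (c1 m (hMW m hm) hmT (mul_inv_eq_iff_eq_mul.1 (h0 m hm)))
  have hxm3 : ∀ m : N, x * (x * (x * m * x⁻¹) * x⁻¹) * x⁻¹ = m := by
    intro m
    have : x * (x * (x * m * x⁻¹) * x⁻¹) * x⁻¹ = (x * x * x) * m * (x * x * x)⁻¹ := by group
    rw [this, hx3, inv_one, mul_one, one_mul]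
  obtain ⟨y, hyM, hy1, hTy, hy3⟩ := exists_b hMsq hMc hT hTM hxM (fun m _ => hxm3 m) (by
    intro t ht
    rcases hTx t ht with h3 | h3
    · left
      intro m _
      have h4 : t * x = x * t := mul_inv_eq_iff_eq_mul.1 h3
      calc t * (x * m * x⁻¹) * t⁻¹ = (t * x) * m * (t * x)⁻¹ := by group
        _ = x * (t * m * t⁻¹) * x⁻¹ := by rw [h4]; group
    · right
      intro m _
      have h4 : t * x = x⁻¹ * t := mul_inv_eq_iff_eq_mul.1 h3
      calc t * (x * m * x⁻¹) * t⁻¹ = (t * x) * m * (t * x)⁻¹ := by group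
        _ = x⁻¹ * (t * m * t⁻¹) * (x⁻¹)⁻¹ := by rw [h4]; group
        _ = (x * x) * (t * m * t⁻¹) * (x * x)⁻¹ := by rw [hxinv]
        _ = x * (x * (t * m * t⁻¹) * x⁻¹) * x⁻¹ := by group) hne
  set z := x * y * x⁻¹ with hz
  set w := x * z * x⁻¹ with hw
  have hzM : z ∈ M := hxM y hyM
  have hwM : w ∈ M := hxM z hzM
  have hyz : y * z = w := by
    have h3 : y * z * w * w = w := by rw [hy3, one_mul]
    rwa [mul_assoc, hMsq w hwM, mul_one] at h3
  have hyw : y * w = z := by
    rw [← hyz, ← mul_assoc, hMsq y hyM, one_mul]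
  have hz1 : z ≠ 1 := by
    intro h0
    apply hy1
    rw [hz, mul_inv_eq_one] at h0
    simpa using h0
  have hyz' : y ≠ z := by
    intro h0
    exact hy1 (c1 y (hMW y hyM) hTy (mul_inv_eq_iff_eq_mul.1 h0.symm))
  -- (3)
  have c3 : ∀ v : A, v + x • v + x • x • v = 0 → y • v = v → v = 0 := by
    let B : AddSubgroup A :=
      { carrier := {v | v + x • v + x • x • v = 0 ∧ y • v = v}
        add_mem' := by
          rintro v w ⟨h3, h4⟩ ⟨h5, h6⟩
          refine ⟨?_, by rw [smul_add, h4, h6]⟩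
          have : v + w + x • (v + w) + x • x • (v + w) =
              (v + x • v + x • x • v) + (w + x • w + x • x • w) := by
            simp only [smul_add]; abel
          rw [this, h3, h5, add_zero]
        zero_mem' := by simp
        neg_mem' := by
          rintro v ⟨h3, h4⟩
          refine ⟨?_, by rw [smul_neg, h4]⟩
          have : -v + x • (-v) + x • x • (-v) = -(v + x • v + x • x • v) := by
            simp only [smul_neg]; abel
          rw [this, h3, neg_zero] }
    by_contra h0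
    push Not at h0
    obtain ⟨v, hv1, hv2, hv3⟩ := h0
    have hB : B ≠ ⊥ := by
      intro h4
      have : v ∈ B := ⟨hv1, hv2⟩
      rw [h4] at this
      exact hv3 this
    obtain ⟨b, hb, hb0, hbT⟩ := exists_fixed (𝒮 := T) h2 hT (B := B) (by
      rintro ⟨t, ht⟩ v ⟨h3, h4⟩
      refine ⟨?_, ?_⟩
      · change t • v + x • t • v + x • x • t • v = 0
        rcases hTx t ht with h5 | h5
        · have h6 : ∀ v : A, x • t • v = t • x • v := fun v => by
            rw [← mul_smul, ← mul_smul, mul_inv_eq_iff_eq_mul.1 h5]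
          rw [h6, h6, ← smul_add, ← smul_add, h3, smul_zero]
        · have h6 : ∀ v : A, x • t • v = t • x • x • v := fun v => by
            have h7 : x⁻¹ * t = t * x := (mul_inv_eq_iff_eq_mul.1 h5).symm
            have h8 : x * t = t * (x * x) := by
              calc x * t = x * (t * x) * x⁻¹ := by group
                _ = t * x⁻¹ := by rw [← h7]; group
                _ = t * (x * x) := by rw [hxinv]
            rw [← mul_smul, h8, mul_smul, mul_smul]
          have h7 : t • v + x • t • v + x • x • t • v = t • (v + x • v + x • x • v) := by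
            rw [h6, h6, hxxx, ← smul_add, ← smul_add, add_right_comm]
          rw [h7, h3, smul_zero]
      · change y • t • v = t • v
        rw [← mul_smul, ← hTy t ht, mul_smul, h4]) hB
    rcases hfx b (fun t ht => hbT ⟨t, ht⟩) hb.1 with h3 | h3
    · exact hb0 h3
    · exact hy1 (hWa y (hMW y hyM) (h3 ▸ hb.2))
  have c4 : ∀ v : A, x • v = v → y • v = v := by
    intro ξ hξ
    have hξ' : x⁻¹ • ξ = ξ := by rw [inv_smul_eq_iff, hξ]
    obtain ⟨l, hl⟩ : ∃ l, l = y • ξ + ξ := ⟨_, rfl⟩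
    have hyξ : y • ξ = ξ + l := by rw [hl, add_comm (y • ξ) ξ, ← add_assoc, h2, zero_add]
    have hzξ : z • ξ = ξ + x • l := by
      rw [hz, mul_smul, mul_smul, hξ', hyξ, smul_add, hξ]
    have hwξ : w • ξ = ξ + x • x • l := by
      rw [hw, mul_smul, mul_smul, hξ', hzξ, smul_add, hξ]
    have key : ∀ a b c d : A, a + b + c = a + d → c = b + d := by
      intro a b c d h3
      have h4 : b + c = d := by
        rw [add_assoc] at h3
        exact add_left_cancel h3
      rw [← h4, ← add_assoc, h2, zero_add]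
    have e1 : y • x • l = l + x • x • l := by
      have h3 : y • z • ξ = w • ξ := by rw [← mul_smul, hyz]
      rw [hzξ, smul_add, hyξ, hwξ] at h3
      exact key _ _ _ _ h3
    have e2 : y • x • x • l = l + x • l := by
      have h3 : y • w • ξ = z • ξ := by rw [← mul_smul, hyw]
      rw [hwξ, smul_add, hyξ, hzξ] at h3
      exact key _ _ _ _ h3
    have e3 : x • l + x • x • l = 0 := by
      apply c3
      · rw [smul_add, smul_add, hxxx]
        have : ∀ a b c : A, a + b + (b + c) + (c + a) = 0 := by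
          intro a b c
          have : a + b + (b + c) + (c + a) = (a + a) + (b + b) + (c + c) := by abel
          rw [this, h2, h2, zero_add, zero_add]; exact h2 c
        exact this _ _ _
      · rw [smul_add, e1, e2]
        have : ∀ a b c : A, a + b + (a + c) = c + b := by
          intro a b c
          have : a + b + (a + c) = (a + a) + (c + b) := by abel
          rw [this, h2, zero_add]
        exact this _ _ _
    have e4 : x • l = x • x • l := by
      have h3 := eq_neg_of_add_eq_zero_left e3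
      rwa [neg_eq_of_add_eq_zero_left (h2 _)] at h3
    have e5 : l = x • l := smul_left_cancel x e4
    have e6 : y • x • l = 0 := by
      rw [e1, ← e4, ← e5, h2]
    have e7 : x • l = 0 := (smul_eq_zero_iff_eq y).1 e6
    have e8 : l = 0 := e5.trans e7
    rw [hyξ, e8, add_zero]
  refine ⟨y, hMW y hyM, z, hMW z hzM, hy1, hz1, hyz', fun v hv => ⟨c4 v hv, ?_⟩⟩
  have hv' : x⁻¹ • v = v := by rw [inv_smul_eq_iff, hv]
  rw [hz, mul_smul, mul_smul, hv', c4 v hv, hv]

end Cfsg.Agent.Omega.IId.SymWr.LTwoLin
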