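import Cfsg.Agent.Omega.IId.SymWr.Pr

/-!
# II.d, `SwBig`, `m = 2`: transport of the duads by `S` (for `LTwo`, bb OMEGA #18061 / #18702)

`F : Fours M μ ν`; the `S`-duads are the `n_x = pr M x (μ x)`, `x.2 ≠ 0`.

* `conj_dd` : `s n_x s⁻¹ = n_{s x}` for `s ∈ S`; `exists_conj_dd` : `S` is transitive on the duads, with `s ∈ S` moving
  the point `x` to the given point `y`; `o2_conj` : the same for `O₂(C_G(n_x))`; `not_le_of` : `¬ O₂(C_G(n_x)) ≤ P`
  for one `x` gives it for all `x`;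
* `dd_eq_iff` : `n_x = n_y ↔ y = x ∨ y = μ x`;
* `DX F` : the type of the duads, `2 * card = k * 2 ^ m` (`two_mul_card_DX`; `card_DX` for `m = 2`);
* `act h F : S →* Perm (DX F)`, `ker_act` : the kernel is `Fours.A h F`; `comm_all_iff`.
-/

set_option autoImplicit false

namespace Cfsg.Agent.Omega.IId.SymWr

open Subgroup Pointwise Cfsg Cfsg.Agent.ZN Cfsg.Agent.Omega.MinPar Cfsg.Agent.Omega.FFThm
open Cfsg.Agent.Omega.Half (Amb amb_of_loc)
open Cfsg.Agent.Omega.Half.SymA (Pt E Mv pm)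

universe u

variable {G : Type u} [Group G] {P V : Subgroup G} {k m : ℕ}

namespace LTwoTr

/-- conjugation of `O₂(C_G(r))` -/
theorem o2_cj [Finite G] {r r' d q : G} (h : d * r * d⁻¹ = r') (hq : q ∈ o2 (centralizer ({r} : Set G))) :
    d * q * d⁻¹ ∈ o2 (centralizer ({r'} : Set G)) := by
  have e1 : (centralizer ({r} : Set G)).map (MulAut.conj d).toMonoidHom = centralizer ({r'} : Set G) := by
    ext x
    rw [mem_centralizer_singleton_iff, ← h]
    constructor
    · rintro ⟨y, hy, rfl⟩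
      have hy' : y * r = r * y := mem_centralizer_singleton_iff.1 hy
      change d * y * d⁻¹ * (d * r * d⁻¹) = d * r * d⁻¹ * (d * y * d⁻¹)
      calc d * y * d⁻¹ * (d * r * d⁻¹) = d * (y * r) * d⁻¹ := by group
        _ = d * (r * y) * d⁻¹ := by rw [hy']
        _ = d * r * d⁻¹ * (d * y * d⁻¹) := by group
    · intro h1
      refine ⟨d⁻¹ * x * d, mem_centralizer_singleton_iff.2 ?_, ?_⟩
      · calc d⁻¹ * x * d * r = d⁻¹ * (x * (d * r * d⁻¹)) * d := by group
          _ = d⁻¹ * (d * r * d⁻¹ * x) * d := by rw [h1]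
          _ = r * (d⁻¹ * x * d) := by group
      · change d * (d⁻¹ * x * d) * d⁻¹ = x
        group
  have e2 : o2 (centralizer ({r'} : Set G)) = (o2 (centralizer ({r} : Set G))).map (MulAut.conj d).toMonoidHom := by
    rw [← e1]
    exact o2_map _ (MulAut.conj d).injective _
  rw [e2]
  exact ⟨q, hq, rfl⟩

section dd

variable {S : Sylow 2 G} {M : SymK (S : Subgroup G) P V ⊥ k m} (h : Sit S P V M) {μ ν : Equiv.Perm (Pt k m)}
  (F : Fours M μ ν)

include h F in
/-- `s n_x s⁻¹ = n_{s x}` -/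
theorem conj_dd {s : G} (hs : s ∈ (S : Subgroup G)) (x : Pt k m) :
    s * pr M x (μ x) * s⁻¹ = pr M (pp M s x) (μ (pp M s x)) := by
  rw [h.conj_pr (h.SP hs) (F.mfst x).symm, F.meqv s hs x]

include h F in
/-- `S` is transitive on the duads -/
theorem exists_conj_dd [Finite G] {x y : Pt k m} (hx : x.2 ≠ 0) (hy : y.2 ≠ 0) :
    ∃ s ∈ (S : Subgroup G), pp M s x = y ∧ s * pr M x (μ x) * s⁻¹ = pr M y (μ y) := by
  obtain ⟨s, hs, h1⟩ := h.trans hx hy
  exact ⟨s, hs, h1, by rw [conj_dd h F hs, h1]⟩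

include h F in
theorem o2_conj [Finite G] {s : G} (hs : s ∈ (S : Subgroup G)) {x : Pt k m} {g : G}
    (hg : g ∈ o2 (centralizer ({pr M x (μ x)} : Set G))) :
    s * g * s⁻¹ ∈ o2 (centralizer ({pr M (pp M s x) (μ (pp M s x))} : Set G)) :=
  o2_cj (conj_dd h F hs x) hg

include h F in
/-- if `O₂(C_G(n_x))` is not in `P` for one point, then for all points -/
theorem not_le_of [Finite G] {x y : Pt k m} (hx : x.2 ≠ 0) (hy : y.2 ≠ 0)
    (hn : ¬ o2 (centralizer ({pr M x (μ x)} : Set G)) ≤ P) :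
    ¬ o2 (centralizer ({pr M y (μ y)} : Set G)) ≤ P := by
  intro h1
  apply hn
  intro g hg
  obtain ⟨s, hs, h2, h3⟩ := exists_conj_dd h F hx hy
  have h4 := h1 (o2_cj h3 hg)
  have h5 : g = s⁻¹ * (s * g * s⁻¹) * s := by group
  rw [h5]
  exact P.mul_mem (P.mul_mem (P.inv_mem (h.SP hs)) h4) (h.SP hs)

include F in
/-- `n_x = n_y ↔ y ∈ {x, μ x}` -/
theorem dd_eq_iff {x y : Pt k m} (hx : x.2 ≠ 0) (hy : y.2 ≠ 0) :
    pr M x (μ x) = pr M y (μ y) ↔ y = x ∨ y = μ x := by
  constructor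
  · intro h1
    by_contra h2
    rw [not_or] at h2
    have h3 := E_pr_of_ne M (F.mfst x).symm h2.1 h2.2
    rw [h1, E_pr_left M (F.mfst y).symm (F.mne y hy).symm] at h3
    exact one_ne_zero h3
  · rintro (h1 | h1)
    · rw [h1]
    · rw [h1, F.msq, pr_comm M (F.mfst x)]

include h F in
/-- `s ∈ S` commutes with `n_x` iff it preserves `{x, μ x}` -/
theorem comm_dd_iff {s : G} (hs : s ∈ (S : Subgroup G)) {x : Pt k m} (hx : x.2 ≠ 0) :
    s * pr M x (μ x) = pr M x (μ x) * s ↔ pp M s x = x ∨ pp M s x = μ x := by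
  have hsx : (pp M s x).2 ≠ 0 := fun h0 => hx ((h.snd hs).1 h0)
  rw [← dd_eq_iff F hx hsx, ← conj_dd h F hs x, eq_comm (a := pr M x (μ x)), mul_inv_eq_iff_eq_mul]

include h F in
/-- **The kernel of `S` on the duads is `A`.** -/
theorem comm_all_iff {s : G} (hs : s ∈ (S : Subgroup G)) :
    (∀ x : Pt k m, x.2 ≠ 0 → s * pr M x (μ x) = pr M x (μ x) * s) ↔ s ∈ Fours.A h F := by
  constructor
  · intro h1
    refine ⟨hs, fun p => ?_⟩
    by_cases hp : p.2 = 0
    · left
      have h2 : ((1 : Fin (2 ^ m + 1)) : Fin (2 ^ m + 1)) ≠ 0 := by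
        have h3 : 2 ≤ 2 ^ m := by
          calc 2 = 2 ^ 1 := by norm_num
            _ ≤ 2 ^ m := Nat.pow_le_pow_right (by norm_num) h.hm1
        intro h4
        have h5 := congrArg Fin.val h4
        rw [Fin.val_one', Fin.val_zero, Nat.mod_eq_of_lt (by omega)] at h5
        exact one_ne_zero h5
      have h3 := (comm_dd_iff h F hs (x := (p.1, 1)) h2).1 (h1 _ h2)
      have h4 : (pp M s (p.1, 1)).1 = p.1 := by
        rcases h3 with h3 | h3
        · rw [h3]
        · rw [h3, F.mfst]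
      have h5 : (pp M s p).1 = p.1 := by
        rw [← h4]
        exact h.fst (h.SP hs) rfl
      exact Prod.ext h5 (((h.snd hs).2 hp).trans hp.symm)
    · exact (comm_dd_iff h F hs hp).1 (h1 p hp)
  · rintro ⟨-, h1⟩ x hx
    exact (comm_dd_iff h F hs hx).2 (h1 x)

/-! ### The type of the duads -/

/-- the duads -/
def DX (_ : Fours M μ ν) : Type u := {v : G // ∃ x : Pt k m, x.2 ≠ 0 ∧ v = pr M x (μ x)}

/-- the duad of a point -/
noncomputable def dd (x : {x : Pt k m // x.2 ≠ 0}) : DX F := ⟨pr M x (μ x), x, x.2, rfl⟩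

theorem dd_val (x : {x : Pt k m // x.2 ≠ 0}) : (dd F x).1 = pr M x (μ x) := rfl

theorem dd_surj : Function.Surjective (dd F) := by
  rintro ⟨v, x, hx, rfl⟩
  exact ⟨⟨x, hx⟩, rfl⟩

instance finite_DX : Finite (DX F) := Finite.of_surjective _ (dd_surj F)

/-- `2 |DX| = k 2 ^ m` -/
theorem two_mul_card_DX : 2 * Nat.card (DX F) = k * 2 ^ m := by
  classical
  have h1 : Nat.card {x : Pt k m // x.2 ≠ 0} = k * 2 ^ m := by
    have e : {x : Pt k m // x.2 ≠ 0} ≃ Fin k × {y : Fin (2 ^ m + 1) // y ≠ 0} :=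
      { toFun := fun x => (x.1.1, ⟨x.1.2, x.2⟩)
        invFun := fun x => ⟨(x.1, x.2.1), x.2.2⟩
        left_inv := fun x => rfl
        right_inv := fun x => rfl }
    rw [Nat.card_congr e, Nat.card_prod, Nat.card_eq_fintype_card, Fintype.card_fin, Nat.card_eq_fintype_card,
      Fintype.card_subtype_compl, Fintype.card_fin, Fintype.card_subtype_eq]
    congr 1
  have h2 : Nat.card {x : Pt k m // x.2 ≠ 0} = ∑ᶠ v : DX F, Nat.card {x : {x : Pt k m // x.2 ≠ 0} // dd F x = v} := by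
    have : Fintype (DX F) := Fintype.ofFinite _
    rw [finsum_eq_sum_of_fintype, ← Nat.card_sigma]
    exact (Nat.card_congr (Equiv.sigmaFiberEquiv (dd F))).symm
  have h3 : ∀ v : DX F, Nat.card {x : {x : Pt k m // x.2 ≠ 0} // dd F x = v} = 2 := by
    intro v
    obtain ⟨x, rfl⟩ := dd_surj F v
    have hμ : (μ x.1).2 ≠ 0 := fun h0 => x.2 (F.mnz.1 h0)
    rw [Nat.card_eq_two_iff]
    refine ⟨⟨x, rfl⟩, ⟨⟨μ x.1, hμ⟩, Subtype.ext ?_⟩, ?_, ?_⟩
    · exact ((dd_eq_iff F x.2 hμ).2 (Or.inr rfl)).symm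
    · intro h4
      have h5 := congrArg (fun y => (y.1.1 : Pt k m)) h4
      exact F.mne x.1 x.2 h5.symm
    · rw [Set.eq_univ_iff_forall]
      rintro ⟨y, hy⟩
      have h5 : pr M y.1 (μ y.1) = pr M x.1 (μ x.1) := congrArg Subtype.val hy
      rcases (dd_eq_iff F x.2 y.2).1 h5.symm with h6 | h6
      · left
        exact Subtype.ext (Subtype.ext h6)
      · right
        exact Subtype.ext (Subtype.ext h6)
  have : Fintype (DX F) := Fintype.ofFinite _
  rw [← h1, h2, finsum_eq_sum_of_fintype, Finset.sum_congr rfl fun v _ => h3 v, Finset.sum_const, Finset.card_univ,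
    ← Nat.card_eq_fintype_card, smul_eq_mul, mul_comm]

theorem card_DX {M : SymK (S : Subgroup G) P V ⊥ k 2} {μ ν : Equiv.Perm (Pt k 2)} (F : Fours M μ ν) :
    Nat.card (DX F) = 2 * k := by
  have := two_mul_card_DX F
  omega

/-- **The action of `S` on the duads.** -/
noncomputable def act (h : Sit S P V M) (F : Fours M μ ν) : (S : Subgroup G) →* Equiv.Perm (DX F) where
  toFun s :=
    { toFun := fun v => ⟨s * v.1 * (s : G)⁻¹, by
        obtain ⟨x, hx, hv⟩ := v.2
        exact ⟨pp M s x, fun h0 => hx ((h.snd s.2).1 h0), by rw [hv, conj_dd h F s.2]⟩⟩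
      invFun := fun v => ⟨(s : G)⁻¹ * v.1 * s, by
        obtain ⟨x, hx, hv⟩ := v.2
        refine ⟨pp M (s : G)⁻¹ x, fun h0 => hx ((h.snd (inv_mem s.2)).1 h0), ?_⟩
        have h1 := conj_dd h F (inv_mem s.2) x
        rw [inv_inv] at h1
        rw [hv, h1]⟩
      left_inv := fun v => Subtype.ext (by
        change (s : G)⁻¹ * (s * v.1 * (s : G)⁻¹) * s = v.1
        group)
      right_inv := fun v => Subtype.ext (by
        change (s : G) * ((s : G)⁻¹ * v.1 * s) * (s : G)⁻¹ = v.1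
        group) }
  map_one' := by
    ext v
    exact Subtype.ext (by
      change (1 : G) * v.1 * (1 : G)⁻¹ = v.1
      group)
  map_mul' s t := by
    ext v
    exact Subtype.ext (by
      change (s * t : G) * v.1 * (s * t : G)⁻¹ = s * (t * v.1 * (t : G)⁻¹) * (s : G)⁻¹
      group)

theorem act_val (s : (S : Subgroup G)) (v : DX F) : (act h F s v).1 = s * v.1 * (s : G)⁻¹ := rfl

/-- **The kernel of the action on the duads is `A`.** -/
theorem ker_act : (act h F).ker = (Fours.A h F).subgroupOf (S : Subgroup G) := by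
  ext s
  rw [MonoidHom.mem_ker, mem_subgroupOf, ← comm_all_iff h F s.2]
  constructor
  · intro h1 x hx
    have h2 : (act h F s (dd F ⟨x, hx⟩)).1 = (dd F ⟨x, hx⟩).1 := by rw [h1]; rfl
    rw [act_val, dd_val, mul_inv_eq_iff_eq_mul] at h2
    exact h2
  · intro h1
    ext v
    obtain ⟨x, rfl⟩ := dd_surj F v
    refine Subtype.ext ?_
    rw [act_val, dd_val, mul_inv_eq_iff_eq_mul]
    exact h1 x x.2

theorem mem_ker_act {s : (S : Subgroup G)} : s ∈ (act h F).ker ↔ (s : G) ∈ Fours.A h F := by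
  rw [ker_act, mem_subgroupOf]

/-- `|A| |image of S| = |S|` -/
theorem card_A_mul [Finite G] : Nat.card (Fours.A h F) * Nat.card (act h F).range = Nat.card (S : Subgroup G) := by
  rw [← Subgroup.index_ker, ker_act, ← Nat.card_congr (subgroupOfEquivOfLe (Fours.A_le h F)).toEquiv]
  exact Subgroup.card_mul_index _

end dd

end LTwoTr

end Cfsg.Agent.Omega.IId.SymWr
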