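import Cfsg.Agent.Omega.IId.SymWr.LMain
import Cfsg.Agent.Omega.IId.SymWr.LTwoLin
import Cfsg.Agent.Omega.IId.SymWr.LTwoCnt
import Cfsg.Agent.Omega.IId.SymWr.LTwoTr
import Cfsg.Agent.Omega.ThmC.TwoMod

/-!
# II.d, `SwBig`: THEOREM L for `m = 2` (bb OMEGA #18061, #18734 (1), (3), (4), #18702 / #18689 the count)

* `exists_two` : if `W = O₂(C_G(n))` is not in `P`, then there are two elements of `W` which centralise the duads of the
  other summands and map `a = n*` to two different conjugates `≠ a`;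
* `LTwo_of` : `O₂(C_G(n)) ≤ P`.
-/

set_option autoImplicit false

namespace Cfsg.Agent.Omega.IId.SymWr

open Subgroup Pointwise Cfsg Cfsg.Agent.ZN Cfsg.Agent.Omega.MinPar Cfsg.Agent.Omega.FFThm
open Cfsg.Agent.Omega.Half (Amb amb_of_loc)
open Cfsg.Agent.Omega.Half.SymA (Pt E Mv pm)
open Cfsg.Agent.MinSimple.VModule (mem_zc zc_le zc_comm zc_sq zc_le_zl le_normalizer_o2 o2_isPGroup o2_le
  normalizer_le_normalizer_zc le_normalizer_zl)
open Cfsg.Agent.Omega.ThmC (Md)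

universe u

variable {G : Type u} [Group G] {P V : Subgroup G} {k : ℕ}

namespace LTwo

/-- the group induced on `Ω₁Z(Q)` by a subgroup `H ≤ N(Q)` -/
noncomputable def img {Q : Subgroup G} (H : Subgroup G) : Subgroup (MulAut ↥(zc Q)) :=
  (H.subgroupOf (normalizer (zc Q : Set G))).map (zc Q).normalizerMonoidHom

theorem mem_img {Q H : Subgroup G} (hH : H ≤ normalizer (zc Q : Set G)) {f : MulAut ↥(zc Q)} :
    f ∈ img (Q := Q) H ↔ ∃ g, ∃ hg : g ∈ H, Md.cjE (hH hg) = f := by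
  constructor
  · rintro ⟨⟨g, hg⟩, h1, rfl⟩
    exact ⟨g, mem_subgroupOf.1 h1, rfl⟩
  · rintro ⟨g, hg, rfl⟩
    exact ⟨⟨g, hH hg⟩, mem_subgroupOf.2 hg, rfl⟩

theorem img_isPGroup {Q H : Subgroup G} (h : IsPGroup 2 H) : IsPGroup 2 (img (Q := Q) H) :=
  (h.comap_of_injective _ Subtype.coe_injective).map _

theorem cjE_mul {Q : Subgroup G} {g g' : G} (hg : g ∈ normalizer (zc Q : Set G)) (hg' : g' ∈ normalizer (zc Q : Set G)) :
    Md.cjE (X := Q) (mul_mem hg hg') = Md.cjE hg * Md.cjE hg' :=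
  map_mul ((zc Q).normalizerMonoidHom) ⟨g, hg⟩ ⟨g', hg'⟩

theorem cjE_inv {Q : Subgroup G} {g : G} (hg : g ∈ normalizer (zc Q : Set G)) :
    Md.cjE (X := Q) (inv_mem hg) = (Md.cjE hg)⁻¹ :=
  map_inv ((zc Q).normalizerMonoidHom) ⟨g, hg⟩

theorem cjE_mul' {Q : Subgroup G} {g g' : G} (hg : g ∈ normalizer (zc Q : Set G))
    (hg' : g' ∈ normalizer (zc Q : Set G)) (h : g * g' ∈ normalizer (zc Q : Set G)) :
    Md.cjE (X := Q) hg * Md.cjE hg' = Md.cjE h := (cjE_mul hg hg').symm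

theorem cjE_conj {Q : Subgroup G} {g g' : G} (hg : g ∈ normalizer (zc Q : Set G))
    (hg' : g' ∈ normalizer (zc Q : Set G)) (h : g * g' * g⁻¹ ∈ normalizer (zc Q : Set G)) :
    Md.cjE (X := Q) hg * Md.cjE hg' * (Md.cjE hg)⁻¹ = Md.cjE h := by
  rw [mul_inv_eq_iff_eq_mul, cjE_mul' hg hg' (mul_mem hg hg'), cjE_mul' h hg (mul_mem h hg)]
  congr 1
  group

end LTwo

open LTwo

section main

variable [Finite G] {S : Sylow 2 G} {M : SymK (S : Subgroup G) P V ⊥ k 2} {μ ν : Equiv.Perm (Pt k 2)}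

omit [Finite G] in
/-- the five points of a summand -/
theorem five (F : Fours M μ ν) {x : Pt k 2} (hx : x.2 ≠ 0) {p : Pt k 2} (hp : p.1 = x.1) :
    p = (x.1, 0) ∨ p = x ∨ p = μ x ∨ p = ν x ∨ p = μ (ν x) := by
  classical
  have hmf := F.mfst
  have hnf := F.nfst
  have hmx : (μ x).2 ≠ 0 := fun h0 => hx (F.mnz.1 h0)
  have hνx : (ν x).2 ≠ 0 := fun h0 => hx (F.nnz.1 h0)
  have hμνx : (μ (ν x)).2 ≠ 0 := fun h0 => hνx (F.mnz.1 h0)
  have d0 : μ x ≠ x := F.mne x hx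
  have d1 : ν x ≠ x := F.nne x hx
  have d2 : ν x ≠ μ x := F.nmu x hx
  have d3 : μ (ν x) ≠ x := by
    intro h0
    have h1 := congrArg μ h0
    rw [F.msq] at h1
    exact d2 h1
  have d4 : μ (ν x) ≠ μ x := fun h0 => d1 (μ.injective h0)
  have d5 : ν x ≠ μ (ν x) := (F.mne _ hνx).symm
  by_contra h0
  push Not at h0
  obtain ⟨h1, h2, h3, h4, h5⟩ := h0
  have hp2 : p.2 ≠ 0 := fun h6 => h1 (Prod.ext hp h6)
  -- six elements of `Fin 5`
  have e : ∀ {q r : Pt k 2}, q.1 = x.1 → r.1 = x.1 → q ≠ r → q.2 ≠ r.2 := fun hq hr hne h6 =>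
    hne (Prod.ext (hq.trans hr.symm) h6)
  have hc : ({0, x.2, (μ x).2, (ν x).2, (μ (ν x)).2, p.2} : Finset (Fin (2 ^ 2 + 1))).card = 6 := by
    have k1 := e (hmf x) rfl d0
    have k2 := e (hnf x) rfl d1
    have k3 := e ((hmf _).trans (hnf x)) rfl d3
    have k4 := e hp rfl h2
    have k5 := e (hnf x) (hmf x) d2
    have k6 := e ((hmf _).trans (hnf x)) (hmf x) d4
    have k7 := e hp (hmf x) h3
    have k8 := e ((hmf _).trans (hnf x)) (hnf x) d5.symm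
    have k9 := e hp (hnf x) h4
    have k10 := e hp ((hmf _).trans (hnf x)) h5
    rw [Finset.card_insert_of_notMem, Finset.card_insert_of_notMem, Finset.card_insert_of_notMem,
      Finset.card_insert_of_notMem, Finset.card_insert_of_notMem, Finset.card_singleton]
    all_goals simp only [Finset.mem_insert, Finset.mem_singleton, not_or]
    · exact k10.symm
    · exact ⟨k8.symm, k9.symm⟩
    · exact ⟨k5.symm, k6.symm, k7.symm⟩
    · exact ⟨k1.symm, k2.symm, k3.symm, k4.symm⟩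
    · exact ⟨hx.symm, hmx.symm, hνx.symm, hμνx.symm, hp2.symm⟩
  have := Finset.card_le_univ ({0, x.2, (μ x).2, (ν x).2, (μ (ν x)).2, p.2} : Finset (Fin (2 ^ 2 + 1)))
  rw [hc, Fintype.card_fin] at this
  omega

theorem exists_two (h : Sit S P V M) (F : Fours M μ ν) {x : Pt k 2} (hx : x.2 ≠ 0) (hT : TT h F x)
    (hWP : ¬ o2 (centralizer ({pr M x (μ x)} : Set G)) ≤ P) :
    ∃ y ∈ o2 (centralizer ({pr M x (μ x)} : Set G)), ∃ y' ∈ o2 (centralizer ({pr M x (μ x)} : Set G)),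
      (∀ q : Pt k 2, q.1 ≠ x.1 → y * pr M q (μ q) = pr M q (μ q) * y ∧ y' * pr M q (μ q) = pr M q (μ q) * y') ∧
      y * pr M (ν x) (μ (ν x)) * y⁻¹ ≠ pr M (ν x) (μ (ν x)) ∧
      y' * pr M (ν x) (μ (ν x)) * y'⁻¹ ≠ pr M (ν x) (μ (ν x)) ∧
      y * pr M (ν x) (μ (ν x)) * y⁻¹ ≠ y' * pr M (ν x) (μ (ν x)) * y'⁻¹ := by
  classical
  have hHH := HH_all h F x.1
  set n := pr M x (μ x) with hn
  set C := centralizer ({n} : Set G) with hC
  set W := o2 C with hW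
  obtain ⟨hT1, hT2⟩ := hT
  have hmf := F.mfst
  have hnf := F.nfst
  have hmx : (μ x).2 ≠ 0 := fun h0 => hx (F.mnz.1 h0)
  have hνx : (ν x).2 ≠ 0 := fun h0 => hx (F.nnz.1 h0)
  have hμνx : (μ (ν x)).2 ≠ 0 := fun h0 => hνx (F.mnz.1 h0)
  have hnV : n ∈ V := pr_mem M _ _
  have hmemC : ∀ g, g ∈ C ↔ g * n = n * g := by
    intro g
    rw [hC, mem_centralizer_singleton_iff]
  have hVQ : V ≤ o2 P := h.VZ.trans (zc_le _)
  have hVcQ : ∀ q ∈ o2 P, ∀ v ∈ V, q * v = v * q := fun q hq v hv => (mem_zc.1 (h.VZ hv)).2.1 q hq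
  have hWC : W ≤ C := o2_le C
  have hCW : C ≤ normalizer (W : Set G) := le_normalizer_o2 C
  have hW2 : IsPGroup 2 W := o2_isPGroup C
  have hAcomm : ∀ t ∈ Fours.A h F, ∀ y : Pt k 2, t * pr M y (μ y) = pr M y (μ y) * t := by
    intro t ht y
    refine h.comm_pr (h.SP ht.1) (hmf y).symm ?_
    have h1 := F.FA_comm_mu ht.2 y
    rcases ht.2 y with h2 | h2
    · left; exact ⟨h2, by rw [h1, h2]⟩
    · right; exact ⟨h2, by rw [h1, h2, F.msq]⟩
  have hAC : Fours.A h F ≤ C := fun t ht => (hmemC t).2 (hAcomm t ht x)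
  have hScomm : ∀ s ∈ (S : Subgroup G), (∀ p : Pt k 2, p.1 = x.1 → pp M s p = p) → ∀ y : Pt k 2, y.1 = x.1 →
      s * pr M y (μ y) = pr M y (μ y) * s := by
    intro s hs h1 y hy
    exact h.comm_pr (h.SP hs) (hmf y).symm (Or.inl ⟨h1 y hy, h1 _ ((hmf y).trans hy)⟩)
  -- `X₀`
  set X := W ⊓ P with hX
  have hXd : ∀ g ∈ X, ∀ a b : Pt k 2, a.1 = b.1 → a ≠ x → a ≠ μ x → b ≠ x → b ≠ μ x →
      g * pr M a b = pr M a b * g := by
    intro g hg a b hab h1 h2 h3 h4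
    refine h.comm_pr hg.2 hab (Or.inl ?_)
    rcases hT2 g hg.1 hg.2 with h5 | h5
    · rw [h5]; exact ⟨rfl, rfl⟩
    · rw [h5, Equiv.swap_apply_of_ne_of_ne h1 h2, Equiv.swap_apply_of_ne_of_ne h3 h4]; exact ⟨rfl, rfl⟩
  have d1 : ν x ≠ x := F.nne x hx
  have d2 : ν x ≠ μ x := F.nmu x hx
  have d3 : μ (ν x) ≠ x := by
    intro h0
    have h1 := congrArg μ h0
    rw [F.msq] at h1
    exact d2 h1
  have d4 : μ (ν x) ≠ μ x := fun h0 => d1 (μ.injective h0)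
  have d5 : ν x ≠ μ (ν x) := (F.mne _ hνx).symm
  have hXA : X ≤ Fours.A h F := by
    intro g hg
    refine hT1 g hg.1 (ν x) (μ (ν x)) (hnf x) ((hmf _).trans (hnf x)) d5 d1 d2 d3 d4 ?_
    exact hXd g hg _ _ (hmf _).symm d1 d2 d3 d4
  have hAX : ∀ g ∈ W, g ∈ Fours.A h F → g ∈ X := fun g hg hgA => ⟨hg, h.SP hgA.1⟩
  -- `Q⁺`
  set Q := o2 P ⊔ X with hQ
  have hQA : Q ≤ Fours.A h F := sup_le (Fours.Q_le_A h F) hXA
  have hQC : Q ≤ C := hQA.trans hAC
  have hQ2 : IsPGroup 2 Q := S.isPGroup'.to_le (hQA.trans (Fours.A_le h F))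
  have hPX : C ⊓ P ≤ normalizer (X : Set G) := by
    intro g hg
    refine MinSimple.VModule.mem_normalizer_of_map_le ?_
    rintro _ ⟨a, ha, rfl⟩
    change g * a * g⁻¹ ∈ X
    exact ⟨(mem_normalizer_iff.1 (hCW hg.1) a).1 ha.1, P.mul_mem (P.mul_mem hg.2 ha.2) (P.inv_mem hg.2)⟩
  have hPQ : C ⊓ P ≤ normalizer (Q : Set G) := by
    intro g hg
    refine MinSimple.VModule.mem_normalizer_of_map_le ?_
    rw [hQ, Subgroup.map_sup]
    apply sup_le_sup
    · rintro _ ⟨a, ha, rfl⟩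
      exact (mem_normalizer_iff.1 (le_normalizer_o2 P hg.2) a).1 ha
    · rintro _ ⟨a, ha, rfl⟩
      exact (mem_normalizer_iff.1 (hPX hg) a).1 ha
  have hWQ : ∀ g ∈ W, g ∈ Q → g ∈ X := fun g hg hgQ => hAX g hg (hQA hgQ)
  -- `b₀ ∈ W` normalising `Q⁺`, not in `P`
  set W1 := W ⊓ normalizer (Q : Set G) with hW1
  have hnot1 : ¬ W1 ≤ P := by
    intro h0
    have hlt : Q < Q ⊔ W := by
      refine lt_of_le_of_ne le_sup_left fun h1 => hWP ?_
      have h2 : W ≤ Q := by rw [h1]; exact le_sup_right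
      exact h2.trans (hQA.trans ((Fours.A_le h F).trans h.SP))
    have h2 : IsPGroup 2 (Q ⊔ W : Subgroup G) := hQ2.to_sup_of_normal_right' hW2 (hQC.trans hCW)
    obtain ⟨s, hs, hsn, hsQ, -⟩ := MinSimple.Choice97.exists_normalizing h2 hlt
    obtain ⟨q, hq, w, hw, rfl⟩ := mem_sup_norm (hQC.trans hCW) hs
    have hwn : w ∈ normalizer (Q : Set G) := by
      have h3 := (normalizer (Q : Set G)).mul_mem ((normalizer (Q : Set G)).inv_mem (le_normalizer hq)) hsn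
      rwa [inv_mul_cancel_left] at h3
    exact hsQ (mul_mem hq (mem_sup_right ⟨hw, h0 ⟨hw, hwn⟩⟩))
  -- `T_n`
  set T := (S : Subgroup G) ⊓ C with hT
  have hTP : T ≤ C ⊓ P := fun t ht => ⟨ht.2, h.SP ht.1⟩
  have hT2' : IsPGroup 2 T := S.isPGroup'.to_le inf_le_left
  have hPW1 : ∀ g ∈ C ⊓ P, ∀ a ∈ W1, g * a * g⁻¹ ∈ W1 := by
    intro t ht a ha
    have h1 := hPQ ht
    exact ⟨(mem_normalizer_iff.1 (hCW ht.1) a).1 ha.1,
      (normalizer (Q : Set G)).mul_mem ((normalizer (Q : Set G)).mul_mem h1 ha.2)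
        ((normalizer (Q : Set G)).inv_mem h1)⟩
  have hXT : X ≤ T := fun g hg => ⟨(hXA hg).1, hWC hg.1⟩
  -- `Z⁺`
  set Z := zc Q with hZ
  have hZZ : ∀ y ∈ Z, y ∈ zc (o2 P) := by
    intro y hy
    obtain ⟨h1, h2, h3⟩ := mem_zc.1 hy
    have h4 : y ∈ o2 P := h.cQ (mem_centralizer_iff.2 fun q hq => h2 q (mem_sup_left hq))
    exact mem_zc.2 ⟨h4, fun q hq => h2 q (mem_sup_left hq), h3⟩
  have hXZ : ∀ g ∈ X, ∀ y ∈ Z, g * y = y * g := fun g hg y hy => (mem_zc.1 hy).2.1 g (mem_sup_right hg)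
  have hdZ : ∀ a c : Pt k 2, a.1 = c.1 → a ≠ x → a ≠ μ x → c ≠ x → c ≠ μ x → pr M a c ∈ Z := by
    intro a c hac h1 h2 h3 h4
    refine mem_zc.2 ⟨mem_sup_left (hVQ (pr_mem M _ _)), ?_, by rw [pow_two]; exact h.Vsq (pr_mem M _ _)⟩
    have h5 : Q ≤ centralizer ({pr M a c} : Set G) := by
      refine sup_le (fun q hq => mem_centralizer_singleton_iff.2 (hVcQ q hq _ (pr_mem M _ _))) fun q hq => ?_
      exact mem_centralizer_singleton_iff.2 (hXd q hq a c hac h1 h2 h3 h4)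
    intro q hq
    exact mem_centralizer_singleton_iff.1 (h5 hq)
  -- `a`
  set q0 := pr M (ν x) (μ (ν x)) with hq0
  have hq0Z : q0 ∈ Z := hdZ _ _ (hmf _).symm d1 d2 d3 d4
  have hTpt : ∀ t ∈ T, pp M t x = x ∨ pp M t x = μ x := by
    intro t ht
    have h1 : E M n (pp M t x) = 1 := by
      rw [(h.comm_iff (h.SP ht.1) hnV).1 ((hmemC t).1 ht.2) x]
      exact E_pr_left M (hmf x).symm (F.mne x hx).symm
    by_contra h0
    push Not at h0
    rw [E_pr_of_ne M (hmf x).symm h0.1 h0.2] at h1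
    exact zero_ne_one h1
  have hTν : ∀ t ∈ T, pp M t (ν x) = ν x ∨ pp M t (ν x) = μ (ν x) := by
    intro t ht
    rcases hTpt t ht with h2 | h2
    · rcases F.neqv t ht.1 x with h5 | h5
      · left; rw [h5, h2]
      · right; rw [h5, h2]
    · rcases F.neqv t ht.1 x with h5 | h5
      · right; rw [h5, h2, F.comm]
      · left; rw [h5, h2, ← F.comm, F.msq]
  have hTq0 : ∀ t ∈ T, t * q0 = q0 * t := by
    intro t ht
    refine h.comm_pr (h.SP ht.1) (hmf _).symm ?_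
    have h3 : pp M t (μ (ν x)) = μ (pp M t (ν x)) := F.meqv t ht.1 _
    rcases hTν t ht with h4 | h4
    · left; exact ⟨h4, by rw [h3, h4]⟩
    · right; exact ⟨h4, by rw [h3, h4, F.msq]⟩
  have hAT : Fours.A h F ≤ T := fun t ht => ⟨ht.1, hAC ht⟩
  have hST : ∀ s ∈ (S : Subgroup G), (∀ p : Pt k 2, p.1 = x.1 → pp M s p = p) → s ∈ T := fun s hs h1 =>
    ⟨hs, (hmemC s).2 (hScomm s hs h1 x rfl)⟩
  -- the 3-cycle `(0, νx, μνx)`
  set e0 : Pt k 2 := (x.1, 0) with he0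
  have h01 : e0 ≠ ν x := fun h0 => hνx (by rw [← h0])
  have h02 : e0 ≠ μ (ν x) := fun h0 => hμνx (by rw [← h0])
  have h0x : e0 ≠ x := fun h0 => hx (by rw [← h0])
  have h0m : e0 ≠ μ x := fun h0 => hmx (by rw [← h0])
  have f01 : e0.1 = (ν x).1 := (hnf x).symm
  have f12 : (ν x).1 = (μ (ν x)).1 := (hmf _).symm
  obtain ⟨g, hg, c1, c2, c3, c4⟩ := h.exists_cyc (a := e0) (b := ν x) (c := μ (ν x)) f01 f12 h01 d5 h02
  have hgB : ∀ p : Pt k 2, p.1 ≠ x.1 → pp M g p = p := by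
    intro p hp
    refine c4 p ?_ ?_ ?_
    · rintro rfl; exact hp rfl
    · rintro rfl; exact hp (hnf x)
    · rintro rfl; exact hp ((hmf _).trans (hnf x))
  have gx : pp M g x = x := c4 x h0x.symm d1.symm d3.symm
  have gmx : pp M g (μ x) = μ x := c4 _ h0m.symm d2.symm d4.symm
  have hgn : g * n = n * g := h.comm_pr hg (hmf x).symm (Or.inl ⟨gx, gmx⟩)
  have hgCP : g ∈ C ⊓ P := ⟨(hmemC g).2 hgn, hg⟩
  -- the normaliser of `Z`
  have hNP : C ⊓ P ≤ normalizer (zc Q : Set G) := hPQ.trans (normalizer_le_normalizer_zc _)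
  have hNT : T ≤ normalizer (zc Q : Set G) := hTP.trans hNP
  have hNW : W1 ≤ normalizer (zc Q : Set G) := inf_le_right.trans (normalizer_le_normalizer_zc _)
  -- elements of `P` with the same permutation act in the same way
  have hsame : ∀ a b : G, ∀ (ha : a ∈ C ⊓ P) (hb : b ∈ C ⊓ P), pp M a = pp M b →
      Md.cjE (X := Q) (hNP ha) = Md.cjE (hNP hb) := by
    intro a b ha hb hab
    refine Md.ext_smul fun v => Md.ext ?_
    rw [Md.val_cjE, Md.val_cjE]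
    have h1 : b⁻¹ * a ∈ P ⊓ centralizer (V : Set G) := by
      refine mem_inf.2 ⟨P.mul_mem (P.inv_mem hb.2) ha.2, ?_⟩
      rw [← h.eq_one_iff (P.mul_mem (P.inv_mem hb.2) ha.2), h.mul (P.inv_mem hb.2) ha.2, h.inv hb.2, hab,
        inv_mul_cancel]
    have h2 := mem_centralizer_iff.1 (h.cZ h1) v.val (hZZ _ (Md.val_mem v))
    calc a * v.val * a⁻¹ = b * ((b⁻¹ * a) * v.val) * a⁻¹ := by group
      _ = b * (v.val * (b⁻¹ * a)) * a⁻¹ := by rw [h2]
      _ = b * v.val * b⁻¹ := by group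
  set xb : MulAut ↥(zc Q) := Md.cjE (hNP hgCP) with hxb
  have hx3 : xb * xb * xb = 1 := by
    have h1 : pp M (g * g * g) = pp M 1 := by
      rw [h.mul (P.mul_mem hg hg) hg, h.mul hg hg, h.one]
      ext1 p
      rw [Equiv.Perm.mul_apply, Equiv.Perm.mul_apply, Equiv.Perm.one_apply]
      by_cases p1 : p = e0
      · rw [p1, c1, c2, c3]
      · by_cases p2 : p = ν x
        · rw [p2, c2, c3, c1]
        · by_cases p3 : p = μ (ν x)
          · rw [p3, c3, c1, c2]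
          · rw [c4 p p1 p2 p3, c4 p p1 p2 p3, c4 p p1 p2 p3]
    have h2 := hsame _ _ ((C ⊓ P).mul_mem ((C ⊓ P).mul_mem hgCP hgCP) hgCP) (one_mem _) h1
    have h3 : Md.cjE (X := Q) (hNP (one_mem (C ⊓ P))) = 1 := map_one ((zc Q).normalizerMonoidHom)
    rw [h3] at h2
    rw [← h2, hxb, cjE_mul' _ _ (hNP ((C ⊓ P).mul_mem hgCP hgCP)), cjE_mul']
  have hTx : ∀ t ∈ img (Q := Q) T, t * xb * t⁻¹ = xb ∨ t * xb * t⁻¹ = xb⁻¹ := by
    intro t' ht'
    obtain ⟨t, ht, rfl⟩ := (mem_img hNT).1 ht'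
    have htCP := hTP ht
    have htP := htCP.2
    have k3 : pp M t (μ (ν x)) = μ (pp M t (ν x)) := F.meqv t ht.1 _
    have k0 : pp M t e0 = e0 := by
      have h1 : (pp M t e0).2 = 0 := (h.snd ht.1).2 rfl
      have h2 : (pp M t e0).1 = x.1 := by
        rw [h.fst htP (p := e0) (q := x) rfl]
        rcases hTpt t ht with h3 | h3
        · rw [h3]
        · rw [h3, hmf]
      exact Prod.ext h2 h1
    have hrest : ∀ p, p ≠ e0 → p ≠ ν x → p ≠ μ (ν x) → pp M t p ≠ e0 ∧ pp M t p ≠ ν x ∧ pp M t p ≠ μ (ν x) := by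
      intro p p1 p2 p3
      refine ⟨fun h0 => p1 ((pp M t).injective (h0.trans k0.symm)), ?_, ?_⟩
      · intro h0
        rcases hTν t ht with h4 | h4
        · exact p2 ((pp M t).injective (h0.trans h4.symm))
        · refine p3 ((pp M t).injective (h0.trans ?_))
          rw [k3, h4, F.msq]
      · intro h0
        rcases hTν t ht with h4 | h4
        · refine p3 ((pp M t).injective (h0.trans ?_))
          rw [k3, h4]
        · exact p2 ((pp M t).injective (h0.trans h4.symm))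
    have hconj : t * g * t⁻¹ ∈ C ⊓ P := (C ⊓ P).mul_mem ((C ⊓ P).mul_mem htCP hgCP) ((C ⊓ P).inv_mem htCP)
    have hcE : Md.cjE (hNT ht) * xb * (Md.cjE (hNT ht))⁻¹ = Md.cjE (X := Q) (hNP hconj) :=
      cjE_conj _ _ _
    have hpc : pp M (t * g * t⁻¹) = pp M t * pp M g * (pp M t)⁻¹ := h.conj htP hg
    rcases hTν t ht with h4 | h4
    · left
      rw [hcE]
      refine hsame _ _ hconj hgCP ?_
      rw [hpc, mul_inv_eq_iff_eq_mul]
      ext1 p
      rw [Equiv.Perm.mul_apply, Equiv.Perm.mul_apply]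
      by_cases p1 : p = e0
      · rw [p1, k0, c1, h4]
      · by_cases p2 : p = ν x
        · rw [p2, c2, h4, c2, k3, h4]
        · by_cases p3 : p = μ (ν x)
          · rw [p3, c3, k3, h4, c3, k0]
          · obtain ⟨r1, r2, r3⟩ := hrest p p1 p2 p3
            rw [c4 p p1 p2 p3, c4 _ r1 r2 r3]
    · right
      rw [hcE]
      have h5 : xb⁻¹ = Md.cjE (X := Q) (hNP ((C ⊓ P).inv_mem hgCP)) := (cjE_inv _).symm
      rw [h5]
      refine hsame _ _ hconj ((C ⊓ P).inv_mem hgCP) ?_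
      rw [hpc, h.inv hg, mul_inv_eq_iff_eq_mul, eq_inv_mul_iff_mul_eq]
      ext1 p
      rw [Equiv.Perm.mul_apply, Equiv.Perm.mul_apply]
      have k5 : pp M t (μ (ν x)) = ν x := by rw [k3, h4, F.msq]
      by_cases p1 : p = e0
      · rw [p1, k0, c1, h4, c3]
      · by_cases p2 : p = ν x
        · rw [p2, c2, h4, k5, c2]
        · by_cases p3 : p = μ (ν x)
          · rw [p3, c3, k5, k0, c1]
          · obtain ⟨r1, r2, r3⟩ := hrest p p1 p2 p3
            rw [c4 p p1 p2 p3, c4 _ r1 r2 r3]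
  -- `a`
  set a : Md Q := Md.mk q0 hq0Z with ha
  have hTa : ∀ t ∈ img (Q := Q) T, t • a = a := by
    intro t' ht'
    obtain ⟨t, ht, rfl⟩ := (mem_img hNT).1 ht'
    refine Md.ext ?_
    rw [Md.val_cjE, ha, Md.val_mk, hTq0 t ht, mul_inv_cancel_right]
  have hWa : ∀ w ∈ img (Q := Q) W1, w • a = a → w = 1 := by
    intro w' hw' hwa
    obtain ⟨w, hw, rfl⟩ := (mem_img hNW).1 hw'
    have h1 : w * q0 = q0 * w := by
      have h2 := congrArg Md.val hwa
      rw [Md.val_cjE, ha, Md.val_mk] at h2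
      exact mul_inv_eq_iff_eq_mul.1 h2
    have h2 : w ∈ X := hAX w hw.1 (hT1 w hw.1 (ν x) (μ (ν x)) (hnf x) ((hmf _).trans (hnf x)) d5 d1 d2 d3 d4 h1)
    refine Md.faith fun v => Md.ext ?_
    rw [Md.val_cjE, hXZ w h2 _ (Md.val_mem v), mul_inv_cancel_right]
  have hxa : a + xb • a + xb • xb • a = 0 := by
    refine Md.ext ?_
    have f20 : (μ (ν x)).1 = e0.1 := f12.symm.trans f01.symm
    rw [Md.val_add, Md.val_add, Md.val_zero, Md.val_cjE, Md.val_cjE, Md.val_cjE, ha, Md.val_mk, hq0,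
      h.conj_pr hg f12, c2, c3, h.conj_pr hg f20, c3, c1, pr_mul M f12 f20, pr_comm M f01,
      h.Vsq (pr_mem M _ _)]
  have hfx : ∀ v : Md Q, (∀ t ∈ img (Q := Q) T, t • v = v) → v + xb • v + xb • xb • v = 0 → v = 0 ∨ v = a := by
    intro v hv htr
    have hvZ : v.val ∈ zc (o2 P) := hZZ _ (Md.val_mem v)
    have hTv : ∀ t ∈ T, t * v.val = v.val * t := by
      intro t ht
      have h1 := congrArg Md.val (hv _ ((mem_img hNT).2 ⟨t, ht, rfl⟩))
      rw [Md.val_cjE] at h1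
      exact mul_inv_eq_iff_eq_mul.1 h1
    obtain ⟨v0, hv0V, φ, hφZ, hv1, hv0, hvμ, hφ, hvφ⟩ := hHH v.val hvZ (fun t ht => hTv t (hAT ht))
      (fun s hs h1 => hTv s (hST s hs h1))
    have hZcomm : ∀ a ∈ zc (o2 P), ∀ c ∈ zc (o2 P), a * c = c * a := fun a ha c hc => Sit.zz_comm ha hc
    have hgφ : g * φ * g⁻¹ = φ := by rw [hφ g hg hgB, mul_inv_cancel_right]
    obtain ⟨v2, hv2⟩ : ∃ v2, v2 = g * v0 * g⁻¹ := ⟨_, rfl⟩
    obtain ⟨v3, hv3⟩ : ∃ v3, v3 = g * v2 * g⁻¹ := ⟨_, rfl⟩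
    have hv2V : v2 ∈ V := hv2 ▸ h.amb.conj_mem hg hv0V
    have hv3V : v3 ∈ V := hv3 ▸ h.amb.conj_mem hg hv2V
    have e7 : g * v.val * g⁻¹ = v2 * φ := by
      rw [hvφ]
      calc g * (v0 * φ) * g⁻¹ = (g * v0 * g⁻¹) * (g * φ * g⁻¹) := by group
        _ = v2 * φ := by rw [hgφ, hv2]
    have e8 : g * (g * v.val * g⁻¹) * g⁻¹ = v3 * φ := by
      rw [e7]
      calc g * (v2 * φ) * g⁻¹ = (g * v2 * g⁻¹) * (g * φ * g⁻¹) := by group
        _ = v3 * φ := by rw [hgφ, hv3]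
    have e6 : v.val * (g * v.val * g⁻¹) * (g * (g * v.val * g⁻¹) * g⁻¹) = 1 := by
      have h1 := congrArg Md.val htr
      rwa [Md.val_add, Md.val_add, Md.val_zero, Md.val_cjE, Md.val_cjE, Md.val_cjE] at h1
    have hφφ : φ * φ = 1 := Sit.zz_sq hφZ
    have e9 : v0 * v2 * v3 * φ = 1 := by
      rw [e8, e7, hvφ] at e6
      have k1 := hZcomm _ hφZ _ (h.VZ hv2V)
      have k2 := hZcomm _ hφZ _ (h.VZ hv3V)
      calc v0 * v2 * v3 * φ = v0 * v2 * v3 * φ * (φ * φ) := by rw [hφφ, mul_one]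
        _ = v0 * v2 * (v3 * φ) * φ * φ := by group
        _ = v0 * v2 * (φ * v3) * φ * φ := by rw [k2]
        _ = v0 * (v2 * φ) * (v3 * φ) * φ := by group
        _ = v0 * (φ * v2) * (φ * v3) * φ := by rw [k1, k2]
        _ = v0 * φ * (v2 * φ) * (v3 * φ) := by group
        _ = 1 := e6
    have e10 : φ = v0 * v2 * v3 := by
      have k1 := mul_eq_one_iff_eq_inv.1 e9
      rw [k1, eq_comm]
      exact inv_eq_of_mul_eq_one_left hφφ
    have hEg : ∀ a ∈ V, (∀ p : Pt k 2, p.1 ≠ x.1 → E M a p = 0) →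
        ∀ p : Pt k 2, p.1 ≠ x.1 → E M (g * a * g⁻¹) p = 0 := by
      intro a ha h1 p hp
      have h2 := E_conj (M := M) hg ha p
      rw [hgB p hp] at h2
      rw [h2, h1 p hp]
    have hv21 := hEg v0 hv0V hv1
    rw [← hv2] at hv21
    have hv31 := hEg v2 hv2V hv21
    rw [← hv3] at hv31
    have hφV : φ ∈ V := by rw [e10]; exact V.mul_mem (V.mul_mem hv0V hv2V) hv3V
    have hφone : φ = 1 := by
      refine h.eq_one_of_fixed (l := x.1) hφV (fun p hp => ?_) hφ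
      rw [e10, Half.SymA.E_mul M (V.mul_mem hv0V hv2V) hv3V, Half.SymA.E_mul M hv0V hv2V, hv1 p hp, hv21 p hp,
        hv31 p hp]
      rfl
    rw [hφone] at e10
    have hvv0 : v.val = v0 := by rw [hvφ, hφone, mul_one]
    have hEx : E M v0 x = 0 := by
      have k2 : E M v2 x = E M v0 x := by
        have := E_conj (M := M) hg hv0V x
        rwa [gx, ← hv2] at this
      have k3 : E M v3 x = E M v2 x := by
        have := E_conj (M := M) hg hv2V x
        rwa [gx, ← hv3] at this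
      have k4 : E M (v0 * v2 * v3) x = 0 := by rw [← e10, Half.SymA.E_one]
      rw [Half.SymA.E_mul M (V.mul_mem hv0V hv2V) hv3V, Half.SymA.E_mul M hv0V hv2V, k3, k2] at k4
      have k5 : ∀ a : ZMod 2, a + a + a = 0 → a = 0 := by decide
      exact k5 _ k4
    rcases Half.SymA.zmod2 (E M v0 (ν x)) with h1 | h1
    · left
      refine Md.ext ?_
      rw [hvv0, Md.val_zero]
      refine Half.SymA.eq_one M hv0V fun p => ?_
      by_cases hp : p.1 = x.1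
      · rcases five F hx hp with rfl | rfl | rfl | rfl | rfl
        · exact hv0
        · exact hEx
        · rw [hvμ, hEx]
        · exact h1
        · rw [hvμ, h1]
      · exact hv1 p hp
    · right
      refine Md.ext ?_
      rw [hvv0, ha, Md.val_mk]
      refine Half.SymA.inj M hv0V (pr_mem M _ _) fun p => ?_
      by_cases hp : p.1 = x.1
      · rcases five F hx hp with rfl | rfl | rfl | rfl | rfl
        · rw [hv0, E_pr_of_ne M f12 h01 h02]
        · rw [hEx, E_pr_of_ne M f12 d1.symm d3.symm]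
        · rw [hvμ, hEx, E_pr_of_ne M f12 d2.symm d4.symm]
        · rw [h1, E_pr_left M f12 d5]
        · rw [hvμ, h1, E_pr_right M f12 d5]
      · rw [hv1 p hp, E_pr_of_ne M f12]
        · rintro rfl; exact hp (hnf x)
        · rintro rfl; exact hp ((hmf _).trans (hnf x))
  have hTW : img (Q := Q) T ≤ normalizer (img (Q := Q) W1 : Set (MulAut ↥(zc Q))) := by
    intro t' ht'
    obtain ⟨t, ht, rfl⟩ := (mem_img hNT).1 ht'
    refine MinSimple.VModule.mem_normalizer_of_map_le ?_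
    rintro _ ⟨w', hw', rfl⟩
    obtain ⟨w, hw, rfl⟩ := (mem_img hNW).1 hw'
    exact (mem_img hNW).2 ⟨t * w * t⁻¹, hPW1 t (hTP ht) w hw, (cjE_conj _ _ _).symm⟩
  have hxW : xb ∈ normalizer (img (Q := Q) W1 : Set (MulAut ↥(zc Q))) := by
    refine MinSimple.VModule.mem_normalizer_of_map_le ?_
    rintro _ ⟨w', hw', rfl⟩
    obtain ⟨w, hw, rfl⟩ := (mem_img hNW).1 hw'
    exact (mem_img hNW).2 ⟨g * w * g⁻¹, hPW1 g hgCP w hw, (cjE_conj _ _ _).symm⟩
  have hne : img (Q := Q) W1 ≠ ⊥ := by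
    intro h0
    apply hnot1
    intro w hw
    have h1 : Md.cjE (X := Q) (hNW hw) ∈ img (Q := Q) W1 := (mem_img hNW).2 ⟨w, hw, rfl⟩
    rw [h0, mem_bot] at h1
    have h2 : w * q0 = q0 * w := by
      have h3 : Md.cjE (X := Q) (hNW hw) • a = a := by rw [h1, one_smul]
      have h4 := congrArg Md.val h3
      rw [Md.val_cjE, ha, Md.val_mk] at h4
      exact mul_inv_eq_iff_eq_mul.1 h4
    exact (hAX w hw.1 (hT1 w hw.1 (ν x) (μ (ν x)) (hnf x) ((hmf _).trans (hnf x)) d5 d1 d2 d3 d4 h2)).2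
  obtain ⟨y', hy', z', hz', hy1, hz1, hyz, hfix⟩ := LTwoLin.main (N := MulAut ↥(zc Q)) (A := Md Q) Md.two
    (img_isPGroup hT2') (img_isPGroup (hW2.to_le inf_le_left)) hne hTW hxW hx3 hTx hfx hTa hxa hWa
  obtain ⟨y, hy, rfl⟩ := (mem_img hNW).1 hy'
  obtain ⟨z, hz, rfl⟩ := (mem_img hNW).1 hz'
  refine ⟨y, hy.1, z, hz.1, ?_, ?_, ?_, ?_⟩
  · intro q hq
    have hne1 : ∀ p : Pt k 2, p.1 = x.1 → q ≠ p := by
      rintro p hp rfl
      exact hq hp
    have hne2 : ∀ p : Pt k 2, p.1 = x.1 → μ q ≠ p := by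
      rintro p hp rfl
      exact hq ((hmf q).symm.trans hp)
    have hqZ : pr M q (μ q) ∈ Z := hdZ _ _ (hmf q).symm (hne1 _ rfl) (hne1 _ (hmf x)) (hne2 _ rfl) (hne2 _ (hmf x))
    have h1 : xb • Md.mk (X := Q) _ hqZ = Md.mk _ hqZ := by
      refine Md.ext ?_
      rw [Md.val_cjE, Md.val_mk, h.conj_pr hg (hmf q).symm, hgB q hq, hgB _ (by rw [hmf]; exact hq)]
    obtain ⟨h2, h3⟩ := hfix _ h1
    have h4 := congrArg Md.val h2
    have h5 := congrArg Md.val h3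
    rw [Md.val_cjE, Md.val_mk] at h4 h5
    exact ⟨mul_inv_eq_iff_eq_mul.1 h4, mul_inv_eq_iff_eq_mul.1 h5⟩
  · intro h0
    refine hy1 (hWa _ hy' (Md.ext ?_))
    rw [Md.val_cjE, ha, Md.val_mk]
    exact h0
  · intro h0
    refine hz1 (hWa _ hz' (Md.ext ?_))
    rw [Md.val_cjE, ha, Md.val_mk]
    exact h0
  · intro h0
    apply hyz
    have h1 : (Md.cjE (X := Q) (hNW hz))⁻¹ * Md.cjE (hNW hy) = 1 := by
      refine hWa _ (mul_mem (inv_mem hz') hy') ?_
      rw [mul_smul, inv_smul_eq_iff]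
      refine Md.ext ?_
      rw [Md.val_cjE, Md.val_cjE, ha, Md.val_mk]
      exact h0
    exact (inv_mul_eq_one.1 h1).symm

/-- **THEOREM L for `m = 2`** (bb OMEGA #18061, #18702, #18734), from (T). -/
theorem LTwo_of (h : Sit S P V M) (F : Fours M μ ν) (hT : ∀ y : Pt k 2, y.2 ≠ 0 → TT h F y) {x : Pt k 2}
    (hx : x.2 ≠ 0) : o2 (centralizer ({pr M x (μ x)} : Set G)) ≤ P := by
  classical
  by_contra hWP
  have : Nonempty (Fin k) := ⟨⟨0, h.hk⟩⟩
  have h2 : ∀ l : Fin k, ((l, 1) : Pt k 2).2 ≠ 0 := fun l => by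
    change (1 : Fin (2 ^ 2 + 1)) ≠ 0
    decide
  refine false_of_three (ι := Fin k) S (A := Fours.A h F) (S.isPGroup'.to_le (Fours.A_le h F))
    (a := fun l => pr M (ν (l, 1)) (μ (ν (l, 1)))) (n := fun l => pr M (l, 1) (μ (l, 1))) ?_ ?_ ?_
    (LTwoTr.act h F) ?_ ?_
  · intro y hy l
    exact (LTwoTr.comm_all_iff h F hy.1).2 hy _ (fun h0 => h2 l (F.nnz.1 h0))
  · intro y hy l
    exact (LTwoTr.comm_all_iff h F hy.1).2 hy _ (h2 l)
  · intro l
    obtain ⟨y, hy, y', hy', h3, h4, h5, h6⟩ := exists_two h F (h2 l) (hT _ (h2 l))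
      (LTwoTr.not_le_of h F hx (h2 l) hWP)
    refine ⟨y, hy, y', hy', fun j hj => ?_, h4, h5, h6⟩
    obtain ⟨k1, k2⟩ := h3 (j, 1) hj
    obtain ⟨k3, k4⟩ := h3 (ν (j, 1)) (by rw [F.nfst]; exact hj)
    exact ⟨k3, k1, k4, k2⟩
  · rw [LTwoTr.card_DX F, Fintype.card_fin]
  · intro s hs
    exact (LTwoTr.mem_ker_act h F).1 hs

end main

end Cfsg.Agent.Omega.IId.SymWr
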