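import Cfsg.Agent.Omega.IId.SymWrD.TThm
import Cfsg.Agent.Omega.IId.SymWr.LThm

/-!
# II.d, `SwBig`: (T) of THEOREM L (bb OMEGA #17498), `D = 1`, all `m ≥ 2`

`tt` : `TT h F x`, from `SymWrD.tt`.
-/

set_option autoImplicit false

namespace Cfsg.Agent.Omega.IId.SymWr

open Subgroup Pointwise Cfsg Cfsg.Agent.ZN Cfsg.Agent.Omega.MinPar Cfsg.Agent.Omega.FFThm
open Cfsg.Agent.Omega.Half.SymA (Pt E Mv pm)

universe u

variable {G : Type u} [Group G] {P V : Subgroup G} {k m : ℕ}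

theorem Fours.toD {S : Subgroup G} {M : SymK S P V ⊥ k m} {μ ν : Equiv.Perm (Pt k m)} (F : Fours M μ ν) :
    SymWrD.Fours M μ ν :=
  ⟨F.mfst, F.nfst, F.mzero, F.nzero, F.mne, F.nne, F.nmu, F.msq, F.nsq, F.comm, F.meqv, F.neqv⟩

/-- **(T)** -/
theorem tt [Finite G] {S : Sylow 2 G} {M : SymK (S : Subgroup G) P V ⊥ k m} {μ ν : Equiv.Perm (Pt k m)}
    (h : Sit S P V M) (F : Fours M μ ν) {x : Pt k m} (hx : x.2 ≠ 0) : TT h F x :=
  SymWrD.tt (SymWrD.Sit.of_sit h) F.toD hx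

end Cfsg.Agent.Omega.IId.SymWr
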