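import Mathlib

/-!
# The transfer of fixed vectors (for bb OMEGA #17498, (E))

`Γ` is a group which acts on the abelian group `Y`.  For subgroups `H`, `K` of `Γ` and `y : Y` which is fixed by the
elements of `H ⊓ K`, `tr H K y` is the sum of the vectors `k • y`, `k` in a system of representatives of the cosets of
`H ⊓ K` in `K`.

* `tr_add`, `tr_zero`;
* `tr_eq_sum` : any system of representatives;
* `smul_tr_mem` : `K` fixes `tr H K y`;
* `tr_of_fix` : `tr H K y = (H.relIndex K) • y` if `K` fixes `y`; `tr_odd` : `= y` if the index is odd, `y + y = 0`;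
* `tr_tr` : transitivity, `H ≤ K ≤ L`;
* `smul_tr` : conjugation; `smul_tr_self` : if `g` normalises `H` and `K`; `smul_tr_comm` : if `g` commutes with `K`;
* `tr_mul` : `K = L H`; `tr_inf` : `tr (H ⊓ K) K = tr H K`; `tr_comm` : two commuting transfers.
-/

set_option autoImplicit false

namespace Cfsg.Agent.Omega.IId.SymWr

open Subgroup

variable {Γ : Type*} [Group Γ] {Y : Type*} [AddCommGroup Y] [DistribMulAction Γ Y]

/-- The transfer of `y` from `H` to `K`: the sum of the `k • y`, `k` in a system of representatives of the cosets of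
`H ⊓ K` in `K`. -/
noncomputable def tr (H K : Subgroup Γ) (y : Y) : Y :=
  ∑ᶠ c : K ⧸ H.subgroupOf K, ((Quotient.out c : K) : Γ) • y

theorem tr_zero (H K : Subgroup Γ) : tr H K (0 : Y) = 0 := by
  rw [tr]
  simp only [smul_zero, finsum_zero]

/-- any system of representatives may be used -/
theorem tr_eq_sum {ι : Type*} [Fintype ι] {H K : Subgroup Γ} {y : Y} (hy : ∀ h ∈ H, h ∈ K → h • y = y) (f : ι → Γ)
    (hf : ∀ i, f i ∈ K) (hinj : ∀ i j, (f i)⁻¹ * f j ∈ H → i = j) (hsurj : ∀ k ∈ K, ∃ i, (f i)⁻¹ * k ∈ H) :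
    tr H K y = ∑ i, f i • y := by
  classical
  have hb : Function.Bijective fun i : ι => (QuotientGroup.mk (⟨f i, hf i⟩ : K) : K ⧸ H.subgroupOf K) := by
    constructor
    · intro i j hij
      have h1 := QuotientGroup.eq.1 hij
      rw [mem_subgroupOf] at h1
      exact hinj i j h1
    · intro c
      obtain ⟨k, rfl⟩ := QuotientGroup.mk_surjective c
      obtain ⟨i, hi⟩ := hsurj k k.2
      refine ⟨i, ?_⟩
      change (QuotientGroup.mk (⟨f i, hf i⟩ : K) : K ⧸ H.subgroupOf K) = QuotientGroup.mk k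
      rw [QuotientGroup.eq, mem_subgroupOf]
      exact hi
  rw [tr, ← finsum_eq_sum_of_fintype]
  refine (finsum_eq_of_bijective _ hb fun i => ?_).symm
  obtain ⟨h, hh⟩ := QuotientGroup.mk_out_eq_mul (H.subgroupOf K) (⟨f i, hf i⟩ : K)
  have h1 : ((h : K) : Γ) ∈ H := mem_subgroupOf.1 h.2
  rw [show ((Quotient.out (QuotientGroup.mk (⟨f i, hf i⟩ : K) : K ⧸ H.subgroupOf K)) : K) =
    (⟨f i, hf i⟩ : K) * (h : K) from hh, Subgroup.coe_mul, mul_smul, hy _ h1 (h : K).2]

/-- `Quotient.out` gives a system of representatives -/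
theorem out_inj {H K : Subgroup Γ} {c d : K ⧸ H.subgroupOf K}
    (h : ((Quotient.out c : K) : Γ)⁻¹ * ((Quotient.out d : K) : Γ) ∈ H) : c = d := by
  have h1 : (QuotientGroup.mk (Quotient.out c : K) : K ⧸ H.subgroupOf K) = QuotientGroup.mk (Quotient.out d : K) := by
    rw [QuotientGroup.eq, mem_subgroupOf]
    exact h
  rwa [QuotientGroup.out_eq', QuotientGroup.out_eq'] at h1

theorem out_surj (H : Subgroup Γ) {K : Subgroup Γ} {k : Γ} (hk : k ∈ K) :
    ∃ c : K ⧸ H.subgroupOf K, ((Quotient.out c : K) : Γ)⁻¹ * k ∈ H := by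
  refine ⟨QuotientGroup.mk (⟨k, hk⟩ : K), ?_⟩
  have h1 : (QuotientGroup.mk (Quotient.out (QuotientGroup.mk (⟨k, hk⟩ : K) : K ⧸ H.subgroupOf K) : K) :
      K ⧸ H.subgroupOf K) = QuotientGroup.mk (⟨k, hk⟩ : K) := QuotientGroup.out_eq' _
  rw [QuotientGroup.eq, mem_subgroupOf] at h1
  exact h1

variable [Finite Γ]

theorem tr_add (H K : Subgroup Γ) (x y : Y) : tr H K (x + y) = tr H K x + tr H K y := by
  rw [tr, tr, tr, ← finsum_add_distrib (Set.toFinite _) (Set.toFinite _)]
  simp only [smul_add]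

theorem tr_sum {ι : Type*} (s : Finset ι) (H K : Subgroup Γ) (f : ι → Y) :
    tr H K (∑ i ∈ s, f i) = ∑ i ∈ s, tr H K (f i) := by
  classical
  induction s using Finset.induction_on with
  | empty => simp only [Finset.sum_empty, tr_zero]
  | insert i s hi ih => rw [Finset.sum_insert hi, tr_add, ih, Finset.sum_insert hi]

/-- `K` fixes the transfer -/
theorem smul_tr_mem {H K : Subgroup Γ} {y : Y} (hy : ∀ h ∈ H, h ∈ K → h • y = y) {g : Γ} (hg : g ∈ K) :
    g • tr H K y = tr H K y := by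
  classical
  have := Fintype.ofFinite (K ⧸ H.subgroupOf K)
  have h1 : tr H K y = ∑ c : K ⧸ H.subgroupOf K, ((Quotient.out c : K) : Γ) • y := by
    rw [tr, finsum_eq_sum_of_fintype]
  have h2 : tr H K y = ∑ c : K ⧸ H.subgroupOf K, (g * ((Quotient.out c : K) : Γ)) • y := by
    refine tr_eq_sum hy _ (fun c => mul_mem hg (Quotient.out c : K).2) (fun c d hcd => ?_) fun k hk => ?_
    · refine out_inj ?_
      rwa [mul_inv_rev, mul_assoc, inv_mul_cancel_left] at hcd
    · obtain ⟨c, hc⟩ := out_surj H (mul_mem (inv_mem hg) hk)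
      refine ⟨c, ?_⟩
      rwa [mul_inv_rev, mul_assoc]
  conv_rhs => rw [h2]
  rw [h1, Finset.smul_sum]
  refine Finset.sum_congr rfl fun c _ => ?_
  rw [mul_smul]

theorem tr_of_fix {H K : Subgroup Γ} {y : Y} (hy : ∀ k ∈ K, k • y = y) : tr H K y = (H.relIndex K) • y := by
  classical
  have := Fintype.ofFinite (K ⧸ H.subgroupOf K)
  have h1 : ∀ c : K ⧸ H.subgroupOf K, ((Quotient.out c : K) : Γ) • y = y := fun c => hy _ (Quotient.out c : K).2
  rw [tr, finsum_eq_sum_of_fintype]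
  simp only [h1]
  rw [Finset.sum_const, Finset.card_univ, ← Nat.card_eq_fintype_card]
  rfl

theorem tr_odd {H K : Subgroup Γ} {y : Y} (hy : ∀ k ∈ K, k • y = y) (hodd : Odd (H.relIndex K)) (h2 : y + y = 0) :
    tr H K y = y := by
  rw [tr_of_fix hy]
  obtain ⟨n, hn⟩ := hodd
  rw [hn, add_smul, one_smul, mul_comm, mul_smul, two_smul, h2, smul_zero, zero_add]

/-- transitivity -/
theorem tr_tr {H K L : Subgroup Γ} (hHK : H ≤ K) (hKL : K ≤ L) {y : Y} (hy : ∀ h ∈ H, h • y = y) :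
    tr K L (tr H K y) = tr H L y := by
  classical
  have := Fintype.ofFinite (K ⧸ H.subgroupOf K)
  have := Fintype.ofFinite (L ⧸ K.subgroupOf L)
  have h1 : tr H L y = ∑ x : (L ⧸ K.subgroupOf L) × (K ⧸ H.subgroupOf K),
      (((Quotient.out x.1 : L) : Γ) * ((Quotient.out x.2 : K) : Γ)) • y := by
    refine tr_eq_sum (fun h hh _ => hy h hh) _ (fun x => mul_mem (Quotient.out x.1 : L).2
      (hKL (Quotient.out x.2 : K).2)) (fun x x' hx => ?_) fun l hl => ?_
    · have h3 : ((Quotient.out x.1 : L) : Γ)⁻¹ * ((Quotient.out x'.1 : L) : Γ) ∈ K := by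
        have h4 := mul_mem (mul_mem (Quotient.out x.2 : K).2 (hHK hx)) (inv_mem (Quotient.out x'.2 : K).2)
        convert h4 using 1
        group
      have h5 : x.1 = x'.1 := out_inj h3
      have h6 : x.2 = x'.2 := by
        refine out_inj ?_
        rw [h5] at hx
        convert hx using 1
        group
      exact Prod.ext h5 h6
    · obtain ⟨c, hc⟩ := out_surj K hl
      obtain ⟨d, hd⟩ := out_surj H hc
      refine ⟨(c, d), ?_⟩
      rwa [mul_inv_rev, mul_assoc]
  rw [h1, Fintype.sum_prod_type, tr, finsum_eq_sum_of_fintype]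
  refine Finset.sum_congr rfl fun c _ => ?_
  rw [tr, finsum_eq_sum_of_fintype, Finset.smul_sum]
  refine Finset.sum_congr rfl fun d _ => ?_
  rw [mul_smul]

/-- conjugation -/
theorem smul_tr {H K H' K' : Subgroup Γ} {y : Y} (hy : ∀ h ∈ H, h ∈ K → h • y = y) {g : Γ}
    (hH : ∀ x, g * x * g⁻¹ ∈ H' ↔ x ∈ H) (hK : ∀ x, g * x * g⁻¹ ∈ K' ↔ x ∈ K) :
    g • tr H K y = tr H' K' (g • y) := by
  classical
  have := Fintype.ofFinite (K ⧸ H.subgroupOf K)
  have h2 : tr H' K' (g • y) = ∑ c : K ⧸ H.subgroupOf K, (g * ((Quotient.out c : K) : Γ) * g⁻¹) • (g • y) := by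
    refine tr_eq_sum (fun h hh hk => ?_) _ (fun c => (hK _).2 (Quotient.out c : K).2) (fun c d hcd => ?_)
      fun k hk => ?_
    · have h3 : g * (g⁻¹ * h * g) * g⁻¹ = h := by group
      have h4 : g⁻¹ * h * g ∈ H := by rw [← hH, h3]; exact hh
      have h5 : g⁻¹ * h * g ∈ K := by rw [← hK, h3]; exact hk
      have h6 := hy _ h4 h5
      rw [mul_assoc, mul_smul, inv_smul_eq_iff, mul_smul] at h6
      exact h6
    · refine out_inj ?_
      rw [← hH]
      convert hcd using 1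
      group
    · have h3 : g * (g⁻¹ * k * g) * g⁻¹ = k := by group
      have h5 : g⁻¹ * k * g ∈ K := by rw [← hK, h3]; exact hk
      obtain ⟨c, hc⟩ := out_surj H h5
      refine ⟨c, ?_⟩
      rw [← hH] at hc
      convert hc using 1
      group
  rw [h2, tr, finsum_eq_sum_of_fintype, Finset.smul_sum]
  refine Finset.sum_congr rfl fun c _ => ?_
  rw [mul_smul, mul_smul, inv_smul_smul]

omit [Finite Γ] in
/-- an element which conjugates `H` into `H` normalises `H` (finite groups) -/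
theorem conj_mem_iff [Finite Γ] {H : Subgroup Γ} {g : Γ} (h : ∀ x ∈ H, g * x * g⁻¹ ∈ H) (x : Γ) :
    g * x * g⁻¹ ∈ H ↔ x ∈ H := by
  refine ⟨fun hx => ?_, h x⟩
  have h1 : H.map (MulAut.conj g).toMonoidHom = H := by
    refine Subgroup.eq_of_le_of_card_ge ?_ ?_
    · rintro _ ⟨x, hx, rfl⟩
      exact h x hx
    · rw [Subgroup.card_map_of_injective (MulAut.conj g).injective]
  rw [← h1] at hx
  obtain ⟨w, hw, h2⟩ := hx
  have h3 : g * w * g⁻¹ = g * x * g⁻¹ := h2
  have h4 : w = x := by simpa using h3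
  exact h4 ▸ hw

theorem smul_tr_self {H K : Subgroup Γ} {y : Y} (hy : ∀ h ∈ H, h ∈ K → h • y = y) {g : Γ}
    (hH : ∀ x ∈ H, g * x * g⁻¹ ∈ H) (hK : ∀ x ∈ K, g * x * g⁻¹ ∈ K) : g • tr H K y = tr H K (g • y) :=
  smul_tr hy (conj_mem_iff hH) (conj_mem_iff hK)

/-- an element which commutes with `K` -/
theorem smul_tr_comm {H K : Subgroup Γ} {g : Γ} (hg : ∀ k ∈ K, g * k = k * g) (y : Y) :
    g • tr H K y = tr H K (g • y) := by
  classical
  have := Fintype.ofFinite (K ⧸ H.subgroupOf K)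
  rw [tr, tr, finsum_eq_sum_of_fintype, finsum_eq_sum_of_fintype, Finset.smul_sum]
  refine Finset.sum_congr rfl fun c _ => ?_
  rw [smul_smul, smul_smul, hg _ (Quotient.out c : K).2]

omit [Finite Γ] in
/-- only `H ⊓ K` matters -/
theorem tr_inf (H K : Subgroup Γ) (y : Y) : tr (H ⊓ K) K y = tr H K y := by
  rw [tr, tr, inf_subgroupOf_right]

/-- `K = L H` -/
theorem tr_mul {H K L : Subgroup Γ} {y : Y} (hy : ∀ h ∈ H, h ∈ K → h • y = y) (hLK : L ≤ K)
    (hK : ∀ k ∈ K, ∃ l ∈ L, l⁻¹ * k ∈ H) : tr H K y = tr H L y := by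
  classical
  have := Fintype.ofFinite (L ⧸ H.subgroupOf L)
  rw [tr_eq_sum hy (fun c : L ⧸ H.subgroupOf L => ((Quotient.out c : L) : Γ))
    (fun c => hLK (Quotient.out c : L).2) (fun c d => out_inj) fun k hk => ?_]
  · rw [tr, finsum_eq_sum_of_fintype]
  · obtain ⟨l, hl, h1⟩ := hK k hk
    obtain ⟨c, hc⟩ := out_surj H hl
    refine ⟨c, ?_⟩
    have := mul_mem hc h1
    convert this using 1
    group

/-- two commuting transfers -/
theorem tr_comm {H K H' K' : Subgroup Γ} (hc : ∀ k ∈ K, ∀ l ∈ K', k * l = l * k) (y : Y) :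
    tr H K (tr H' K' y) = tr H' K' (tr H K y) := by
  classical
  have := Fintype.ofFinite (K ⧸ H.subgroupOf K)
  have h0 : ∀ x : Y, tr H K x = ∑ c : K ⧸ H.subgroupOf K, ((Quotient.out c : K) : Γ) • x := fun x => by
    rw [tr, finsum_eq_sum_of_fintype]
  rw [h0, h0, tr_sum]
  exact Finset.sum_congr rfl fun c _ => smul_tr_comm (fun l hl => hc _ (Quotient.out c : K).2 l hl) y

end Cfsg.Agent.Omega.IId.SymWr
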